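import Cfsg.Agent.Lib.ThreeTransp.Polar.Parity
import Cfsg.Agent.Lib.ThreeTransp.TranspModels
import Cfsg.Agent.Lib.Geometry.SymplecticBasis

/-!
Lines of three members: the group is a symplectic group over two elements with the class of transvections.
-/

set_option autoImplicit false
set_option linter.unusedSectionVars false
set_option linter.style.haveILetI false

namespace CfsgLib.ThreeTransp.Polar

open Cfsg Matrix CfsgLib.Involutions CfsgLib.ThreeTransp CfsgLib.Classical CfsgLib.ThreeTransp.Models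
open CfsgLib.ThreeTransp.SolvLocal (perp2 line left_mem_line right_mem_line line_clique line_subset line_comm)

universe u

variable {G : Type u} [Group G] {D : Set G}

open scoped _root_.Classical in
/-- The values on the members of the non-commuting indicator of a member. -/
noncomputable def row (a : D) : D → ZMod 2 := fun u => ind (a : G) (u : G)

theorem ind_self (a : G) : ind a a = 0 := by
  classical
  exact if_pos (Commute.refl a)

theorem ind_eq_zero {a b : G} : ind a b = 0 ↔ Commute a b := by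
  classical
  unfold ind
  by_cases h : Commute a b <;> simp [h]

theorem ind_eq_one {a b : G} (h : ¬ Commute a b) : ind a b = 1 := by
  classical
  exact if_neg h

variable (hH : Hyp D)
include hH

theorem row_inj [Finite G] : Function.Injective (row (D := D)) := by
  intro a b e
  have hab : Commute (a : G) b := by
    have h := congrFun e b
    simp only [row, ind_self] at h
    exact ind_eq_zero.1 h
  have hS : SameC D (a : G) b := ⟨b.2, fun u hu => by
    have h := congrFun e ⟨u, hu⟩
    simp only [row] at h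
    rw [← ind_eq_zero, ← ind_eq_zero, h]⟩
  have hm := sameC_mul_mem_pCore hH.cls.ts hH.cls.conj a.2 hS
  obtain ⟨c, hc⟩ := hH.edges _ a.2
  have hz := (hH.cls.pCores_central_of_primitive hH.prim ⟨_, a.2, c, hc.1, hc.2.1.symm, hc.2.2⟩).1 hm
  rw [hH.centre, Subgroup.mem_bot] at hz
  exact Subtype.ext (by rw [eq_inv_of_mul_eq_one_left hz, ts_inv hH.cls.ts b.2])

theorem row_ne [Finite G] (a : D) : row a ≠ 0 := by
  obtain ⟨c, hc, hca⟩ := hH.cls.exists_noncommute a.2
  intro e
  have h := congrFun e ⟨c, hc⟩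
  exact hca (ind_eq_zero.1 h).symm

theorem row_add [Finite G] (hL : ∀ a ∈ D, ∀ b ∈ nb D a, (line D a b).ncard = 3) (a b : D) :
    row a + row b = 0 ∨ ∃ c : D, row a + row b = row c := by
  by_cases hab : a = b
  · left; subst hab; funext u; exact CharTwo.add_self_eq_zero _
  right
  by_cases hc : Commute (a : G) b
  · have hb : (b : G) ∈ nb D a := ⟨b.2, fun e => hab (Subtype.ext e.symm), hc⟩
    obtain ⟨c, hcl, hca, hcb⟩ := third hH a.2 hb
    have hline : line D (a : G) b = {(a : G), (b : G), c} := by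
      refine (Set.eq_of_subset_of_ncard_le ?_ ?_ (Set.toFinite _)).symm
      · rintro w (rfl | rfl | rfl)
        exacts [left_mem_line a.2 hb, right_mem_line hb, hcl]
      · rw [hL _ a.2 _ hb, Set.ncard_eq_three.2 ⟨(a : G), (b : G), c, hb.2.1.symm, hca.symm, hcb.symm, rfl⟩]
    refine ⟨⟨c, line_subset hcl⟩, funext fun u => ?_⟩
    show ind (a : G) u + ind (b : G) u = ind c u
    obtain ⟨w, hw, huw⟩ := exists_meet hH a.2 hb u.2
    have ha := left_mem_line (D := D) a.2 hb
    have hb' := right_mem_line (D := D) hb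
    have key : ∀ {p q r : G}, p ∈ line D (a : G) b → q ∈ line D (a : G) b → r ∈ line D (a : G) b → p ≠ q →
        p ≠ r → Commute (u : G) p → (ind q (u : G) = 0 ↔ ind r (u : G) = 0) := by
      intro p q r hp hq hr hpq hpr h
      rw [ind_eq_zero, ind_eq_zero]
      exact ⟨fun h' => (commute_all hH a.2 hb u.2 hp hq hpq h h'.symm hr).symm,
        fun h' => (commute_all hH a.2 hb u.2 hp hr hpr h h'.symm hq).symm⟩
    rw [hline] at hw
    rcases hw with rfl | rfl | rfl
    · have k := key ha hb' hcl hb.2.1.symm hca.symm huw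
      rw [ind_eq_zero.2 huw.symm, zero_add]
      rcases z2_cases (ind (b : G) u) with e | e
      · rw [e, k.1 e]
      · rw [e, z2_ne (ind c (u : G)) fun h => by rw [k.2 h] at e; exact zero_ne_one e]
    · have k := key hb' ha hcl hb.2.1 hcb.symm huw
      rw [ind_eq_zero.2 huw.symm, add_zero]
      rcases z2_cases (ind (a : G) u) with e | e
      · rw [e, k.1 e]
      · rw [e, z2_ne (ind c (u : G)) fun h => by rw [k.2 h] at e; exact zero_ne_one e]
    · have k := key hcl ha hb' hca hcb huw
      rw [ind_eq_zero.2 huw.symm]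
      rcases z2_cases (ind (a : G) u) with e | e
      · rw [e, k.1 e, add_zero]
      · rw [e, z2_ne (ind (b : G) u) fun h => by rw [k.2 h] at e; exact zero_ne_one e]
        decide
  · refine ⟨⟨(a : G) * b * a, by simpa [ts_inv hH.cls.ts a.2] using hH.cls.conj a b b.2⟩, funext fun u => ?_⟩
    show ind (a : G) u + ind (b : G) u = ind ((a : G) * b * a) u
    rw [parity hH hL a.2 b.2 hc u.2, add_comm]

/-- The class as the non-zero vectors of a symplectic space. -/
theorem exists_coords [Finite G] (hL : ∀ a ∈ D, ∀ b ∈ nb D a, (line D a b).ncard = 3) :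
    ∃ (m : ℕ) (φ : D → Fin m ⊕ Fin m → ZMod 2), Function.Injective φ ∧ (∀ a, φ a ≠ 0) ∧
      (∀ v, v ≠ 0 → ∃ a, φ a = v) ∧ ∀ a b : D, sbil (φ a) (φ b) = ind (a : G) b := by
  classical
  let W : Submodule (ZMod 2) (D → ZMod 2) :=
    { carrier := insert 0 (Set.range row)
      zero_mem' := Or.inl rfl
      add_mem' := by
        rintro p q (rfl | ⟨a, rfl⟩) (rfl | ⟨b, rfl⟩)
        · exact Or.inl (add_zero _)
        · exact Or.inr ⟨b, (zero_add _).symm⟩
        · exact Or.inr ⟨a, (add_zero _).symm⟩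
        · rcases row_add hH hL a b with h | ⟨c, h⟩
          · exact Or.inl h
          · exact Or.inr ⟨c, h.symm⟩
      smul_mem' := by
        intro c p hp
        rcases z2_cases c with rfl | rfl
        · rw [zero_smul]; exact Or.inl rfl
        · rw [one_smul]; exact hp }
  have hpre : ∀ p : W, ∃ o : Option D, (p : D → ZMod 2) = o.elim 0 row := by
    rintro ⟨p, rfl | ⟨a, rfl⟩⟩
    exacts [⟨none, rfl⟩, ⟨some a, rfl⟩]
  choose pre hpre using hpre
  let ev : W → W → ZMod 2 := fun p q => (pre q).elim 0 (p : D → ZMod 2)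
  have hsym : ∀ p q, ev p q = ev q p := by
    intro p q
    simp only [ev]
    rw [hpre p, hpre q]
    cases pre p <;> cases pre q <;> simp [row, ind_comm]
  have hadd : ∀ p p' q, ev (p + p') q = ev p q + ev p' q := by
    intro p p' q
    simp only [ev]
    cases pre q <;> simp
  have hsmul : ∀ (c : ZMod 2) p q, ev (c • p) q = c • ev p q := by
    intro c p q
    simp only [ev]
    cases pre q <;> simp
  let B : LinearMap.BilinForm (ZMod 2) W := LinearMap.mk₂ (ZMod 2) ev hadd hsmul
    (fun p q q' => by rw [hsym, hadd, hsym q, hsym q']) (fun c p q => by rw [hsym, hsmul, hsym q])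
  have hBrow : ∀ (p : W) (a : D) (ha : row a ∈ W), B p ⟨row a, ha⟩ = (p : D → ZMod 2) a := by
    intro p a ha
    show ev p ⟨row a, ha⟩ = _
    have h := hpre ⟨row a, ha⟩
    simp only [ev]
    cases ho : pre ⟨row a, ha⟩ with
    | none => rw [ho] at h; exact absurd h (row_ne hH a)
    | some a' => rw [ho] at h; rw [Option.elim_some, ← row_inj hH (h : row a = row a')]
  have hA : B.IsAlt := by
    rintro ⟨p, rfl | ⟨a, rfl⟩⟩
    · show B (0 : W) (0 : W) = 0
      simp
    · exact (hBrow _ a _).trans (ind_self _)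
  obtain ⟨m, k, b, h1, h2, h3, h4⟩ := CfsgLib.Geometry.exists_sympBasis_aux (F := ZMod 2) _ rfl B hA
  have hk : IsEmpty (Fin k) := ⟨fun j => b.ne_zero (Sum.inr j) (by
    refine Subtype.ext (funext fun u => ?_)
    rw [← hBrow _ u (Or.inr ⟨u, rfl⟩)]
    exact h4 j _)⟩
  let b' : Module.Basis (Fin m ⊕ Fin m) (ZMod 2) W := b.reindex (Equiv.sumEmpty _ _)
  let ψ := b'.equivFun
  have hψ : ∀ p q, sbil (ψ p) (ψ q) = B p q := by
    intro p q
    let B' : LinearMap.BilinForm (ZMod 2) W := LinearMap.mk₂ (ZMod 2) (fun p q => sbil (ψ p) (ψ q))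
      (fun p p' q => by rw [map_add, sbil_add_left]) (fun c p q => by rw [map_smul, sbil_smul_left]; rfl)
      (fun p q q' => by rw [map_add, sbil_add_right]) (fun c p q => by rw [map_smul, sbil_smul_right]; rfl)
    suffices h : B' = B by exact congrArg (fun f : LinearMap.BilinForm (ZMod 2) W => f p q) h
    refine b'.ext fun i => b'.ext fun j => ?_
    show sbil (ψ (b' i)) (ψ (b' j)) = B (b' i) (b' j)
    have e : ∀ i, ψ (b' i) = Pi.single i 1 := fun i => by
      funext l; simp [ψ, Module.Basis.equivFun_self, Pi.single_apply, eq_comm]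
    have hb' : ∀ i, b' i = b (Sum.inl i) := fun i => by simp [b']
    rw [e, e, hb', hb']
    rcases i with i | i <;> rcases j with j | j
    · rw [sbil_single_inl, h2]; simp
    · rw [sbil_single_inr, h1, CharTwo.neg_eq]; simp [Pi.single_apply, eq_comm]
    · rw [sbil_single_inl, ← hA.neg_eq, h1, CharTwo.neg_eq]; simp [Pi.single_apply, eq_comm]
    · rw [sbil_single_inr, h3]; simp
  refine ⟨m, fun a => ψ ⟨row a, Or.inr ⟨a, rfl⟩⟩, fun a a' e => row_inj hH (congrArg Subtype.val (ψ.injective e)),
    fun a e => row_ne hH a (congrArg Subtype.val (ψ.map_eq_zero_iff.1 e)), fun v hv => ?_, fun a a' => ?_⟩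
  · obtain ⟨⟨p, hp⟩, rfl⟩ := ψ.surjective v
    rcases hp with rfl | ⟨a, rfl⟩
    · exact absurd (map_zero ψ) hv
    · exact ⟨a, rfl⟩
  · exact (hψ _ _).trans (hBrow _ a' _)

/-- Coordinates give the isomorphism. -/
theorem symp_of_coords [Finite G] {m : ℕ} (φ : D → Fin m ⊕ Fin m → ZMod 2) (hinj : Function.Injective φ)
    (hne : ∀ a, φ a ≠ 0) (hsurj : ∀ v, v ≠ 0 → ∃ a, φ a = v)
    (hB : ∀ a b : D, sbil (φ a) (φ b) = ind (a : G) b)
    (hpar : ∀ a b u : D, ¬ Commute (a : G) b → ind ((a : G) * b * a) u = ind (b : G) u + ind (a : G) u) :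
    ∃ e : G ≃* Matrix.symplecticGroup (Fin m) (ZMod 2), e '' D = spCls m := by
  classical
  have hT := hH.cls.ts
  let cj : G → D → D := fun g a => ⟨g * a * g⁻¹, hH.cls.conj g a a.2⟩
  choose pre hpre using hsurj
  let T : G → (Fin m ⊕ Fin m → ZMod 2) → Fin m ⊕ Fin m → ZMod 2 := fun g v =>
    if h : v = 0 then 0 else φ (cj g (pre v h))
  have hext : ∀ {p q : Fin m ⊕ Fin m → ZMod 2}, (∀ a, sbil p (φ a) = sbil q (φ a)) → p = q := fun {p q} h =>
    sbil_ext fun x => if hx : x = 0 then by subst hx; simp else by rw [← hpre x hx]; exact h _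
  have hTφ : ∀ g a, T g (φ a) = φ (cj g a) := fun g a => by
    simp only [T, dif_neg (hne a)]
    rw [hinj (hpre (φ a) (hne a))]
  have hTB : ∀ g v a, sbil (T g v) (φ (cj g a)) = sbil v (φ a) := by
    intro g v a
    by_cases hv : v = 0
    · subst hv; simp [T]
    · rw [← hpre v hv, hTφ, hB, hB]; exact ind_conj g _ _
  have hcj : ∀ g a, ∃ a', cj g a' = a := fun g a => ⟨cj g⁻¹ a, Subtype.ext (by simp [cj, mul_assoc])⟩
  have hTadd : ∀ g v w, T g (v + w) = T g v + T g w := fun g v w => hext fun a => by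
    obtain ⟨a', rfl⟩ := hcj g a
    rw [sbil_add_left, hTB, hTB, hTB, sbil_add_left]
  let TL : G → (Fin m ⊕ Fin m → ZMod 2) →ₗ[ZMod 2] (Fin m ⊕ Fin m → ZMod 2) := fun g =>
    { toFun := T g
      map_add' := hTadd g
      map_smul' := fun c v => by
        rcases z2_cases c with rfl | rfl
        · simp [T]
        · simp }
  have hmul : ∀ g h v, T (g * h) v = T g (T h v) := by
    intro g h v
    by_cases hv : v = 0
    · subst hv; simp [T]
    · rw [← hpre v hv, hTφ, hTφ, hTφ]
      congr 1
      exact Subtype.ext (by simp [cj, mul_assoc])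
  have hone : ∀ v, T 1 v = v := fun v => by
    by_cases hv : v = 0
    · subst hv; simp [T]
    · rw [← hpre v hv, hTφ]
      congr 1
      exact Subtype.ext (by simp [cj])
  have hpres : ∀ g v w, sbil (T g v) (T g w) = sbil v w := by
    intro g v w
    by_cases hw : w = 0
    · subst hw; simp [T]
    · rw [← hpre w hw, hTφ, hTB]
  let ρ₀ : G → Matrix.symplecticGroup (Fin m) (ZMod 2) := fun g =>
    ⟨LinearMap.toMatrix' (TL g), mem_symplecticGroup_iff_sbil.2 fun u v => by
      rw [LinearMap.toMatrix'_mulVec, LinearMap.toMatrix'_mulVec]; exact hpres g u v⟩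
  have hρv : ∀ g v, (ρ₀ g).1 *ᵥ v = T g v := fun g v => LinearMap.toMatrix'_mulVec _ _
  let ρ : G →* Matrix.symplecticGroup (Fin m) (ZMod 2) := MonoidHom.mk' ρ₀ fun g h => sp_ext fun v => by
    rw [sp_mul_mulVec, hρv, hρv, hρv, hmul]
  have hρ : ∀ g v, (ρ g).1 *ᵥ v = T g v := hρv
  have hρD : ∀ a : D, ρ a = stv 1 (φ a) := by
    intro a
    refine sp_ext fun v => ?_
    rw [hρ, stv_mulVec, one_mul]
    refine hext fun u => ?_
    obtain ⟨u', rfl⟩ := hcj (a : G) u
    rw [hTB, sbil_add_left, sbil_smul_left]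
    by_cases hv : v = 0
    · subst hv; simp
    rw [← hpre v hv, hB, hB, hB, hB]
    set b := pre v hv
    show ind (b : G) u' = ind (b : G) ((a : G) * u' * (a : G)⁻¹) + ind (a : G) b * ind (a : G) ((a : G) * u' * (a : G)⁻¹)
    have e1 : ind (a : G) ((a : G) * u' * (a : G)⁻¹) = ind (a : G) u' := by
      conv_lhs => arg 1; rw [show (a : G) = (a : G) * a * (a : G)⁻¹ by rw [mul_inv_cancel_right]]
      exact ind_conj _ _ _
    rw [e1, ts_inv hT a.2]
    by_cases hau : Commute (a : G) u'
    · have e : (a : G) * u' * a = u' := by rw [hau.eq, mul_assoc, ts_mul_self hT a.2, mul_one]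
      rw [e, show ind (a : G) u' = 0 from ind_eq_zero.2 hau, mul_zero, add_zero]
    · rw [ind_comm (b : G) ((a : G) * u' * a), hpar a u' b hau, ind_eq_one hau, mul_one, add_assoc,
        CharTwo.add_self_eq_zero, add_zero, ind_comm]
  have hρinj : Function.Injective ρ := by
    rw [← MonoidHom.ker_eq_bot_iff, eq_bot_iff, ← hH.centre]
    intro g hg
    refine Subgroup.mem_center_iff.2 fun k => ?_
    have hle : Subgroup.closure D ≤ Subgroup.centralizer ({g} : Set G) := by
      refine (Subgroup.closure_le _).2 fun d hd => Subgroup.mem_centralizer_singleton_iff.2 ?_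
      have h := hρ g (φ ⟨d, hd⟩)
      rw [MonoidHom.mem_ker.1 hg, sp_one_mulVec, hTφ] at h
      have h' : d = g * d * g⁻¹ := congrArg Subtype.val (hinj h)
      calc d * g = g * d * g⁻¹ * g := by rw [← h']
        _ = g * d := by group
    rw [hH.cls.gen] at hle
    exact Subgroup.mem_centralizer_singleton_iff.1 (hle (Subgroup.mem_top k))
  have hρsurj : Function.Surjective ρ := by
    refine MonoidHom.range_eq_top.1 (sp_eq_top_of_stv_mem _ fun c v => ?_)
    rcases z2_cases c with rfl | rfl
    · rw [stv_zero]; exact one_mem _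
    by_cases hv : v = 0
    · rw [show stv (1 : ZMod 2) v = 1 from sp_ext fun x => by simp [hv]]; exact one_mem _
    · exact ⟨pre v hv, by rw [hρD, hpre]⟩
  refine ⟨MulEquiv.ofBijective ρ ⟨hρinj, hρsurj⟩, ?_⟩
  ext g
  constructor
  · rintro ⟨d, hd, rfl⟩
    exact mem_spCls.2 ⟨_, hne ⟨d, hd⟩, hρD ⟨d, hd⟩⟩
  · intro hg
    obtain ⟨v, hv, rfl⟩ := mem_spCls.1 hg
    exact ⟨pre v hv, (pre v hv).2, by show ρ _ = _; rw [hρD, hpre]⟩

/-- Lines of three members: a symplectic group. -/
theorem symp_case [Finite G] (hL : ∀ a ∈ D, ∀ b ∈ nb D a, (line D a b).ncard = 3) :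
    ∃ (m : ℕ) (e : G ≃* Matrix.symplecticGroup (Fin m) (ZMod 2)), e '' D = spCls m := by
  obtain ⟨m, φ, h1, h2, h3, h4⟩ := exists_coords hH hL
  exact ⟨m, symp_of_coords hH φ h1 h2 h3 h4 fun a b u hab => parity hH hL a.2 b.2 hab u.2⟩

end CfsgLib.ThreeTransp.Polar
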