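import Cfsg.Agent.Lib.ThreeTransp.Polar.SympCase
import Cfsg.Agent.Lib.ThreeTransp.UnitaryTransp

/-!
A class whose commuting graph is the orthogonality graph of isotropic points over four elements generates
a projective unitary group.
-/

set_option autoImplicit false
set_option linter.unusedSectionVars false
set_option linter.style.haveILetI false

namespace CfsgLib.ThreeTransp.Polar

open Cfsg Matrix CfsgLib.Involutions CfsgLib.ThreeTransp CfsgLib.Classical.Unitary

universe u

variable {F : Type} [Field F] [Finite F] {σ : F →+* F} {n : ℕ}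

theorem four_two (hF : Nat.card F = 4) : Nat.card F = 2 ^ 2 := by rw [hF]; rfl

/-- The image of a transvection in the projective group. -/
def upt (hF : Nat.card F = 4) (h : UFrob σ 2) (u : Fin n → F) (hu : uh σ u u = 0) : Cfsg.PSU n F 2 :=
  QuotientGroup.mk (utv h u 1 hu (Models.skew_one (Models.four_facts hF h).2.2))

variable (hF : Nat.card F = 4) (h : UFrob σ 2)
include hF h

theorem char_two (v : Fin n → F) : v + v = 0 :=
  funext fun i => by
    have h2 := (Models.four_facts hF h).2.2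
    show v i + v i = 0
    linear_combination v i * h2

theorem eq_of_mk' (hn : 2 ≤ n) {g k : Cfsg.SU n F 2}
    (he : (QuotientGroup.mk g : Cfsg.PSU n F 2) = QuotientGroup.mk k) {z : Fin n → F} (hz : z ≠ 0)
    (hgz : g.1.1 *ᵥ z = z) (hkz : k.1.1 *ᵥ z = z) : g = k := by
  obtain ⟨c, -, -, hc⟩ := CfsgLib.Classical.SU_center_scalar (four_two hF) hn (QuotientGroup.eq.1 he)
  have hk : ∀ x, k.1.1 *ᵥ x = c • (g.1.1 *ᵥ x) := by
    intro x
    rw [← mul_inv_cancel_left g k, su_mul_mulVec, ← mulVec_smul]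
    congr 1
    rw [hc]; ext i; simp [mulVec_diagonal]
  have h3 := hk z
  rw [hgz, hkz] at h3
  obtain ⟨i, hi⟩ := Function.ne_iff.1 hz
  have hc1 : c = 1 := by
    have := congrFun h3 i
    simp only [Pi.smul_apply, smul_eq_mul, Pi.zero_apply] at this hi
    exact mul_right_cancel₀ hi (by rw [one_mul]; exact this.symm)
  exact su_ext fun x => by rw [hk, hc1, one_smul]

theorem upt_smul {u v : Fin n → F} (hu : uh σ u u = 0) (hv : uh σ v v = 0) {c : F} (hc : c ≠ 0) (e : v = c • u) :
    upt hF h v hv = upt hF h u hu := by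
  subst e
  refine congrArg _ (su_ext fun x => ?_)
  rw [utv_mulVec, utv_mulVec, uh_smul_right, smul_smul]
  congr 2
  linear_combination uh σ x u * (Models.four_facts hF h).2.1 c hc

theorem upt_eq (hn : 3 ≤ n) {u v : Fin n → F} (hu : uh σ u u = 0) (hv : uh σ v v = 0) (hu0 : u ≠ 0)
    (he : upt hF h u hu = upt hF h v hv) : ∃ a : F, u = a • v := by
  obtain ⟨z, hz, hzu, hzv⟩ := exists_perp_two h hn u v
  have := eq_of_mk' hF h (by omega) he hz (by rw [utv_mulVec, hzu, mul_zero, zero_smul, add_zero])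
    (by rw [utv_mulVec, hzv, mul_zero, zero_smul, add_zero])
  obtain ⟨x, hx⟩ := exists_uh_eq_one h hu0
  refine ⟨uh σ x v, ?_⟩
  have h1 := congrArg (fun g : Cfsg.SU n F 2 => g.1.1 *ᵥ x) this
  simp only [utv_mulVec, hx, mul_one, one_smul, one_mul] at h1
  exact add_left_cancel h1

theorem upt_sq {u : Fin n → F} (hu : uh σ u u = 0) : upt hF h u hu * upt hF h u hu = 1 := by
  refine congrArg QuotientGroup.mk (su_ext (k := 1) fun x => ?_)
  rw [su_mul_mulVec, su_one_mulVec, utv_mulVec, utv_mulVec, uh_add_left, uh_smul_left, hu, mul_zero, add_zero,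
    add_assoc, char_two hF h, add_zero]

theorem upt_commute {u v : Fin n → F} (hu : uh σ u u = 0) (hv : uh σ v v = 0) (huv : uh σ u v = 0) :
    Commute (upt hF h u hu) (upt hF h v hv) := by
  refine congrArg QuotientGroup.mk (su_ext fun x => ?_)
  simp only [su_mul_mulVec, utv_mulVec, uh_add_left, uh_smul_left, huv, h.swap_zero huv]
  module

theorem upt_conj {u v : Fin n → F} (hu : uh σ u u = 0) (hv : uh σ v v = 0)
    (hw : uh σ (v + uh σ v u • u) (v + uh σ v u • u) = 0) :
    upt hF h u hu * upt hF h v hv * upt hF h u hu = upt hF h (v + uh σ v u • u) hw := by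
  conv_lhs => arg 2; rw [← inv_eq_of_mul_eq_one_right (upt_sq hF h hu)]
  exact congrArg QuotientGroup.mk (TransvSU.utv_conj h _ hv hw (by rw [utv_mulVec, one_mul]) _ _)

theorem upt_gen (hn : 4 ≤ n) :
    Subgroup.closure {g : Cfsg.PSU n F 2 | ∃ u hu, u ≠ 0 ∧ upt hF h u hu = g} = ⊤ := by
  have hc := (Models.su_class hF h hn).2.2
  refine eq_top_iff.2 fun g _ => ?_
  obtain ⟨k, rfl⟩ := QuotientGroup.mk_surjective g
  have hle : Subgroup.closure {g : Cfsg.SU n F 2 | (g.1.1 - 1).rank = 1} ≤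
      (Subgroup.closure {g : Cfsg.PSU n F 2 | ∃ u hu, u ≠ 0 ∧ upt hF h u hu = g}).comap (QuotientGroup.mk' _) := by
    refine (Subgroup.closure_le _).2 fun t ht => ?_
    obtain ⟨u, hu, hu0, rfl⟩ := (Models.mem_suCls hF h (Models.four_facts hF h).2.2).1 ht
    exact Subgroup.subset_closure ⟨u, hu, hu0, rfl⟩
  exact hle (hc ▸ Subgroup.mem_top k)

theorem psu_centre (hn : 4 ≤ n) : Subgroup.center (Cfsg.PSU n F 2) = ⊥ := by
  haveI := isSimpleGroup_PSU (q := 2) (four_two hF) (by omega : 3 ≤ n) (by omega)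
  refine (Subgroup.Normal.eq_bot_or_eq_top (inferInstance : (Subgroup.center (Cfsg.PSU n F 2)).Normal)).resolve_right ?_
  intro htop
  obtain ⟨u, hu0, hu⟩ := TransvSU.exists_iso h (four_two hF) (by omega : 2 ≤ n)
  obtain ⟨x, hx⟩ := exists_uh_eq_one h hu0
  obtain ⟨θ, hθ⟩ := exists_trace h
  have h2 := (Models.four_facts hF h).2.2
  set v := x + (θ * uh σ x x) • u with hv
  have hxu' : uh σ u x = 1 := by rw [← h.symm, hx, map_one]
  have hvv : uh σ v v = 0 := by
    simp only [hv, uh_add_left, uh_add_right, uh_smul_left, uh_smul_right, hu, hxu', hx, map_mul, h.symm]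
    linear_combination uh σ x x * hθ + uh σ x x * h2
  have hvu : uh σ v u = 1 := by rw [hv, uh_add_left, uh_smul_left, hu, hx]; ring
  have hw : uh σ (v + uh σ v u • u) (v + uh σ v u • u) = 0 := by
    simp only [hvu, one_smul, uh_add_left, uh_add_right, hu, hvv, ← h.symm v u, map_one]
    linear_combination h2
  have e := upt_conj hF h hu hvv hw
  have hc : Commute (upt hF h u hu) (upt hF h v hvv) := (Subgroup.mem_center_iff.1 (htop ▸ Subgroup.mem_top _) _)
  rw [hc.eq, mul_assoc, upt_sq, mul_one] at e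
  obtain ⟨a, ha⟩ := upt_eq hF h (by omega) hvv hw (fun e0 => by rw [e0, uh_zero_left] at hvu; exact zero_ne_one hvu) e
  rw [hvu, one_smul] at ha
  have h1 := congrArg (fun z => uh σ z u) ha
  simp only [uh_smul_left, uh_add_left, hvu, hu, add_zero, mul_one] at h1
  rw [← h1, one_smul] at ha
  exact hu0 (left_eq_add.1 ha)

theorem exists_perp_three (hn : 4 ≤ n) (u v y : Fin n → F) :
    ∃ z : Fin n → F, z ≠ 0 ∧ uh σ z u = 0 ∧ uh σ z v = 0 ∧ uh σ z y = 0 := by
  let φ : (Fin n → F) →ₗ[F] Fin 3 → F := Matrix.mulVecLin (Matrix.of ![σ ∘ u, σ ∘ v, σ ∘ y])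
  have : LinearMap.ker φ ≠ ⊥ := LinearMap.ker_ne_bot_of_finrank_lt (by simp; omega)
  obtain ⟨z, hz, hz0⟩ := Submodule.exists_mem_ne_zero_of_ne_bot this
  rw [LinearMap.mem_ker] at hz
  refine ⟨z, hz0, ?_, ?_, ?_⟩
  · simpa [φ, uh, dotProduct, mulVec, mul_comm] using congrFun hz 0
  · simpa [φ, uh, dotProduct, mulVec, mul_comm] using congrFun hz 1
  · simpa [φ, uh, dotProduct, mulVec, mul_comm] using congrFun hz 2

/-- A vector orthogonal to every isotropic vector orthogonal to a hyperbolic pair lies in their span. -/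
theorem in_plane (hn : 4 ≤ n) {u v y : Fin n → F} (hu : uh σ u u = 0) (hv : uh σ v v = 0) (huv : uh σ u v ≠ 0)
    (hy : ∀ z, uh σ z z = 0 → uh σ z u = 0 → uh σ z v = 0 → uh σ z y = 0) :
    ∃ a b : F, y = a • u + b • v := by
  obtain ⟨hskew, hnorm, h2⟩ := Models.four_facts hF h
  have haa : ∀ c : F, c + c = 0 := fun c => by linear_combination c * h2
  have hvu : uh σ v u ≠ 0 := fun e => huv (h.swap_zero e)
  have hfix : ∀ x : Fin n → F, uh σ x x = 0 ∨ uh σ x x = 1 := fun x =>
    hskew _ (by rw [h.symm, haa])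
  -- projection off the plane
  let pr : (Fin n → F) → (Fin n → F) := fun x =>
    x + ((uh σ x v / uh σ u v) • u + (uh σ x u / uh σ v u) • v)
  have hpr : ∀ x, uh σ (pr x) u = 0 ∧ uh σ (pr x) v = 0 := fun x => by
    simp only [pr, uh_add_left, uh_smul_left, hu, hv, mul_zero, zero_add, add_zero,
      div_mul_cancel₀ _ huv, div_mul_cancel₀ _ hvu, haa, and_self]
  have hpr2 : ∀ z x, uh σ z u = 0 → uh σ z v = 0 → uh σ (pr x) z = uh σ x z := fun z x z1 z2 => by
    simp only [pr, uh_add_left, uh_smul_left, h.swap_zero z1, h.swap_zero z2, mul_zero, add_zero]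
  set y' := pr y with hy'
  have hyz : ∀ z, uh σ z z = 0 → uh σ z u = 0 → uh σ z v = 0 → uh σ z y' = 0 := fun z z0 z1 z2 => by
    refine h.swap_zero ?_
    rw [hy', hpr2 z y z1 z2]
    exact h.swap_zero (hy z z0 z1 z2)
  suffices h0 : y' = 0 by
    refine ⟨uh σ y v / uh σ u v, uh σ y u / uh σ v u, ?_⟩
    have h1 := congrArg (fun z => z + ((uh σ y v / uh σ u v) • u + (uh σ y u / uh σ v u) • v)) h0
    simp only [hy', pr, zero_add, add_assoc, char_two hF h, add_zero] at h1
    exact h1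
  by_contra h0
  obtain ⟨yu, yv⟩ : uh σ y' u = 0 ∧ uh σ y' v = 0 := hpr y
  clear_value y'
  obtain ⟨θ, hθ⟩ := exists_trace h
  -- an isotropic vector from a vector of value one
  have shift : ∀ {x d : Fin n → F}, uh σ d d = 0 → uh σ x d = 1 →
      uh σ (x + (θ * uh σ x x) • d) (x + (θ * uh σ x x) • d) = 0 := fun {x d} hd hxd => by
    have hdx : uh σ d x = 1 := by rw [← h.symm, hxd, map_one]
    simp only [uh_add_left, uh_add_right, uh_smul_left, uh_smul_right, hd, hdx, hxd, map_mul, h.symm]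
    linear_combination uh σ x x * hθ + uh σ x x * h2
  rcases hfix y' with hyy | hyy
  · obtain ⟨x, hx⟩ := exists_uh_eq_one h h0
    have hx' : uh σ (pr x) y' = 1 := by rw [hpr2 y' x yu yv, hx]
    have e := hyz _ (shift hyy hx') (by rw [uh_add_left, uh_smul_left, (hpr x).1, yu, mul_zero, add_zero])
      (by rw [uh_add_left, uh_smul_left, (hpr x).2, yv, mul_zero, add_zero])
    rw [uh_add_left, uh_smul_left, hyy, hx', mul_zero, add_zero] at e
    exact one_ne_zero e
  · obtain ⟨d, hd0, hdu, hdv, hdy⟩ := exists_perp_three hF h hn u v y'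
    obtain ⟨d', hdu', hdv', hdy', hdd'⟩ : ∃ d', uh σ d' u = 0 ∧ uh σ d' v = 0 ∧ uh σ d' y' = 0 ∧ uh σ d' d' = 1 := by
      rcases hfix d with hdd | hdd
      swap
      · exact ⟨d, hdu, hdv, hdy, hdd⟩
      obtain ⟨x, hx⟩ := exists_uh_eq_one h hd0
      set x₁ := pr x
      have hx1 : uh σ x₁ d = 1 := by rw [hpr2 d x hdu hdv, hx]
      set x₂ := x₁ + uh σ x₁ y' • y'
      have hx2 : uh σ x₂ d = 1 := by rw [uh_add_left, uh_smul_left, h.swap_zero hdy, mul_zero, add_zero, hx1]
      have x2u : uh σ x₂ u = 0 := by rw [uh_add_left, uh_smul_left, (hpr x).1, yu, mul_zero, add_zero]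
      have x2v : uh σ x₂ v = 0 := by rw [uh_add_left, uh_smul_left, (hpr x).2, yv, mul_zero, add_zero]
      have x2y : uh σ x₂ y' = 0 := by rw [uh_add_left, uh_smul_left, hyy, mul_one, haa]
      set x₃ := x₂ + (θ * uh σ x₂ x₂) • d
      have h33 : uh σ x₃ x₃ = 0 := shift hdd hx2
      have h3d : uh σ x₃ d = 1 := by rw [uh_add_left, uh_smul_left, hdd, mul_zero, add_zero, hx2]
      refine ⟨d + θ • x₃, ?_, ?_, ?_, ?_⟩
      · simp only [x₃, uh_add_left, uh_smul_left, hdu, x2u, mul_zero, add_zero]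
      · simp only [x₃, uh_add_left, uh_smul_left, hdv, x2v, mul_zero, add_zero]
      · simp only [x₃, uh_add_left, uh_smul_left, hdy, x2y, mul_zero, add_zero]
      · have hd3 : uh σ d x₃ = 1 := by rw [← h.symm, h3d, map_one]
        simp only [uh_add_left, uh_add_right, uh_smul_left, uh_smul_right, hdd, h33, h3d, hd3]
        linear_combination hθ
    have e := hyz (y' + d') (by
      rw [uh_add_left, uh_add_right, uh_add_right, hyy, hdd', hdy', h.swap_zero hdy', add_zero, zero_add, h2])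
      (by rw [uh_add_left, yu, hdu', add_zero]) (by rw [uh_add_left, yv, hdv', add_zero])
    rw [uh_add_left, hyy, hdy', add_zero] at e
    exact one_ne_zero e

omit hF h

/-- The group from the points. -/
theorem unit_of_points (hF : Nat.card F = 4) (h : UFrob σ 2) {G : Type u} [Group G] [Finite G] {D : Set G}
    (hH : Hyp D) (hn : 4 ≤ n) (φ : D → Fin n → F) (hne : ∀ a, φ a ≠ 0) (hiso : ∀ a, uh σ (φ a) (φ a) = 0)
    (horth : ∀ a b : D, Commute (a : G) b ↔ uh σ (φ a) (φ b) = 0)
    (hsurj : ∀ v, v ≠ 0 → uh σ v v = 0 → ∃ (a : D) (c : F), v = c • φ a) :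
    ∃ e : G ≃* Cfsg.PSU n F 2, e '' D = {g | ∃ u hu, u ≠ 0 ∧ upt hF h u hu = g} := by
  classical
  have hT := hH.cls.ts
  obtain ⟨-, hnorm, h2⟩ := Models.four_facts hF h
  have hinj : ∀ {a b : D} {c : F}, φ a = c • φ b → a = b := by
    intro a b c e
    refine row_inj hH (funext fun t => ?_)
    have hc : c ≠ 0 := fun e0 => hne a (by rw [e, e0, zero_smul])
    have hiff : Commute (a : G) t ↔ Commute (b : G) t := by
      rw [horth, horth, e, uh_smul_left, mul_eq_zero, or_iff_right hc]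
    show ind (a : G) t = ind (b : G) t
    by_cases ht : Commute (a : G) t
    · rw [ind_eq_zero.2 ht, ind_eq_zero.2 (hiff.1 ht)]
    · rw [ind_eq_one ht, ind_eq_one fun k => ht (hiff.2 k)]
  set C : Set (Cfsg.PSU n F 2) := {g | ∃ u hu, u ≠ 0 ∧ upt hF h u hu = g}
  let ψ : D → Cfsg.PSU n F 2 := fun a => upt hF h (φ a) (hiso a)
  have hψinj : Function.Injective ψ := fun a b e => by
    obtain ⟨c, hc⟩ := upt_eq hF h (by omega) (hiso a) (hiso b) (hne a) e
    exact hinj hc
  have hψC : Set.range ψ = C := by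
    refine Set.Subset.antisymm ?_ ?_
    · rintro _ ⟨a, rfl⟩; exact ⟨_, _, hne a, rfl⟩
    · rintro _ ⟨u, hu, hu0, rfl⟩
      obtain ⟨a, c, e⟩ := hsurj u hu0 hu
      have hc : c ≠ 0 := fun e0 => hu0 (by rw [e, e0, zero_smul])
      exact ⟨a, (upt_smul hF h (hiso a) hu hc e).symm⟩
  let cj : G → D → D := fun g a => ⟨g * a * g⁻¹, hH.cls.conj g a a.2⟩
  -- conjugation is preserved
  have hconj : ∀ a b : D, ψ (cj a b) = ψ a * ψ b * (ψ a)⁻¹ := by
    intro a b
    have hψa : (ψ a)⁻¹ = ψ a := inv_eq_of_mul_eq_one_right (upt_sq hF h (hiso a))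
    by_cases hab : Commute (a : G) b
    · rw [show cj a b = b from Subtype.ext (by show (a : G) * b * (a : G)⁻¹ = b; rw [hab.eq, mul_inv_cancel_right]),
        (upt_commute hF h (hiso a) (hiso b) ((horth a b).1 hab)).eq, mul_inv_cancel_right]
    have huv : uh σ (φ a) (φ b) ≠ 0 := fun e => hab ((horth a b).2 e)
    have hvu : uh σ (φ b) (φ a) ≠ 0 := fun e => huv (h.swap_zero e)
    obtain ⟨α, β, hd⟩ := in_plane hF h hn (y := φ (cj a b)) (hiso a) (hiso b) huv fun z z0 z1 z2 => by
      by_cases hz : z = 0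
      · rw [hz, uh_zero_left]
      obtain ⟨t, c, rfl⟩ := hsurj z hz z0
      have hc : c ≠ 0 := fun e0 => hz (by rw [e0, zero_smul])
      rw [uh_smul_left, mul_eq_zero, or_iff_right hc, ← horth] at z1 z2 ⊢
      exact (z1.mul_right z2).mul_right z1.inv_right
    have hia := ts_inv hT a.2
    have hα : α ≠ 0 := fun e => by
      rw [e, zero_smul, zero_add] at hd
      have h' := congrArg Subtype.val (hinj hd)
      change (a : G) * b * (a : G)⁻¹ = b at h'
      exact hab (mul_inv_eq_iff_eq_mul.1 h')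
    have hβ : β ≠ 0 := fun e => by
      rw [e, zero_smul, add_zero] at hd
      have h' := congrArg Subtype.val (hinj hd)
      change (a : G) * b * (a : G)⁻¹ = a at h'
      refine hab ?_
      have h'' : (b : G) = a := by
        have := congrArg (fun g => (a : G)⁻¹ * g * a) h'
        simpa [mul_assoc] using this
      rw [h'']
    -- the third point of the line
    have h0 := hiso (cj a b)
    rw [hd] at h0
    simp only [uh_add_left, uh_add_right, uh_smul_left, uh_smul_right, hiso, mul_zero, zero_add, add_zero] at h0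
    have hab' : α = β * uh σ (φ b) (φ a) := by
      have e1 := hnorm _ hβ
      have e2 := hnorm _ hα
      have e3 := hnorm _ huv
      rw [h.symm] at e3
      have key : (α - β * uh σ (φ b) (φ a)) * (α - β * uh σ (φ b) (φ a)) = 0 := by
        linear_combination (α * β * uh σ (φ b) (φ a)) * h0 - α ^ 2 * uh σ (φ a) (φ b) * uh σ (φ b) (φ a) * e1 -
          α ^ 2 * e3 - β ^ 2 * uh σ (φ b) (φ a) ^ 2 * e2 - α * β * uh σ (φ b) (φ a) * h2
      exact sub_eq_zero.1 (mul_self_eq_zero.1 key)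
    have hw : uh σ (φ b + uh σ (φ b) (φ a) • φ a) (φ b + uh σ (φ b) (φ a) • φ a) = 0 := by
      simp only [uh_add_left, uh_add_right, uh_smul_left, uh_smul_right, hiso, h.symm]
      linear_combination (uh σ (φ a) (φ b) * uh σ (φ b) (φ a)) * h2
    show upt hF h _ _ = upt hF h _ _ * upt hF h _ _ * (upt hF h _ _)⁻¹
    rw [show (upt hF h (φ a) (hiso a))⁻¹ = upt hF h (φ a) (hiso a) from hψa, upt_conj hF h (hiso a) (hiso b) hw]
    refine upt_smul hF h hw _ hβ ?_
    rw [hd, hab', smul_add, smul_smul, add_comm]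
  -- permutations of the class
  have hcj1 : ∀ g k a, cj g (cj k a) = cj (g * k) a := fun g k a => Subtype.ext (by simp [cj, mul_assoc])
  have hcj0 : ∀ a, cj 1 a = a := fun a => Subtype.ext (by simp [cj])
  let ρ : G →* Equiv.Perm D :=
    MonoidHom.mk' (fun g => ⟨cj g, cj g⁻¹, fun a => by rw [hcj1, inv_mul_cancel, hcj0],
      fun a => by rw [hcj1, mul_inv_cancel, hcj0]⟩) fun g k => Equiv.ext fun a => (hcj1 g k a).symm
  have hCconj : ∀ (g : Cfsg.PSU n F 2), ∀ t ∈ C, g * t * g⁻¹ ∈ C := by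
    intro g
    have hg : g ∈ Subgroup.closure C := by rw [upt_gen hF h hn]; trivial
    induction hg using Subgroup.closure_induction_left with
    | one => intro t ht; simpa using ht
    | mul_left c hc k _ ih =>
      intro t ht
      rw [show c * k * t * (c * k)⁻¹ = c * (k * t * k⁻¹) * c⁻¹ by group]
      rw [← hψC] at hc
      obtain ⟨a, rfl⟩ := hc
      have h' := ih t ht
      rw [← hψC] at h'
      obtain ⟨b, hb⟩ := h'
      rw [← hψC, ← hb, ← hconj]
      exact ⟨_, rfl⟩
    | inv_mul_cancel c hc k _ ih =>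
      intro t ht
      rw [← hψC] at hc
      obtain ⟨a, rfl⟩ := hc
      rw [inv_eq_of_mul_eq_one_right (upt_sq hF h (hiso a) : ψ a * ψ a = 1),
        show ψ a * k * t * (ψ a * k)⁻¹ = ψ a * (k * t * k⁻¹) * (ψ a)⁻¹ by group]
      have h' := ih t ht
      rw [← hψC] at h'
      obtain ⟨b, hb⟩ := h'
      rw [← hψC, ← hb, ← hconj]
      exact ⟨_, rfl⟩
  have hex : ∀ g a, ∃ b, ψ b = g * ψ a * g⁻¹ := fun g a => by
    have := hCconj g (ψ a) (hψC ▸ ⟨a, rfl⟩)
    rwa [← hψC] at this
  choose ck hck using hex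
  have hck1 : ∀ g k a, ck g (ck k a) = ck (g * k) a := fun g k a => hψinj (by rw [hck, hck, hck]; group)
  have hck0 : ∀ a, ck 1 a = a := fun a => hψinj (by rw [hck]; group)
  let ρ' : Cfsg.PSU n F 2 →* Equiv.Perm D :=
    MonoidHom.mk' (fun g => ⟨ck g, ck g⁻¹, fun a => by rw [hck1, inv_mul_cancel, hck0],
      fun a => by rw [hck1, mul_inv_cancel, hck0]⟩) fun g k => Equiv.ext fun a => (hck1 g k a).symm
  have hρψ : ∀ a : D, ρ' (ψ a) = ρ a := fun a => Equiv.ext fun b => hψinj (by
    show ψ (ck (ψ a) b) = ψ (cj a b)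
    rw [hck, hconj])
  have hρinj : Function.Injective ρ := by
    rw [← MonoidHom.ker_eq_bot_iff, eq_bot_iff, ← hH.centre]
    intro g hg
    refine Subgroup.mem_center_iff.2 fun k => ?_
    have hle : Subgroup.closure D ≤ Subgroup.centralizer ({g} : Set G) := by
      refine (Subgroup.closure_le _).2 fun d hd => Subgroup.mem_centralizer_singleton_iff.2 ?_
      have h' : g * d * g⁻¹ = d :=
        congrArg Subtype.val (Equiv.congr_fun (MonoidHom.mem_ker.1 hg) ⟨d, hd⟩)
      exact (mul_inv_eq_iff_eq_mul.1 h').symm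
    rw [hH.cls.gen] at hle
    exact Subgroup.mem_centralizer_singleton_iff.1 (hle (Subgroup.mem_top k))
  have hρ'inj : Function.Injective ρ' := by
    rw [← MonoidHom.ker_eq_bot_iff, eq_bot_iff, ← psu_centre hF h hn]
    intro g hg
    refine Subgroup.mem_center_iff.2 fun k => ?_
    have hle : Subgroup.closure C ≤ Subgroup.centralizer ({g} : Set (Cfsg.PSU n F 2)) := by
      refine (Subgroup.closure_le _).2 fun t ht => Subgroup.mem_centralizer_singleton_iff.2 ?_
      rw [← hψC] at ht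
      obtain ⟨a, rfl⟩ := ht
      have h' : ck g a = a := Equiv.congr_fun (MonoidHom.mem_ker.1 hg) a
      have h'' := hck g a
      rw [h'] at h''
      exact (mul_inv_eq_iff_eq_mul.1 h''.symm).symm
    rw [upt_gen hF h hn] at hle
    exact Subgroup.mem_centralizer_singleton_iff.1 (hle (Subgroup.mem_top k))
  have hrange : ρ.range = ρ'.range := by
    rw [MonoidHom.range_eq_map, MonoidHom.range_eq_map, ← hH.cls.gen, ← upt_gen hF h hn, MonoidHom.map_closure,
      MonoidHom.map_closure]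
    refine congrArg _ (Set.ext fun t => ⟨?_, ?_⟩)
    · rintro ⟨d, hd, rfl⟩
      exact ⟨ψ ⟨d, hd⟩, hψC.le ⟨_, rfl⟩, hρψ _⟩
    · rintro ⟨t, ht, rfl⟩
      obtain ⟨a, rfl⟩ := hψC.ge ht
      exact ⟨a, a.2, (hρψ a).symm⟩
  let e : G ≃* Cfsg.PSU n F 2 :=
    (MonoidHom.ofInjective hρinj).trans ((MulEquiv.subgroupCongr hrange).trans (MonoidHom.ofInjective hρ'inj).symm)
  have he : ∀ a : D, e a = ψ a := fun a => by
    show (MonoidHom.ofInjective hρ'inj).symm _ = _
    rw [MulEquiv.symm_apply_eq]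
    exact Subtype.ext (hρψ a).symm
  refine ⟨e, Set.ext fun t => ⟨?_, fun ht => ?_⟩⟩
  · rintro ⟨d, hd, rfl⟩
    rw [he ⟨d, hd⟩]
    exact ⟨_, _, hne _, rfl⟩
  · obtain ⟨a, rfl⟩ := hψC.ge ht
    exact ⟨a, a.2, he a⟩

end CfsgLib.ThreeTransp.Polar
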