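import Cfsg.Agent.Lib.ThreeTransp.Polar.Cocycle
import Cfsg.Agent.Lib.ThreeTransp.Polar.UnitIso

/-!
Lines of five members: the commuting graph is the orthogonality graph of a hermitian space.
-/

set_option autoImplicit false
set_option linter.unusedSectionVars false
set_option linter.style.haveILetI false

namespace CfsgLib.ThreeTransp.Polar

open Cfsg CfsgLib.Involutions CfsgLib.ThreeTransp CfsgLib.Classical.Unitary
open CfsgLib.ThreeTransp.SolvLocal (line line_clique line_subset left_mem_line right_mem_line act act_act act_fix)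

universe u

variable {G : Type u} [Group G] [Finite G] {D : Set G} {x v₀ : G}

/-- Lines of five members: a unitary group over four elements. -/
theorem Base.unit_case (hB : Base D x v₀) {F : Type} [Field F] [Finite F] {σ : F →+* F} (hF : Nat.card F = 4)
    (hσ : UFrob σ 2) :
    ∃ n, 4 ≤ n ∧ ∃ e : G ≃* Cfsg.PSU n F 2, e '' D = {g | ∃ u hu, u ≠ 0 ∧ upt hF hσ u hu = g} := by
  classical
  have hT := hB.hyp.cls.ts
  obtain ⟨hskew, hnorm, h2⟩ := Models.four_facts hF hσ
  have haa : ∀ c : F, c + c = 0 := fun c => by linear_combination c * h2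
  obtain ⟨om, hom, hom3, hσom⟩ := CfsgLib.Classical.Unitary.exists_omega (q := 2) (four_two hF) hσ rfl
  obtain ⟨m, w, hC⟩ := hB.exists_coords hF hσ
  obtain ⟨hm, c, hcmul, hcT, hcx, hctr⟩ := hB.exists_cocycle hF hσ hC
  have hTT : ∀ {a}, a ∈ TT D x v₀ → a ∈ PP D x v₀ := fun ha => hB.TT_mem ha
  have hw1 : w 1 = 0 := by
    have := hC.mul 1 (one_mem _) 1 (one_mem _)
    rw [one_mul] at this
    exact left_eq_add.1 this
  have hwinv : ∀ {p}, p ∈ PP D x v₀ → w p⁻¹ = w p := fun {p} hp => by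
    have h := hC.mul p hp p⁻¹ (inv_mem hp)
    rw [mul_inv_cancel, hw1] at h
    rw [← neg_eq_of_add_eq_zero_right h.symm]
    funext i
    exact neg_eq_of_add_eq_zero_right (haa (w p i))
  have hc1 : c 1 = 0 := by
    have := hcmul 1 (one_mem _) 1 (one_mem _)
    rw [one_mul, hw1, uh_zero_left, add_zero] at this
    exact left_eq_add.1 this
  have hdist : ∀ {p r}, p ∈ PP D x v₀ → r ∈ PP D x v₀ →
      σ (c p + σ (c r) + uh σ (w p) (w r)) = c (p⁻¹ * r) := by
    intro p r hp hr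
    have h1 := hcmul p hp p⁻¹ (inv_mem hp)
    rw [mul_inv_cancel, hc1, hwinv hp, ← hctr p hp] at h1
    have h3 : c p⁻¹ = σ (c p) := by linear_combination -h1 - haa (c p) - haa (σ (c p))
    rw [hcmul _ (inv_mem hp) r hr, hwinv hp, h3, map_add, map_add, hσ.invol, hσ.symm]
  -- chosen translations of the lines
  have hsel : ∀ s ∈ both D x v₀, ∃ a, a ∈ TS D x s := fun s hs => hB.TS_nonempty hs
  choose! sel hsel using hsel
  have hwTT : ∀ {a}, a ∈ TT D x v₀ → w a ≠ 0 := by
    intro a ha e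
    rcases hC.ker a (hTT ha) e with rfl | rfl
    exacts [hB.one_not_TT ha, hB.x_not_TT ha]
  have hscal : ∀ {s a}, s ∈ both D x v₀ → a ∈ TS D x s → ∃ γ : F, γ ≠ 0 ∧ w a = γ • w (sel s) := by
    intro s a hs ha
    obtain ⟨γ, hγ⟩ := hC.scal s hs _ (hsel s hs) a ha
    exact ⟨γ, fun e => hwTT ⟨s, hs, ha⟩ (by rw [hγ, e, zero_smul]), hγ⟩
  -- fixing a common neighbour
  have hfix : ∀ {s d}, s ∈ both D x v₀ → d ∈ PP D x v₀ → (Commute d s ↔ uh σ (w (sel s)) (w d) = 0) := by
    intro s d hs hd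
    rw [(hB.fix_iff hd hs).1]
    constructor
    · intro h
      by_contra h0
      obtain ⟨e₀, he₀⟩ := hB.exists_enum
      obtain ⟨hinj, hmem, -⟩ := he₀ s hs
      have hval : ∀ i, ∃ γ : F, γ ≠ 0 ∧ w (e₀ s i) = γ • w (sel s) ∧ γ * uh σ (w (sel s)) (w d) = 1 := by
        intro i
        obtain ⟨γ, hγ, e⟩ := hscal hs (hmem i)
        refine ⟨γ, hγ, e, (hskew _ ?_).resolve_left (mul_ne_zero hγ h0)⟩
        have ht := hC.trace _ (hTT ⟨s, hs, hmem i⟩) d hd
        rw [ind_zero_iff.2 (h _ (hmem i)).symm, e, uh_smul_left] at ht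
        rw [ht, io, if_pos rfl]
      obtain ⟨γ, -, e, h1⟩ := hval 0
      obtain ⟨δ, -, e', h1'⟩ := hval 1
      have hγδ : γ = δ := mul_right_cancel₀ h0 (h1.trans h1'.symm)
      have hne : e₀ s 0 ≠ e₀ s 1 := fun e => absurd (hinj e) (by decide)
      have hm' := hB.TS_mul hs (hmem 0) (hmem 1) hne
      refine hwTT ⟨s, hs, hm'⟩ ?_
      rw [hC.mul _ (hTT ⟨s, hs, hmem 0⟩) _ (hTT ⟨s, hs, hmem 1⟩), e, e', hγδ, char_two hF hσ]
    · intro h0 a ha
      obtain ⟨γ, -, e⟩ := hscal hs ha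
      refine ind_zero_iff.1 (io_inj (F := F) ?_)
      rw [ind_comm, ← hC.trace a (hTT ⟨s, hs, ha⟩) d hd, e, uh_smul_left, h0, mul_zero, map_zero, add_zero, io,
        if_pos rfl]
  -- vectors
  let P : F → F → (Fin m → F) → Fin (m + 2) → F := fun α β u => Fin.cons (α + β * om) (Fin.cons (α + β * om ^ 2) u)
  have hP : ∀ α β u α' β' u', uh σ (P α β u) (P α' β' u') = α * σ β' + β * σ α' + uh σ u u' := by
    intro α β u α' β' u'
    have e : ∀ {k : ℕ} (a b : F) (y z : Fin k → F),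
        uh σ (Fin.cons a y) (Fin.cons b z) = a * σ b + uh σ y z := fun a b y z => by
      simp [uh, dotProduct, Fin.sum_univ_succ]
    simp only [P, e, map_add, map_mul, map_pow, hσom]
    linear_combination (α * σ β' + β * σ α') * hom + haa (α * σ α') +
      (β * σ β') * ((2 + om ^ 3) * hom3 + haa 1) - (α * σ β' + β * σ α') * h2 + α * σ β' * om * hom3
  have hPinj : ∀ {α β u}, P α β u = 0 → α = 0 ∧ β = 0 ∧ u = 0 := by
    intro α β u e
    have e0 : α + β * om = 0 := congrFun e 0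
    have e1 : α + β * om ^ 2 = 0 := congrFun e 1
    have hβ : β = 0 := by linear_combination -(e0 + e1) + β * hom + haa α
    refine ⟨by rw [hβ] at e0; simpa using e0, hβ, funext fun i => congrFun e i.succ.succ⟩
  have hPsurj : ∀ v, ∃ α β u, P α β u = v := by
    intro v
    refine ⟨v 0 + (v 0 + v 1) * om, v 0 + v 1, fun i => v i.succ.succ, funext fun i => ?_⟩
    refine Fin.cases ?_ (fun i => Fin.cases ?_ (fun i => rfl) i) i
    · show v 0 + (v 0 + v 1) * om + (v 0 + v 1) * om = v 0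
      linear_combination haa ((v 0 + v 1) * om)
    · show v 0 + (v 0 + v 1) * om + (v 0 + v 1) * om ^ 2 = v 1
      linear_combination (v 0 + v 1) * hom - haa (v 1)
  have hPsm : ∀ γ α β u, γ • P α β u = P (γ * α) (γ * β) (γ • u) := by
    intro γ α β u
    funext i
    refine Fin.cases ?_ (fun i => Fin.cases ?_ (fun i => rfl) i) i
    · show γ * (α + β * om) = γ * α + γ * β * om; ring
    · show γ * (α + β * om ^ 2) = γ * α + γ * β * om ^ 2; ring
  let Rel : G → (Fin (m + 2) → F) → Prop := fun d v =>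
    (d = x ∧ v = P 1 0 0) ∨ (∃ p ∈ PP D x v₀, d = act p v₀ ∧ v = P (c p) 1 (w p)) ∨
      (∃ s ∈ both D x v₀, ∃ p ∈ PP D x v₀, d = act p s ∧
        v = P (uh σ (w (sel s)) (w p)) 0 (w (sel s)))
  have hfar : ∀ {p}, p ∈ PP D x v₀ → ¬ Commute x (act p v₀) := fun {p} hp h => hB.hxv ((commute_conj_iff p).1 (by
    rw [(hB.PP_x hp).eq, mul_inv_cancel_right]; exact h))
  have hnear : ∀ {s p}, s ∈ both D x v₀ → p ∈ PP D x v₀ → act p s ∈ nb D x := fun {s p} hs hp =>
    nb_conj_mem hB.hyp (hB.PP_x hp) (hB.sNb hs).1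
  -- near and far
  have hnf : ∀ {s p r}, s ∈ both D x v₀ → p ∈ PP D x v₀ → r ∈ PP D x v₀ →
      (Commute (act p s) (act r v₀) ↔ uh σ (w (sel s)) (w p) + uh σ (w (sel s)) (w r) = 0) := by
    intro s p r hs hp hr
    have hd : p⁻¹ * r ∈ PP D x v₀ := mul_mem (inv_mem hp) hr
    have e1 : Commute (act p s) (act r v₀) ↔ Commute s (act (p⁻¹ * r) v₀) := by
      conv_lhs => rw [show act r v₀ = act p (act (p⁻¹ * r) v₀) by rw [act_act, mul_inv_cancel_left]]
      exact commute_conj_iff p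
    rw [e1, ← uh_add_right, show w p + w r = w (p⁻¹ * r) by rw [hC.mul _ (inv_mem hp) r hr, hwinv hp], ← hfix hs hd]
    constructor
    · intro h
      obtain ⟨hsn, -, -⟩ := hB.sNb hs
      set d := p⁻¹ * r
      have hdi : d⁻¹ ∈ PP D x v₀ := inv_mem hd
      have hl := hB.PP_line hdi hsn
      have hb : act d⁻¹ s ∈ both D x v₀ := by
        refine ⟨act_mem hB.hyp.cls.conj _ hs.1, (hnear hs hdi).2.2, ?_⟩
        have h' := (commute_conj_iff d⁻¹).2 h.symm
        rw [show d⁻¹ * act d v₀ * d⁻¹⁻¹ = v₀ by unfold act; group] at h'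
        exact h'
      obtain ⟨t, -, -, huniq⟩ := hB.exists_rep (hnear hs hdi)
      have e := huniq _ hb (right_mem_line (hnear hs hdi))
      have e' := huniq s hs hl
      have hh : act d⁻¹ s = s := e.trans e'.symm
      have : Commute d⁻¹ s := by
        unfold act at hh
        exact mul_inv_eq_iff_eq_mul.1 hh
      simpa using this.inv_left
    · intro h
      have h' : act (p⁻¹ * r) s = s := act_fix h
      conv_lhs => rw [← h']
      exact (commute_conj_iff (p⁻¹ * r)).2 hs.2.2.symm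
  have hcfar : ∀ {p r}, p ∈ PP D x v₀ → r ∈ PP D x v₀ →
      (Commute (act p v₀) (act r v₀) ↔ c p + σ (c r) + uh σ (w p) (w r) = 0) := by
    intro p r hp hr
    rw [hB.far_iff hp hr, ← map_eq_zero σ, hdist hp hr]
    have hd : p⁻¹ * r ∈ PP D x v₀ := mul_mem (inv_mem hp) hr
    constructor
    · rintro (rfl | h)
      · rw [inv_mul_cancel, hc1]
      · exact hcT _ h
    · intro h0
      set d := p⁻¹ * r
      have hq : sqv d = 0 := io_eq_zero.1 ((hC.norm d hd).symm.trans (by rw [← hctr d hd, h0, map_zero, add_zero]))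
      by_cases e1 : d = 1
      · exact Or.inl (inv_mul_eq_one.1 e1)
      by_cases ex : d = x
      · rw [ex, hcx] at h0; exact absurd h0 one_ne_zero
      rcases hB.PP_singular hd (by rw [hB.sq_xp hd, hq]; simp [xp]) e1 ex with h | h
      · exact Or.inr h
      · exfalso
        have h' := hcT _ h
        rw [hcmul x hB.x_mem d hd, hcx, h0, hC.wx, uh_zero_right, add_zero, add_zero] at h'
        exact one_ne_zero h'
  have hnn : ∀ {s r p q}, s ∈ both D x v₀ → r ∈ both D x v₀ → p ∈ PP D x v₀ → q ∈ PP D x v₀ →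
      (Commute (act p s) (act q r) ↔ uh σ (w (sel s)) (w (sel r)) = 0) := by
    intro s r p q hs hr hp hq
    rw [hC.orth s hs r hr _ (hsel s hs) _ (hsel r hr)]
    obtain ⟨hsn, -, -⟩ := hB.sNb hs
    obtain ⟨hrn, -, -⟩ := hB.sNb hr
    have h1 : Commute (act q r) s ↔ Commute (act q r) (act p s) :=
      (commute_line hB.hyp hB.hx hsn (hB.PP_line hp hsn) (hnear hs hp).2.1 (hnear hr hq)).symm
    have h3 : Commute s r ↔ Commute s (act q r) :=
      (commute_line hB.hyp hB.hx hrn (hB.PP_line hq hrn) (hnear hr hq).2.1 hsn).symm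
    exact ⟨fun h => h3.2 (h1.2 h.symm).symm, fun h => (h1.1 (h3.1 h).symm).symm⟩
  have horth : ∀ {d d' v v'}, Rel d v → Rel d' v' → (Commute d d' ↔ uh σ v v' = 0) := by
    intro d d' v v' h h'
    rcases h with ⟨rfl, rfl⟩ | ⟨p, hp, rfl, rfl⟩ | ⟨s, hs, p, hp, rfl, rfl⟩ <;>
      rcases h' with ⟨rfl, rfl⟩ | ⟨r, hr, rfl, rfl⟩ | ⟨t, ht, r, hr, rfl, rfl⟩ <;>
      rw [hP] <;> simp only [map_one, map_zero, mul_one, one_mul, mul_zero, zero_mul, add_zero, zero_add,
        uh_zero_left, uh_zero_right]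
    · exact iff_of_true (Commute.refl _) trivial
    · exact iff_of_false (hfar hr) one_ne_zero
    · exact iff_of_true (hnear ht hr).2.2 trivial
    · exact iff_of_false (fun h => hfar hp h.symm) one_ne_zero
    · exact hcfar hp hr
    · rw [show Commute (act p v₀) (act r t) ↔ Commute (act r t) (act p v₀) from ⟨Commute.symm, Commute.symm⟩, hnf ht hr hp, ← map_eq_zero σ, map_add, ← hσ.symm (w (sel t)) (w p)]
    · exact iff_of_true (hnear hs hp).2.2.symm trivial
    · exact hnf hs hp hr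
    · exact hnn hs ht hp hr
  have hexists : ∀ d ∈ D, ∃ v, Rel d v := by
    intro d hd
    by_cases hdx : d = x
    · exact ⟨_, Or.inl ⟨hdx, rfl⟩⟩
    by_cases hc : Commute x d
    swap
    · obtain ⟨p, hp, e⟩ := hB.PP_trans hd hc
      exact ⟨_, Or.inr (Or.inl ⟨p, hp, e.symm, rfl⟩)⟩
    have hdn : d ∈ nb D x := ⟨hd, hdx, hc⟩
    obtain ⟨s, hs, hds, -⟩ := hB.exists_rep hdn
    obtain ⟨hsn, -, -⟩ := hB.sNb hs
    obtain ⟨z, hz⟩ := exists_uh_eq_one hσ (hwTT ⟨s, hs, hsel s hs⟩)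
    have hz' : uh σ (w (sel s)) z = 1 := by rw [← hσ.symm, hz, map_one]
    have hval : ∀ γ : F, ∃ p ∈ PP D x v₀, uh σ (w (sel s)) (w p) = γ := fun γ => by
      obtain ⟨p, hp, e⟩ := hC.surj (σ γ • z)
      exact ⟨p, hp, by rw [e, uh_smul_right, hσ.invol, hz', mul_one]⟩
    choose pp hpp hppv using hval
    have hinj : Function.Injective fun γ => act (pp γ) s := by
      intro γ δ e
      have hd' : (pp δ)⁻¹ * pp γ ∈ PP D x v₀ := mul_mem (inv_mem (hpp δ)) (hpp γ)
      have hco : Commute ((pp δ)⁻¹ * pp γ) s := by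
        have h' : act ((pp δ)⁻¹ * pp γ) s = s := by
          rw [← act_act, show act (pp γ) s = act (pp δ) s from e, act_act, inv_mul_cancel]; simp [act]
        unfold act at h'
        exact mul_inv_eq_iff_eq_mul.1 h'
      have h0 := (hfix hs hd').1 hco
      rw [hC.mul _ (inv_mem (hpp δ)) _ (hpp γ), hwinv (hpp δ), uh_add_right, hppv, hppv] at h0
      linear_combination h0 - haa δ
    have hset : Set.range (fun γ => act (pp γ) s) = line D x s \ {x} := by
      refine Set.eq_of_subset_of_ncard_le ?_ (le_of_eq ?_) (Set.toFinite _)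
      · rintro _ ⟨γ, rfl⟩
        exact ⟨hB.PP_line (hpp γ) hsn, (hnear hs (hpp γ)).2.1⟩
      · rw [Set.ncard_range_of_injective hinj, hF, Set.ncard_sdiff (Set.singleton_subset_iff.2
          (left_mem_line hB.hx hsn)), hB.five x hB.hx s hsn, Set.ncard_singleton]
    obtain ⟨γ, hγ⟩ : d ∈ Set.range fun γ => act (pp γ) s := hset ▸ ⟨hds, hdx⟩
    exact ⟨_, Or.inr (Or.inr ⟨s, hs, pp γ, hpp γ, hγ.symm, rfl⟩)⟩
  choose φ hφ using fun d : D => hexists d d.2
  have hne : ∀ {d v}, Rel d v → v ≠ 0 := by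
    intro d v h e
    rcases h with ⟨-, rfl⟩ | ⟨p, hp, -, rfl⟩ | ⟨s, hs, p, hp, -, rfl⟩
    · exact one_ne_zero (hPinj e).1
    · exact one_ne_zero (hPinj e).2.1
    · exact hwTT ⟨s, hs, hsel s hs⟩ (hPinj e).2.2
  have hmem : ∀ v, v ≠ 0 → uh σ v v = 0 → ∃ (d : G) (v' : Fin (m + 2) → F) (γ : F), d ∈ D ∧ Rel d v' ∧ v = γ • v' := by
    intro v hv hvv
    obtain ⟨α, β, u, rfl⟩ := hPsurj v
    rw [hP] at hvv
    by_cases hβ : β = 0
    · rw [hβ, map_zero, mul_zero, zero_mul, add_zero, zero_add] at hvv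
      by_cases hu : u = 0
      · exact ⟨x, P 1 0 0, α, hB.hx, Or.inl ⟨rfl, rfl⟩, by rw [hPsm, hu, hβ, mul_one, mul_zero, smul_zero]⟩
      obtain ⟨p, hp, rfl⟩ := hC.surj u
      rw [hC.norm p hp, io_eq_zero] at hvv
      obtain ⟨a, ha, hwa⟩ : ∃ a ∈ TT D x v₀, w a = w p := by
        rcases hB.PP_singular hp (by rw [hB.sq_xp hp, hvv]; simp [xp]) (fun e => hu (e ▸ hw1))
          (fun e => hu (e ▸ hC.wx)) with h | h
        · exact ⟨p, h, rfl⟩
        · exact ⟨_, h, by rw [hC.mul x hB.x_mem p hp, hC.wx, zero_add]⟩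
      obtain ⟨s, hs, has⟩ := ha
      obtain ⟨γ, hγ, eγ⟩ := hscal hs has
      obtain ⟨z, hz⟩ := exists_uh_eq_one hσ (hwTT ⟨s, hs, hsel s hs⟩)
      have hz' : uh σ (w (sel s)) z = 1 := by rw [← hσ.symm, hz, map_one]
      obtain ⟨r, hr, er⟩ := hC.surj (σ (α / γ) • z)
      refine ⟨act r s, _, γ, act_mem hB.hyp.cls.conj _ hs.1, Or.inr (Or.inr ⟨s, hs, r, hr, rfl, rfl⟩), ?_⟩
      rw [hPsm, er, uh_smul_right, hσ.invol, hz', mul_one, mul_div_cancel₀ _ hγ, mul_zero, hβ, ← hwa, eγ]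
    · obtain ⟨p, hp, ep⟩ := hC.surj (β⁻¹ • u)
      have hiso : β⁻¹ * α + σ (β⁻¹ * α) + uh σ (w p) (w p) = 0 := by
        rw [ep, uh_smul_left, uh_smul_right, map_mul, map_inv₀]
        have hσβ : σ β ≠ 0 := (map_ne_zero σ).2 hβ
        field_simp
        linear_combination hvv
      have hd : c p + β⁻¹ * α = 0 ∨ c p + β⁻¹ * α = 1 := hskew _ (by
        rw [map_add]; linear_combination hctr p hp + hiso)
      rcases hd with e | e
      · refine ⟨act p v₀, _, β, act_mem hB.hyp.cls.conj _ hB.hv, Or.inr (Or.inl ⟨p, hp, rfl, rfl⟩), ?_⟩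
        rw [show c p = β⁻¹ * α by linear_combination e - haa (β⁻¹ * α), hPsm, ep, smul_smul, mul_one,
          mul_inv_cancel_left₀ hβ, mul_inv_cancel₀ hβ, one_smul]
      · have hxp : x * p ∈ PP D x v₀ := mul_mem hB.x_mem hp
        refine ⟨act (x * p) v₀, _, β, act_mem hB.hyp.cls.conj _ hB.hv, Or.inr (Or.inl ⟨_, hxp, rfl, rfl⟩), ?_⟩
        rw [show c (x * p) = β⁻¹ * α by
            rw [hcmul x hB.x_mem p hp, hcx, hC.wx, uh_zero_right, add_zero]
            linear_combination e + h2 - haa (β⁻¹ * α),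
          hC.mul x hB.x_mem p hp, hC.wx, zero_add, hPsm, ep, smul_smul, mul_one, mul_inv_cancel_left₀ hβ,
          mul_inv_cancel₀ hβ, one_smul]
  refine ⟨m + 2, by omega, unit_of_points hF hσ hB.hyp (by omega) φ (fun a => hne (hφ a))
    (fun a => (horth (hφ a) (hφ a)).1 (Commute.refl _)) (fun a b => horth (hφ a) (hφ b)) fun v hv hvv => ?_⟩
  obtain ⟨d, v', γ, hd, hrel, rfl⟩ := hmem v hv hvv
  -- two vectors of one member are dependent
  obtain ⟨t, ht⟩ : ∃ t : F, v' = t • φ ⟨d, hd⟩ := by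
    set u := φ ⟨d, hd⟩
    have hu : Rel d u := hφ ⟨d, hd⟩
    by_contra hind
    push Not at hind
    obtain ⟨z, hzv, hzu⟩ : ∃ z, uh σ z v' = 1 ∧ uh σ z u = 0 := by
      by_contra hn
      push Not at hn
      obtain ⟨z₁, hz₁⟩ := exists_uh_eq_one hσ (hne hu)
      refine hind (σ (uh σ z₁ v')) (uh_ext hσ fun z => ?_)
      rw [uh_smul_right, hσ.invol]
      set k := uh σ (z + uh σ z u • z₁) v' with hk
      by_cases hk0 : k = 0
      · rw [hk, uh_add_left, uh_smul_left] at hk0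
        linear_combination hk0 - haa (uh σ z u * uh σ z₁ v')
      · exact absurd (by rw [uh_smul_left, uh_add_left, uh_smul_left, hz₁, mul_one, haa, mul_zero])
          (hn (k⁻¹ • (z + uh σ z u • z₁)) (by rw [uh_smul_left, ← hk, inv_mul_cancel₀ hk0]))
    obtain ⟨θ, hθ⟩ := exists_trace hσ
    have hvu : uh σ v' u = 0 := (horth hrel hu).1 (Commute.refl d)
    have hv' : uh σ v' v' = 0 := (horth hrel hrel).1 (Commute.refl d)
    set z' := z + (θ * uh σ z z) • v'
    have hvz : uh σ v' z = 1 := by rw [← hσ.symm, hzv, map_one]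
    have hz0 : uh σ z' z' = 0 := by
      simp only [z', uh_add_left, uh_add_right, uh_smul_left, uh_smul_right, hv', hvz, hzv, map_mul, hσ.symm]
      linear_combination uh σ z z * hθ + uh σ z z * h2
    have hz'u : uh σ z' u = 0 := by simp only [z', uh_add_left, uh_smul_left, hzu, hvu, mul_zero, add_zero]
    have hz'v : uh σ z' v' = 1 := by simp only [z', uh_add_left, uh_smul_left, hzv, hv', mul_zero, add_zero]
    obtain ⟨d', v'', δ, -, hrel', e⟩ := hmem z' (fun e => by rw [e, uh_zero_left] at hz'v; exact zero_ne_one hz'v) hz0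
    rw [e, uh_smul_left, mul_eq_zero] at hz'u
    rcases hz'u with h0 | h0
    · rw [e, h0, zero_smul, uh_zero_left] at hz'v; exact zero_ne_one hz'v
    · rw [e, uh_smul_left, (horth hrel' hrel).1 ((horth hrel' hu).2 h0), mul_zero] at hz'v
      exact zero_ne_one hz'v
  exact ⟨⟨d, hd⟩, γ * t, by rw [ht, smul_smul]⟩

end CfsgLib.ThreeTransp.Polar
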