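import Mathlib.Algebra.CharP.Two
import Mathlib.Data.ZMod.Basic
import Mathlib.Tactic.Abel
import Mathlib.Tactic.Ring

/-!
A map on the singular vectors of a quadratic space over two elements, additive on orthogonal pairs,
extends to an additive map.
-/

set_option autoImplicit false
set_option linter.unusedSectionVars false

namespace CfsgLib.ThreeTransp.Polar

variable {W E : Type*} [AddCommGroup W] [AddCommGroup E]

/-- Extension from the singular vectors. -/
theorem quad_ext (hW : ∀ v : W, v + v = 0) (hE : ∀ v : E, v + v = 0) (q : W → ZMod 2) (b : W → W → ZMod 2)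
    (hq : ∀ u v, q (u + v) = q u + q v + b u v) (hb : ∀ u v w, b (u + v) w = b u w + b v w)
    (hsym : ∀ u v, b u v = b v u)
    (T : W → E) (hT0 : T 0 = 0) (hT : ∀ u v, q u = 0 → q v = 0 → b u v = 0 → T (u + v) = T u + T v)
    {e f z y : W} (he : q e = 0) (hf : q f = 0) (hz : q z = 0) (hy : q y = 0) (hef : b e f = 1) (hzy : b z y = 1)
    (hze : b z e = 0) (hzf : b z f = 0) (hye : b y e = 0) (hyf : b y f = 0) :
    (∃ l : W →+ E, ∀ v, q v = 0 → l v = T v) ∧
      ∀ {W' : Type*} [AddCommGroup W'] (l l' : W →+ W'), (∀ v, q v = 0 → l v = l' v) → l = l' := by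
  have hbr : ∀ u v w, b u (v + w) = b u v + b u w := fun u v w => by
    rw [hsym, hb, hsym v u, hsym w u]
  let sm : ZMod 2 → W → W := fun c v => if c = 0 then 0 else v
  let sE : ZMod 2 → E → E := fun c v => if c = 0 then 0 else v
  have hcases : ∀ c : ZMod 2, c = 0 ∨ c = 1 := by decide
  have hadd : ∀ (c d : ZMod 2) (v : W), sm (c + d) v = sm c v + sm d v := fun c d v => by
    rcases hcases c with rfl | rfl <;> rcases hcases d with rfl | rfl <;>
      simp [sm, hW, CharTwo.add_self_eq_zero (1 : ZMod 2)]
  have haddE : ∀ (c d : ZMod 2) (v : E), sE (c + d) v = sE c v + sE d v := fun c d v => by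
    rcases hcases c with rfl | rfl <;> rcases hcases d with rfl | rfl <;>
      simp [sE, hE, CharTwo.add_self_eq_zero (1 : ZMod 2)]
  have hb0 : ∀ v, b 0 v = 0 := fun v => by
    have h := hb 0 0 v
    rw [add_zero] at h
    exact left_eq_add.1 h
  have hsmb : ∀ c v w, b (sm c v) w = c * b v w := fun c v w => by
    rcases hcases c with rfl | rfl <;> simp [sm, hb0]
  have hq0 : q 0 = 0 := by
    have h := hq 0 0
    rw [add_zero, hb0, add_zero] at h
    exact left_eq_add.1 h
  have hbb : ∀ v, b v v = 0 := fun v => by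
    have h := hq v v
    rw [hW, hq0, CharTwo.add_self_eq_zero, zero_add] at h
    exact h.symm
  have hqsm : ∀ c v, q (sm c v) = c * q v := fun c v => by
    rcases hcases c with rfl | rfl <;> simp [sm, hq0]
  let pr : W → W := fun v => v + (sm (b v f) e + sm (b v e) f)
  have hpr : ∀ u v, pr (u + v) = pr u + pr v := fun u v => by
    simp only [pr, hb, hadd]
    abel
  have hfe : b f e = 1 := by rw [hsym, hef]
  have hU : ∀ v, b (pr v) e = 0 ∧ b (pr v) f = 0 := fun v => by
    simp only [pr, hb, hsmb, hbb, hef, hfe, mul_zero, mul_one, zero_add, add_zero, CharTwo.add_self_eq_zero,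
      and_self]
  -- the value on the orthogonal of the pair
  let L : W → E := fun u => T (f + u + sm (q u) e) + T f + sE (q u) (T e)
  have hA : ∀ u, b u e = 0 → b u f = 0 → q (f + u + sm (q u) e) = 0 := fun u h1 h2 => by
    rw [hq, hq, hqsm, hb, hsym f u, h2, hsym f, hsmb, hsym u, hsmb, hef, hf, he, hsym e u, h1]
    simp only [mul_zero, mul_one, zero_add, add_zero]
    exact CharTwo.add_self_eq_zero _
  have hLsing : ∀ u, b u e = 0 → b u f = 0 → q u = 0 → L u = T u := fun u h1 h2 h3 => by
    simp only [L, h3, sm, sE, if_true, add_zero]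
    rw [hT f u hf h3 (by rw [hsym, h2]), add_comm (T f), add_assoc, hE, add_zero]
  have hLeven : ∀ u v, b u e = 0 → b u f = 0 → b v e = 0 → b v f = 0 → q (u + v) = 0 →
      L (u + v) = L u + L v := by
    intro u v u1 u2 v1 v2 h
    set A := f + u + sm (q u) e with hAdef
    set B := f + v + sm (q v) e with hBdef
    have hAB : b A B = 0 := by
      have e1 : b f e = 1 := hfe
      rw [← h, hq]
      simp only [A, B, hb, hbr, hsmb, hsym _ (sm (q v) e), hbb, hef, hfe, hsym f v, hsym e v, hsym f u, hsym e u,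
        u1, u2, v1, v2, mul_zero, mul_one, zero_add, add_zero]
      ring
    have hsum : A + B = (u + v) + sm (q u + q v) e := by
      rw [hadd, hAdef, hBdef]
      calc _ = (f + f) + ((u + v) + (sm (q u) e + sm (q v) e)) := by abel
        _ = _ := by rw [hW, zero_add]
    have h1 := hT A B (hA u u1 u2) (hA v v1 v2) hAB
    rw [hsum, hT _ _ h (by rw [hqsm, he, mul_zero]) (by rw [hsym, hsmb, hsym, hb, u1, v1, add_zero, mul_zero])] at h1
    have hs : T (sm (q u + q v) e) = sE (q u + q v) (T e) := by
      rcases hcases (q u + q v) with e' | e' <;> simp [e', sm, sE, hT0]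
    rw [hs, haddE] at h1
    rw [hLsing _ (by rw [hb, u1, v1, add_zero]) (by rw [hb, u2, v2, add_zero]) h]
    show T (u + v) = T A + T f + sE (q u) (T e) + (T B + T f + sE (q v) (T e))
    calc T (u + v) = T (u + v) + (sE (q u) (T e) + sE (q v) (T e)) + (sE (q u) (T e) + sE (q v) (T e)) := by
          rw [add_assoc, hE, add_zero]
      _ = T A + T B + (sE (q u) (T e) + sE (q v) (T e)) + (T f + T f) := by rw [h1, hE, add_zero]
      _ = _ := by abel
  have hflip : ∀ {p r : W}, p + r + r = p := fun {p r} => by rw [add_assoc, hW, add_zero]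
  have hflipE : ∀ {p r : E}, p + r + r = p := fun {p r} => by rw [add_assoc, hE, add_zero]
  -- one singular member in a triangle
  have hLone : ∀ u v, b u e = 0 → b u f = 0 → b v e = 0 → b v f = 0 → q u = 0 →
      L (u + v) = L u + L v := by
    intro u v u1 u2 v1 v2 h
    have h1 := hLeven (u + v) v (by rw [hb, u1, v1, add_zero]) (by rw [hb, u2, v2, add_zero]) v1 v2
      (by rw [hflip]; exact h)
    rw [hflip] at h1
    rw [h1, hflipE]
  have hL : ∀ u v, b u e = 0 → b u f = 0 → b v e = 0 → b v f = 0 → L (u + v) = L u + L v := by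
    intro u v u1 u2 v1 v2
    rcases hcases (q (u + v)) with h | h
    · exact hLeven u v u1 u2 v1 v2 h
    rcases hcases (q u) with hu | hu
    · exact hLone u v u1 u2 v1 v2 hu
    rcases hcases (q v) with hv | hv
    · rw [add_comm, hLone v u v1 v2 u1 u2 hv, add_comm]
    have huv : b u v = 1 := by
      have := hq u v
      rw [h, hu, hv, CharTwo.add_self_eq_zero, zero_add] at this
      exact this.symm
    obtain ⟨t, t1, t2, t0, ht⟩ : ∃ t, b t e = 0 ∧ b t f = 0 ∧ q t = 0 ∧ (b u t = 1 ∨ b v t = 1) := by
      by_cases g1 : b u z = 1 ∨ b v z = 1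
      · exact ⟨z, hze, hzf, hz, g1⟩
      by_cases g2 : b u y = 1 ∨ b v y = 1
      · exact ⟨y, hye, hyf, hy, g2⟩
      push Not at g1 g2
      have z1 := (hcases (b u z)).resolve_right g1.1
      have z2 := (hcases (b u y)).resolve_right g2.1
      refine ⟨u + z + y, by rw [hb, hb, u1, hze, hye, add_zero, add_zero],
        by rw [hb, hb, u2, hzf, hyf, add_zero, add_zero], ?_, Or.inr ?_⟩
      · rw [hq, hq, hb, hu, hz, hy, z1, z2, hzy]; decide
      · rw [hbr, hbr, (hcases (b v z)).resolve_right g1.2, (hcases (b v y)).resolve_right g2.2, hsym v u, huv]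
        decide
    have k1 := hLone t u t1 t2 u1 u2 t0
    have k2 := hLone t v t1 t2 v1 v2 t0
    have hsum : (t + u) + (t + v) = u + v := by
      calc _ = (t + t) + (u + v) := by abel
        _ = _ := by rw [hW, zero_add]
    have k3 : L ((t + u) + (t + v)) = L (t + u) + L (t + v) := by
      rcases ht with ht | ht
      · exact hLone _ _ (by rw [hb, t1, u1, add_zero]) (by rw [hb, t2, u2, add_zero])
          (by rw [hb, t1, v1, add_zero]) (by rw [hb, t2, v2, add_zero]) (by rw [hq, t0, hu, hsym t u, ht]; decide)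
      · rw [add_comm, add_comm (L (t + u))]
        exact hLone _ _ (by rw [hb, t1, v1, add_zero]) (by rw [hb, t2, v2, add_zero])
          (by rw [hb, t1, u1, add_zero]) (by rw [hb, t2, u2, add_zero]) (by rw [hq, t0, hv, hsym t v, ht]; decide)
    rw [hsum, k1, k2] at k3
    rw [k3]
    calc _ = (L t + L t) + (L u + L v) := by abel
      _ = _ := by rw [hE, zero_add]
  let l₀ : W → E := fun v => L (pr v) + (sE (b v f) (T e) + sE (b v e) (T f))
  have hl₀ : ∀ u v, l₀ (u + v) = l₀ u + l₀ v := fun u v => by
    simp only [l₀]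
    rw [hpr, hL _ _ (hU u).1 (hU u).2 (hU v).1 (hU v).2, hb, hb, haddE, haddE]
    abel
  have hdec : ∀ v, v = pr v + (sm (b v f) e + sm (b v e) f) := fun v => by simp only [pr]; rw [hflip]
  have hqpr : ∀ v, q v = q (pr v) + b v f * b v e := fun v => by
    conv_lhs => rw [hdec v]
    rw [hq, hq (sm (b v f) e), hqsm, hqsm, he, hf, hsmb, hsym e (sm (b v e) f), hsmb, hfe, hsym (pr v),
      hb, hsmb, hsmb, hsym e (pr v), hsym f (pr v), (hU v).1, (hU v).2]
    simp only [mul_zero, mul_one, add_zero, zero_add]
  refine ⟨⟨AddMonoidHom.mk' l₀ hl₀, fun v hv => ?_⟩, fun {W'} _ l l' h => ?_⟩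
  · show L (pr v) + (sE (b v f) (T e) + sE (b v e) (T f)) = T v
    have hp := hqpr v
    rw [hv] at hp
    have hd := hdec v
    rcases hcases (b v f) with hvf | hvf <;> rcases hcases (b v e) with hve | hve <;>
      rw [hvf, hve] at hd hp <;> rw [hvf, hve]
    · simp only [sm, sE, if_true, add_zero, mul_zero] at hd hp ⊢
      rw [hLsing _ (hU v).1 (hU v).2 hp.symm, ← hd]
    · simp only [sm, sE, if_true, if_neg one_ne_zero, zero_add, zero_mul, add_zero] at hd hp ⊢
      rw [hLsing _ (hU v).1 (hU v).2 hp.symm]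
      conv_rhs => rw [hd]
      exact (hT _ _ hp.symm hf (hU v).2).symm
    · simp only [sm, sE, if_true, if_neg one_ne_zero, add_zero, mul_zero] at hd hp ⊢
      rw [hLsing _ (hU v).1 (hU v).2 hp.symm]
      conv_rhs => rw [hd]
      exact (hT _ _ hp.symm he (hU v).1).symm
    · have h1 : q (pr v) = 1 := by
        rcases hcases (q (pr v)) with h | h
        · rw [h] at hp; exact absurd hp (by decide)
        · exact h
      simp only [sm, sE, if_neg one_ne_zero] at hd ⊢
      simp only [L, h1, sm, sE, if_neg one_ne_zero]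
      conv_rhs => rw [hd, show pr v + (e + f) = f + pr v + e by abel]
      calc _ = T (f + pr v + e) + ((T f + T f) + (T e + T e)) := by abel
        _ = _ := by rw [hE, hE, add_zero, add_zero]
  · refine AddMonoidHom.ext fun v => ?_
    have hU1 := hU v
    have hd : v = (f + pr v + sm (q (pr v)) e) + (f + sm (q (pr v)) e + (sm (b v f) e + sm (b v e) f)) := by
      calc v = (f + f) + (sm (q (pr v)) e + sm (q (pr v)) e) + (pr v + (sm (b v f) e + sm (b v e) f)) := by
            rw [hW, hW, add_zero, zero_add, ← hdec v]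
        _ = _ := by abel
    have hse : ∀ c, l (sm c e) = l' (sm c e) := fun c => h _ (by rw [hqsm, he, mul_zero])
    have hsf : ∀ c, l (sm c f) = l' (sm c f) := fun c => h _ (by rw [hqsm, hf, mul_zero])
    rw [hd]
    simp only [map_add]
    rw [← map_add l f, ← map_add l (f + pr v), h _ (hA _ hU1.1 hU1.2), h f hf, hse, hse, hsf]
    simp only [map_add]

end CfsgLib.ThreeTransp.Polar
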