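import Cfsg.Agent.Lib.ThreeTransp.Polar.Coords
import Cfsg.Agent.Lib.ThreeTransp.Polar.QuadExt

/-!
The translation group as the group of translations fixing an isotropic point of a hermitian space.
-/

set_option autoImplicit false
set_option linter.unusedSectionVars false
set_option linter.style.haveILetI false

namespace CfsgLib.ThreeTransp.Polar

open Cfsg CfsgLib.Involutions CfsgLib.ThreeTransp CfsgLib.Classical.Unitary
open CfsgLib.ThreeTransp.SolvLocal (line line_clique line_subset act act_act act_fix)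

universe u

variable {G : Type u} [Group G] [Finite G] {D : Set G} {x v₀ : G} {F : Type} [Field F] [Finite F] {σ : F →+* F}
  {m : ℕ} {w : G → Fin m → F}

theorem conj_rest (hB : Base D x v₀) {s r : G} (hs : s ∈ both D x v₀) (hr : r ∈ both D x v₀) {a : G}
    (ha : a ∈ TS D x s) : r * a * r ∈ TS D x (r * s * r) := by
  have hT := hB.hyp.cls.ts
  obtain ⟨y, hy, z, hz, hyz, rfl⟩ := ha
  have hfix : r * x * r = x := by rw [(hB.sNb hr).1.2.2.eq.symm, mul_assoc, ts_mul_self hT hr.1, mul_one]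
  have hrest : ∀ {t}, t ∈ rest D x s → r * t * r ∈ rest D x (r * s * r) := by
    intro t ht
    obtain ⟨-, htl, hts, htx, -⟩ := hB.restFacts hs ht
    have hl := line_conj hB.hyp.cls.conj (g := r) htl
    rw [ts_inv hT hr.1, hfix] at hl
    refine ⟨hl, ?_⟩
    rintro (e | e)
    · rw [← hfix] at e
      exact htx (mul_left_cancel (mul_right_cancel e))
    · exact hts (mul_left_cancel (mul_right_cancel e))
  refine ⟨_, hrest hy, _, hrest hz, fun e => hyz (mul_left_cancel (mul_right_cancel e)), ?_⟩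
  rw [show r * y * r * (r * z * r) = r * y * (r * r) * z * r by group, ts_mul_self hT hr.1]
  group

/-- The orthogonal pairs of translations. -/
theorem Base.TT_pair (hB : Base D x v₀) (hF : Nat.card F = 4) (hσ : UFrob σ 2) (hC : Coord D x v₀ σ w) {a c : G}
    (ha : a ∈ TT D x v₀) (hc : c ∈ TT D x v₀) (hne : a ≠ c) (hac : Commute a c) :
    (uh σ (w a) (w c) = 0 ∧ a * c ∈ TT D x v₀) ∨ (uh σ (w a) (w c) = 1 ∧ x * (a * c) ∈ TT D x v₀) := by
  have hT := hB.hyp.cls.ts
  obtain ⟨-, -, h2⟩ := Models.four_facts hF hσ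
  obtain ⟨s, hs, ha⟩ := id ha
  obtain ⟨r, hr, hc⟩ := id hc
  by_cases hsr : s = r
  · subst hsr
    exact Or.inl ⟨(hC.orth s hs s hs a ha c hc).2 (Commute.refl s), s, hs, hB.TS_mul hs ha hc hne⟩
  by_cases hcom : Commute s r
  · refine Or.inl ⟨(hC.orth s hs r hr a ha c hc).2 hcom, ?_⟩
    obtain ⟨hsn, hvs, -⟩ := hB.sNb hs
    obtain ⟨hrn, hvr, -⟩ := hB.sNb hr
    obtain ⟨hax, -, haa, -, -, -, hla, hla', hla''⟩ := hB.TS_facts hs ha
    obtain ⟨-, -, -, -, -, -, hlc, hlc', hlc''⟩ := hB.TS_facts hr hc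
    have h1 : Commute s (act c v₀) :=
      (commute_line hB.hyp hr.1 hvr hlc hlc'' ⟨hs.1, hsr, hcom.symm⟩).2 hs.2.2.symm
    by_cases e : act c v₀ = s
    · exact absurd (show Commute x (act c v₀) by rw [e]; exact hs.2.1) (hB.act_far hr hc)
    have hwn : act c v₀ ∈ nb D s := ⟨act_mem hB.hyp.cls.conj _ hB.hv, e, h1⟩
    have h3 : Commute (act a v₀) (act c v₀) :=
      ((commute_line hB.hyp hs.1 hvs hla hla'' hwn).2 (hB.act_commute hr hc).symm).symm
    rcases (hB.far_iff (hB.TT_mem ⟨s, hs, ha⟩) (hB.TT_mem ⟨r, hr, hc⟩)).1 h3 with h | h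
    · exact absurd h hne
    · rwa [inv_eq_of_mul_eq_one_right haa] at h
  · refine Or.inr ⟨?_, ?_⟩
    · have h0 : uh σ (w a) (w c) ≠ 0 := fun e => hcom ((hC.orth s hs r hr a ha c hc).1 e)
      have htr := hC.trace a (hB.TT_mem ⟨s, hs, ha⟩) c (hB.TT_mem ⟨r, hr, hc⟩)
      rw [ind_zero_iff.2 hac, show (io (0 : ZMod 2) : F) = 0 from if_pos rfl] at htr
      exact ((Models.four_facts hF hσ).1 _ htr).resolve_left h0
    · obtain ⟨c', hc', hac', hcon, huniq, -, -⟩ := hB.TS_pair hs hr hcom ha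
      rw [← huniq c hc hac] at hcon
      rw [hac.eq, ← hcon]
      exact ⟨_, hB.conj_R hs hr, conj_rest hB hs hr ha⟩

/-- An element of the translation group with a field element whose trace is its squaring value. -/
structure Pair (D : Set G) (x v₀ : G) (σ : F →+* F) (w : G → Fin m → F) where
  p : G
  c : F
  mem : p ∈ PP D x v₀
  tr : c + σ c = uh σ (w p) (w p)

theorem Pair.ext' {a b : Pair D x v₀ σ w} (h1 : a.p = b.p) (h2 : a.c = b.c) : a = b := by
  cases a; cases b; cases h1; cases h2; rfl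

/-- The cocycle vanishing on the translations. -/
theorem Base.exists_cocycle (hB : Base D x v₀) (hF : Nat.card F = 4) (hσ : UFrob σ 2) (hC : Coord D x v₀ σ w) :
    2 ≤ m ∧ ∃ c : G → F, (∀ p ∈ PP D x v₀, ∀ r ∈ PP D x v₀, c (p * r) = c p + c r + uh σ (w r) (w p)) ∧
      (∀ a ∈ TT D x v₀, c a = 0) ∧ c x = 1 ∧ ∀ p ∈ PP D x v₀, c p + σ (c p) = uh σ (w p) (w p) := by
  classical
  have hT := hB.hyp.cls.ts
  have hxx := ts_mul_self hT hB.hx
  obtain ⟨hskew, hnorm, h2⟩ := Models.four_facts hF hσ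
  have haa : ∀ c : F, c + c = 0 := fun c => by linear_combination c * h2
  have hTT : ∀ {a}, a ∈ TT D x v₀ → a ∈ PP D x v₀ := fun ha => hB.TT_mem ha
  have hw1 : w 1 = 0 := by
    have := hC.mul 1 (one_mem _) 1 (one_mem _)
    rw [one_mul] at this
    exact left_eq_add.1 this
  have hwinv : ∀ {p}, p ∈ PP D x v₀ → w p⁻¹ = w p := fun {p} hp => by
    have h := hC.mul p hp p⁻¹ (inv_mem hp)
    rw [mul_inv_cancel, hw1] at h
    rw [← neg_eq_of_add_eq_zero_right h.symm]
    funext i
    exact neg_eq_of_add_eq_zero_right (haa (w p i))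
  -- two translations over one vector
  have hTTw : ∀ {a a'}, a ∈ TT D x v₀ → a' ∈ TT D x v₀ → w a = w a' → a = a' := by
    intro a a' ha ha' e
    have h0 : w (a * a') = 0 := by
      rw [hC.mul a (hTT ha) a' (hTT ha'), e]; funext i; exact haa _
    obtain ⟨s, hs, has⟩ := id ha
    have haa' := (hB.TS_facts hs has).2.2.1
    rcases hC.ker _ (mul_mem (hTT ha) (hTT ha')) h0 with h | h
    · exact mul_left_cancel (haa'.trans h.symm)
    · exfalso
      have e' : a' = x * a := by
        rw [← (hB.PP_x (hTT ha)).eq, ← h, ← mul_assoc, haa', one_mul]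
      exact hB.not_TT ha (e' ▸ ha')
  -- a translation over an isotropic vector
  have hlift : ∀ v : Fin m → F, v ≠ 0 → uh σ v v = 0 → ∃ a ∈ TT D x v₀, w a = v := by
    intro v hv hvv
    obtain ⟨p, hp, rfl⟩ := hC.surj v
    rw [hC.norm p hp, io_eq_zero] at hvv
    have hpp : p * p = 1 := by rw [hB.sq_xp hp, hvv]; simp [xp]
    rcases hB.PP_singular hp hpp (fun e => hv (e ▸ hw1)) (fun e => hv (e ▸ hC.wx)) with h | h
    · exact ⟨p, h, rfl⟩
    · exact ⟨_, h, by rw [hC.mul x hB.x_mem p hp, hC.wx, zero_add]⟩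
  have hTTiso : ∀ {a}, a ∈ TT D x v₀ → uh σ (w a) (w a) = 0 ∧ w a ≠ 0 := by
    intro a ha
    obtain ⟨s, hs, has⟩ := id ha
    refine ⟨(hC.orth s hs s hs a has a has).2 (Commute.refl s), fun e => ?_⟩
    rcases hC.ker a (hTT ha) e with rfl | rfl
    exacts [hB.one_not_TT ha, hB.x_not_TT ha]
  have hm : 2 ≤ m := by
    obtain ⟨a, ha⟩ := hB.exists_TT
    obtain ⟨h0, hne⟩ := hTTiso ha
    by_contra hm
    rcases (by omega : m = 0 ∨ m = 1) with rfl | rfl
    · exact hne (funext fun i => i.elim0)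
    · refine hne (funext fun i => ?_)
      fin_cases i
      simp only [uh, dotProduct, Fin.sum_univ_one, Function.comp_apply, mul_eq_zero, map_eq_zero, or_self] at h0
      exact h0
  refine ⟨hm, ?_⟩
  -- the group of pairs
  letI : One (Pair D x v₀ σ w) := ⟨⟨1, 0, one_mem _, by rw [hw1, uh_zero_left, map_zero, add_zero]⟩⟩
  letI : Mul (Pair D x v₀ σ w) := ⟨fun a b => ⟨a.p * b.p, a.c + b.c + uh σ (w b.p) (w a.p), mul_mem a.mem b.mem, by
    rw [hC.mul _ a.mem _ b.mem, map_add, map_add, uh_add_left, uh_add_right, uh_add_right, hσ.symm, ← a.tr,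
      ← b.tr]
    ring⟩⟩
  letI : Inv (Pair D x v₀ σ w) := ⟨fun a => ⟨a.p⁻¹, σ a.c, inv_mem a.mem, by
    rw [hwinv a.mem, hσ.invol, ← a.tr, add_comm]⟩⟩
  letI : Group (Pair D x v₀ σ w) := Group.ofLeftAxioms
    (fun a b d => Pair.ext' (mul_assoc _ _ _) (by
      show a.c + b.c + uh σ (w b.p) (w a.p) + d.c + uh σ (w d.p) (w (a.p * b.p)) =
        a.c + (b.c + d.c + uh σ (w d.p) (w b.p)) + uh σ (w (b.p * d.p)) (w a.p)
      rw [hC.mul _ a.mem _ b.mem, hC.mul _ b.mem _ d.mem, uh_add_left, uh_add_right]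
      ring))
    (fun a => Pair.ext' (one_mul _) (by
      show 0 + a.c + uh σ (w a.p) (w 1) = a.c
      rw [hw1, uh_zero_right, add_zero, zero_add]))
    (fun a => Pair.ext' (inv_mul_cancel _) (by
      show σ a.c + a.c + uh σ (w a.p) (w a.p⁻¹) = 0
      rw [hwinv a.mem, ← a.tr]
      linear_combination haa a.c + haa (σ a.c)))
  have hmc : ∀ a b : Pair D x v₀ σ w, (a * b).c = a.c + b.c + uh σ (w b.p) (w a.p) := fun _ _ => rfl
  have hmp : ∀ a b : Pair D x v₀ σ w, (a * b).p = a.p * b.p := fun _ _ => rfl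
  let z : Pair D x v₀ σ w := ⟨x, 1, hB.x_mem, by rw [hC.wx, uh_zero_left, map_one, h2]⟩
  have hzz : z * z = 1 := Pair.ext' hxx (by
    show (1 : F) + 1 + uh σ (w x) (w x) = 0
    rw [h2, hC.wx, uh_zero_left, add_zero])
  have hz1 : ∀ a : Pair D x v₀ σ w, (z * a).c = 1 + a.c := fun a => by
    rw [hmc, show w z.p = 0 from hC.wx, uh_zero_right, add_zero]
  have hzc : ∀ a : Pair D x v₀ σ w, a * z = z * a := fun a => Pair.ext' (hB.PP_x a.mem).eq (by
    rw [hz1, hmc, show w z.p = 0 from hC.wx, uh_zero_left, add_zero, add_comm])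
  let Z : Subgroup (Pair D x v₀ σ w) :=
    { carrier := {1, z}
      one_mem' := Or.inl rfl
      mul_mem' := by
        rintro a b (rfl | rfl) (rfl | rfl)
        exacts [Or.inl (one_mul _), Or.inr (one_mul _), Or.inr (mul_one _), Or.inl hzz]
      inv_mem' := by
        rintro a (rfl | rfl)
        exacts [Or.inl inv_one, Or.inr (inv_eq_of_mul_eq_one_right hzz)] }
  haveI hZ : Z.Normal := ⟨fun n hn g => by
    rcases hn with rfl | rfl
    · rw [mul_one, mul_inv_cancel]; exact Or.inl rfl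
    · rw [hzc, mul_inv_cancel_right]; exact Or.inr rfl⟩
  letI : CommGroup (Pair D x v₀ σ w ⧸ Z) :=
    { (inferInstance : Group (Pair D x v₀ σ w ⧸ Z)) with
      mul_comm := by
        intro a b
        obtain ⟨a, rfl⟩ := QuotientGroup.mk_surjective a
        obtain ⟨b, rfl⟩ := QuotientGroup.mk_surjective b
        refine QuotientGroup.eq.2 ?_
        show (a * b)⁻¹ * (b * a) ∈ Z
        have htr := hC.trace _ a.mem _ b.mem
        rw [hσ.symm] at htr
        by_cases hab : Commute a.p b.p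
        · rw [show a * b = b * a from Pair.ext' hab.eq (by
            rw [hmc, hmc]
            rw [ind_zero_iff.2 hab, show (io (0 : ZMod 2) : F) = 0 from if_pos rfl] at htr
            linear_combination htr - haa (uh σ (w a.p) (w b.p))), inv_mul_cancel]
          exact Or.inl rfl
        · have e : a * b = z * (b * a) := Pair.ext' (by
              show a.p * b.p = x * (b.p * a.p)
              rcases hB.PP_conj a.mem b.mem with e | e
              · exact absurd (show a.p * b.p = b.p * a.p by conv_rhs => rw [← e]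
                                                            group) hab
              · calc a.p * b.p = a.p * b.p * a.p⁻¹ * a.p := by group
                  _ = _ := by rw [e, mul_assoc]) (by
            rw [hz1, hmc, hmc]
            rw [(z2c (ind a.p b.p)).resolve_left fun h' => hab (ind_zero_iff.1 h'),
              show (io (1 : ZMod 2) : F) = 1 from if_neg one_ne_zero] at htr
            linear_combination htr - haa (uh σ (w a.p) (w b.p)))
          rw [e, mul_inv_rev, mul_assoc, inv_eq_of_mul_eq_one_right hzz, ← hzc, inv_mul_cancel_left]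
          exact Or.inr rfl }
  let E := Additive (Pair D x v₀ σ w ⧸ Z)
  let mk : Pair D x v₀ σ w → E := fun a => Additive.ofMul (QuotientGroup.mk a)
  have hmk : ∀ a b, mk (a * b) = mk a + mk b := fun a b => rfl
  have hmkz : ∀ a, mk (z * a) = mk a := fun a => by
    show Additive.ofMul _ = Additive.ofMul _
    refine congrArg _ (QuotientGroup.eq.2 ?_)
    rw [mul_inv_rev, inv_eq_of_mul_eq_one_right hzz, mul_assoc, ← hzc, ← mul_assoc, inv_mul_cancel, one_mul]
    exact Or.inr rfl
  have hmkeq : ∀ {a b}, mk a = mk b → b = a ∨ b = z * a := by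
    intro a b e
    rcases QuotientGroup.eq.1 (Additive.ofMul.injective e) with h | h
    · exact Or.inl (inv_mul_eq_one.1 h).symm
    · refine Or.inr ?_
      rw [← hzc, ← h, mul_inv_cancel_left]
  have hE : ∀ e : E, e + e = 0 := by
    intro e
    obtain ⟨a, ha⟩ := QuotientGroup.mk_surjective (Additive.toMul e)
    have e1 : e = mk a := by show e = Additive.ofMul _; rw [ha]; rfl
    rw [e1, ← hmk]
    show Additive.ofMul _ = Additive.ofMul 1
    refine congrArg _ ((QuotientGroup.eq_one_iff _).2 ?_)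
    by_cases h : a.p * a.p = 1
    · refine Or.inl (Pair.ext' h ?_)
      show a.c + a.c + _ = 0
      rw [haa, zero_add, hC.norm _ a.mem, sqv, if_pos h]; simp [io]
    · refine Or.inr (Pair.ext' ((hB.PP_sq a.mem).resolve_left h) ?_)
      show a.c + a.c + _ = 1
      rw [haa, zero_add, hC.norm _ a.mem, sqv, if_neg h]; simp [io]
  let mka : ∀ a, a ∈ TT D x v₀ → E := fun a ha => mk ⟨a, 0, hTT ha, by rw [(hTTiso ha).1, map_zero, add_zero]⟩
  let T : (Fin m → F) → E := fun v => if h : ∃ a ∈ TT D x v₀, w a = v then mka h.choose h.choose_spec.1 else 0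
  have hTv : ∀ {a} (ha : a ∈ TT D x v₀), T (w a) = mka a ha := by
    intro a ha
    have h : ∃ a' ∈ TT D x v₀, w a' = w a := ⟨a, ha, rfl⟩
    simp only [T, dif_pos h]
    exact congrArg mk (Pair.ext' (hTTw h.choose_spec.1 ha h.choose_spec.2) rfl)
  have hT0 : T 0 = 0 := by
    refine dif_neg ?_
    rintro ⟨a, ha, e⟩
    exact (hTTiso ha).2 e
  let q : (Fin m → F) → ZMod 2 := fun v => if uh σ v v = 0 then 0 else 1
  let b : (Fin m → F) → (Fin m → F) → ZMod 2 := fun u v => if uh σ u v + σ (uh σ u v) = 0 then 0 else 1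
  have hfix : ∀ {c : F}, σ c = c → c = 0 ∨ c = 1 := fun {c} hc => hskew c (by rw [hc, haa])
  have hioq : ∀ v, (io (q v) : F) = uh σ v v := fun v => by
    rcases hfix (hσ.symm v v) with e | e <;> simp [q, io, e]
  have hiob : ∀ u v, (io (b u v) : F) = uh σ u v + σ (uh σ u v) := fun u v => by
    have hc : σ (uh σ u v + σ (uh σ u v)) = uh σ u v + σ (uh σ u v) := by rw [map_add, hσ.invol, add_comm]
    rcases hfix hc with e | e <;> simp [b, io, e]
  have hW : ∀ v : Fin m → F, v + v = 0 := fun v => funext fun i => haa _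
  have hq : ∀ u v, q (u + v) = q u + q v + b u v := fun u v => io_inj (F := F) (by
    rw [io_add h2, io_add h2, hioq, hioq, hioq, hiob, uh_add_left, uh_add_right, uh_add_right, hσ.symm]
    ring)
  have hb : ∀ u v t, b (u + v) t = b u t + b v t := fun u v t => io_inj (F := F) (by
    rw [io_add h2, hiob, hiob, hiob, uh_add_left, map_add]; ring)
  have hbs : ∀ u v, b u v = b v u := fun u v => io_inj (F := F) (by
    rw [hiob, hiob, hσ.symm, hσ.symm, add_comm])
  have hTadd : ∀ u v, q u = 0 → q v = 0 → b u v = 0 → T (u + v) = T u + T v := by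
    intro u v hu hv huv
    by_cases u0 : u = 0
    · rw [u0, zero_add, hT0, zero_add]
    by_cases v0 : v = 0
    · rw [v0, add_zero, hT0, add_zero]
    by_cases e : u = v
    · rw [e, hW, hT0, hE]
    obtain ⟨a, ha, rfl⟩ := hlift u u0 (by rw [← hioq, hu]; simp [io])
    obtain ⟨r, hr, rfl⟩ := hlift v v0 (by rw [← hioq, hv]; simp [io])
    have hac : Commute a r := ind_zero_iff.1 (io_inj (F := F) (by
      rw [← hC.trace a (hTT ha) r (hTT hr), ← hiob, huv]))
    have hwar : w (a * r) = w a + w r := hC.mul a (hTT ha) r (hTT hr)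
    rw [hTv ha, hTv hr]
    show _ = mk _ + mk _
    rw [← hmk]
    rcases hB.TT_pair hF hσ hC ha hr (fun e' => e (by rw [e'])) hac with ⟨h0, ht⟩ | ⟨h1, ht⟩
    · rw [← hwar, hTv ht]
      refine congrArg mk (Pair.ext' rfl ?_)
      rw [hmc]
      show (0 : F) = 0 + 0 + _
      rw [hσ.swap_zero h0, add_zero, add_zero]
    · have hwt : w (x * (a * r)) = w a + w r := by
        rw [hC.mul x hB.x_mem _ (mul_mem (hTT ha) (hTT hr)), hC.wx, zero_add, hwar]
      rw [← hwt, hTv ht]
      refine ((hmkz _).symm.trans ?_).symm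
      refine congrArg mk (Pair.ext' rfl ?_)
      rw [hz1, hmc]
      show 1 + (0 + 0 + _) = (0 : F)
      rw [← hσ.symm, h1, map_one, add_zero, zero_add, h2]
  -- two hyperbolic pairs
  obtain ⟨om, hom, hom3, hσom⟩ := CfsgLib.Classical.Unitary.exists_omega (q := 2) (by rw [hF]; rfl) hσ rfl
  have hom0 : om ≠ 0 := fun e => by rw [e] at hom; simp at hom
  let i₀ : Fin m := ⟨0, by omega⟩
  let i₁ : Fin m := ⟨1, by omega⟩
  have hi : i₀ ≠ i₁ := fun e => by simpa [i₀, i₁] using congrArg Fin.val e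
  have hpp : ∀ a b a' b' : F, uh σ (Pi.single i₀ a + Pi.single i₁ b : Fin m → F) (Pi.single i₀ a' + Pi.single i₁ b') =
      a * σ a' + b * σ b' := fun a b a' b' => by
    simp [uh_add_left, uh_add_right, uh_single_left, hi, hi.symm]
  let pv : F → F → Fin m → F := fun a b => Pi.single i₀ a + Pi.single i₁ b
  have hbq : ∀ a b' a' b'' : F, ∀ t : ZMod 2, a * σ a' + b' * σ b'' + σ (a * σ a' + b' * σ b'') = io t →
      b (pv a b') (pv a' b'') = t := fun a b' a' b'' t ht => io_inj (F := F) (by rw [hiob, hpp, ht])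
  have hqq : ∀ a b' : F, a * σ a + b' * σ b' = 0 → q (pv a b') = 0 := fun a b' ht => by
    simp only [q, pv, hpp, if_pos ht]
  have h11 : ∀ c : F, c ≠ 0 → c * σ c + c * σ c = 0 := fun c _ => haa _
  have hs2 : σ (om ^ 2) = om := by rw [map_pow, hσom]; linear_combination om * hom3
  have io1 : (io (1 : ZMod 2) : F) = 1 := if_neg one_ne_zero
  have io0 : (io (0 : ZMod 2) : F) = 0 := if_pos rfl
  obtain ⟨⟨l, hl⟩, huniq⟩ := quad_ext hW hE q b hq hb hbs T hT0 hTadd (e := pv 1 1) (f := pv 1 om)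
    (z := pv (om ^ 2) (om ^ 2)) (y := pv om (om ^ 2))
    (hqq _ _ (h11 1 one_ne_zero))
    (hqq _ _ (by rw [map_one, hσom]; linear_combination hom3 + h2))
    (hqq _ _ (h11 _ (pow_ne_zero 2 hom0)))
    (hqq _ _ (by rw [hσom, hs2]; linear_combination 2 * hom3 + h2))
    (hbq _ _ _ _ _ (by rw [io1]; simp only [map_add, map_mul, map_pow, map_one, hσom]; linear_combination hom + om * hom3))
    (hbq _ _ _ _ _ (by rw [io1]; simp only [map_add, map_mul, map_pow, hσom]; linear_combination hom + (om ^ 9 + om ^ 6 + 2 * om ^ 3 + om ^ 5 + om ^ 2 + om + 2) * hom3))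
    (hbq _ _ _ _ _ (by rw [io0]; simp only [map_add, map_mul, map_pow, map_one, hσom]; linear_combination (om ^ 2 + om ^ 4) * h2))
    (hbq _ _ _ _ _ (by rw [io0]; simp only [map_add, map_mul, map_pow, map_one, hσom]; linear_combination (om ^ 4 + om ^ 2) * h2 + (om ^ 5 + om ^ 2) * hom3))
    (hbq _ _ _ _ _ (by rw [io0]; simp only [map_add, map_mul, map_pow, map_one, hσom]; linear_combination (om + om ^ 2) * h2 + om * hom3))
    (hbq _ _ _ _ _ (by rw [io0]; simp only [map_add, map_mul, map_pow, map_one, hσom]; linear_combination (om + om ^ 2) * h2 + (om ^ 5 + om ^ 2 + om) * hom3))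
  -- a section
  let π₀ : Pair D x v₀ σ w ⧸ Z →* Multiplicative (Fin m → F) := QuotientGroup.lift Z
    (MonoidHom.mk' (fun a => Multiplicative.ofAdd (w a.p)) fun a b => congrArg _ (hC.mul _ a.mem _ b.mem)) fun a ha => by
      rcases ha with rfl | rfl
      · exact MonoidHom.mem_ker.2 (congrArg Multiplicative.ofAdd hw1)
      · exact MonoidHom.mem_ker.2 (congrArg Multiplicative.ofAdd hC.wx)
  let π : E →+ (Fin m → F) := AddMonoidHom.mk' (fun e => Multiplicative.toAdd (π₀ (Additive.toMul e)))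
    fun e e' => congrArg Multiplicative.toAdd (map_mul π₀ (Additive.toMul e) (Additive.toMul e'))
  have hπmk : ∀ a, π (mk a) = w a.p := fun a => rfl
  have hsec : ∀ v, π (l v) = v := by
    have h := huniq (π.comp l) (AddMonoidHom.id _) (fun v hv => by
      show π (l v) = v
      rw [hl v hv]
      by_cases v0 : v = 0
      · rw [v0, hT0, map_zero]
      obtain ⟨a, ha, rfl⟩ := hlift v v0 (by rw [← hioq, hv]; simp [io])
      rw [hTv ha]
      rfl)
    exact fun v => DFunLike.congr_fun h v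
  have hex : ∀ p ∈ PP D x v₀, ∃ a : Pair D x v₀ σ w, a.p = p ∧ mk a = l (w p) := by
    intro p hp
    obtain ⟨a, ha⟩ := QuotientGroup.mk_surjective (Additive.toMul (l (w p)))
    have e : mk a = l (w p) := by show Additive.ofMul _ = _; rw [ha]; rfl
    have hwa : w a.p = w p := by rw [← hπmk, e, hsec]
    have h0 : w (a.p⁻¹ * p) = 0 := by rw [hC.mul _ (inv_mem a.mem) p hp, hwinv a.mem, hwa, hW]
    rcases hC.ker _ (mul_mem (inv_mem a.mem) hp) h0 with h | h
    · exact ⟨a, inv_mul_eq_one.1 h, e⟩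
    · exact ⟨z * a, (hB.PP_x a.mem).eq.symm.trans ((congrArg (a.p * ·) h.symm).trans (mul_inv_cancel_left _ _)),
        by rw [hmkz, e]⟩
  choose! lft hlftp hlft using hex
  have huni : ∀ a : Pair D x v₀ σ w, mk a = l (w a.p) → (lft a.p).c = a.c := by
    intro a ha
    rcases hmkeq (ha.trans (hlft a.p a.mem).symm) with h | h
    · rw [h]
    · exfalso
      have h' := congrArg Pair.p h
      rw [hlftp a.p a.mem, hmp] at h'
      exact hB.x_ne (mul_eq_right.1 h'.symm)
  refine ⟨fun p => (lft p).c, fun p hp r hr => ?_, fun a ha => ?_, ?_, fun p hp => ?_⟩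
  · have e : (lft p * lft r).p = p * r := by rw [hmp, hlftp p hp, hlftp r hr]
    show (lft (p * r)).c = _
    rw [← e, huni _ (by rw [hmk, hlft p hp, hlft r hr, e, hC.mul p hp r hr, map_add]), hmc, hlftp p hp, hlftp r hr]
  · refine huni ⟨a, 0, hTT ha, by rw [(hTTiso ha).1, map_zero, add_zero]⟩ ?_
    rw [hl _ (io_inj (F := F) (by rw [hioq, (hTTiso ha).1, io0])), hTv ha]
  · refine huni z ?_
    show mk z = l (w x)
    rw [hC.wx, map_zero, show z = z * 1 from (mul_one z).symm, hmkz]
    rfl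
  · have h := (lft p).tr
    rwa [hlftp p hp] at h

end CfsgLib.ThreeTransp.Polar
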