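import Cfsg.Agent.Lib.ThreeTransp.Polar.Orient
import Cfsg.Agent.Lib.ThreeTransp.TranspModels
import Cfsg.Agent.Lib.Geometry.Hermitian

/-!
The translations modulo the centre of their group as a hermitian space over four elements.
-/

set_option autoImplicit false
set_option linter.unusedSectionVars false
set_option linter.style.haveILetI false

namespace CfsgLib.ThreeTransp.Polar

open Cfsg CfsgLib.Involutions CfsgLib.ThreeTransp CfsgLib.Classical.Unitary
open CfsgLib.ThreeTransp.SolvLocal (line line_clique line_subset act act_act)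

universe u

variable {G : Type u} [Group G] {D : Set G} {x v₀ : G}

open scoped _root_.Classical in
/-- The two powers of `x`. -/
noncomputable def xp (x : G) (c : ZMod 2) : G := if c = 0 then 1 else x

open scoped _root_.Classical in
/-- The squaring map into the powers of `x`. -/
noncomputable def sqv (p : G) : ZMod 2 := if p * p = 1 then 0 else 1

theorem z2c : ∀ c : ZMod 2, c = 0 ∨ c = 1 := by decide

theorem ind_zero_iff {a b : G} : ind a b = 0 ↔ Commute a b := by
  classical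
  unfold ind
  by_cases h : Commute a b <;> simp [h]

section basic

variable (hB : Base D x v₀)
include hB

theorem Base.x_ne : x ≠ 1 := fun e => by
  have h := hB.hyp.cls.ts.1 x hB.hx
  rw [e, orderOf_one] at h
  omega

theorem Base.xp_add (c d : ZMod 2) : xp x (c + d) = xp x c * xp x d := by
  rcases z2c c with rfl | rfl <;> rcases z2c d with rfl | rfl <;>
    simp [xp, CharTwo.add_self_eq_zero (1 : ZMod 2), ts_mul_self hB.hyp.cls.ts hB.hx]

theorem Base.xp_inj {c d : ZMod 2} (h : xp x c = xp x d) : c = d := by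
  rcases z2c c with rfl | rfl <;> rcases z2c d with rfl | rfl
  all_goals first
    | rfl
    | exact absurd (by simpa [xp] using h) hB.x_ne
    | exact absurd (by simpa [xp] using h.symm) hB.x_ne

theorem Base.xp_comm [Finite G] {p : G} (hp : p ∈ PP D x v₀) (c : ZMod 2) : Commute p (xp x c) := by
  rcases z2c c with rfl | rfl
  · simp [xp]
  · simpa [xp] using hB.PP_x hp

theorem Base.conj_xp [Finite G] {p q : G} (hp : p ∈ PP D x v₀) (hq : q ∈ PP D x v₀) :
    p * q * p⁻¹ = xp x (ind p q) * q := by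
  by_cases h : Commute p q
  · rw [ind_zero_iff.2 h, h.eq]; simp [xp]
  · rcases hB.PP_conj hp hq with e | e
    · exact absurd (show Commute p q from by
        show p * q = q * p
        conv_rhs => rw [← e]
        group) h
    · rw [e, (z2c (ind p q)).resolve_left fun h' => h (ind_zero_iff.1 h')]; simp [xp]

theorem Base.ind_mul [Finite G] {p r q : G} (hp : p ∈ PP D x v₀) (hr : r ∈ PP D x v₀) (hq : q ∈ PP D x v₀) :
    ind (p * r) q = ind p q + ind r q := by
  refine hB.xp_inj (mul_right_cancel (b := q) ?_)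
  rw [← hB.conj_xp (mul_mem hp hr) hq, show p * r * q * (p * r)⁻¹ = p * (r * q * r⁻¹) * p⁻¹ by group,
    hB.conj_xp hr hq, ← mul_assoc p, (hB.xp_comm hp _).eq, hB.xp_add]
  rw [show xp x (ind r q) * p * q * p⁻¹ = xp x (ind r q) * (p * q * p⁻¹) by group, hB.conj_xp hp hq, ← mul_assoc,
    ← hB.xp_add, ← hB.xp_add, add_comm]

theorem Base.ind_mul' [Finite G] {p r q : G} (hp : p ∈ PP D x v₀) (hr : r ∈ PP D x v₀) (hq : q ∈ PP D x v₀) :
    ind q (p * r) = ind q p + ind q r := by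
  rw [ind_comm, hB.ind_mul hp hr hq, ind_comm p, ind_comm r]

theorem Base.ind_inv {p q : G} : ind p⁻¹ q = ind p q := by
  by_cases h : Commute p q
  · rw [ind_zero_iff.2 h, ind_zero_iff.2 h.inv_left]
  · rw [(z2c (ind p q)).resolve_left fun h' => h (ind_zero_iff.1 h'),
      (z2c (ind p⁻¹ q)).resolve_left fun h' => h (by simpa using (ind_zero_iff.1 h').inv_left)]

theorem Base.ind_x [Finite G] {q : G} (hq : q ∈ PP D x v₀) : ind x q = 0 :=
  ind_zero_iff.2 (hB.PP_x hq).symm

theorem Base.sq_xp [Finite G] {p : G} (hp : p ∈ PP D x v₀) : p * p = xp x (sqv p) := by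
  by_cases h : p * p = 1
  · simp [sqv, xp, h]
  · simp only [sqv, if_neg h, xp, if_neg one_ne_zero]
    exact (hB.PP_sq hp).resolve_left h

theorem Base.sqv_mul [Finite G] {p r : G} (hp : p ∈ PP D x v₀) (hr : r ∈ PP D x v₀) :
    sqv (p * r) = sqv p + sqv r + ind p r := by
  refine hB.xp_inj ?_
  rw [← hB.sq_xp (mul_mem hp hr), hB.xp_add, hB.xp_add, ← hB.sq_xp hp, ← hB.sq_xp hr]
  have e : r * p = xp x (ind p r) * (p * r) := by
    have h := hB.conj_xp hr hp
    rw [ind_comm] at h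
    calc r * p = r * p * r⁻¹ * r := by group
      _ = _ := by rw [h, mul_assoc]
  calc p * r * (p * r) = p * (r * p) * r := by group
    _ = (p * xp x (ind p r)) * (p * r * r) := by rw [e]; group
    _ = xp x (ind p r) * (p * p * (r * r)) := by rw [(hB.xp_comm hp _).eq]; group
    _ = _ := (hB.xp_comm (mul_mem (mul_mem hp hp) (mul_mem hr hr)) _).eq.symm

/-- Values of the commutator pairing on the translations determine it on the group. -/
theorem Base.ind_ext [Finite G] {p p' : G} (hp : p ∈ PP D x v₀) (hp' : p' ∈ PP D x v₀)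
    (h : ∀ a ∈ TT D x v₀, ind p a = ind p' a) {q : G} (hq : q ∈ PP D x v₀) : ind p q = ind p' q := by
  induction hq using Subgroup.closure_induction with
  | mem g hg =>
    rcases hg with rfl | hg
    · rw [ind_comm, hB.ind_x hp, ind_comm, hB.ind_x hp']
    · exact h g hg
  | one => rw [ind_zero_iff.2 (Commute.one_right p), ind_zero_iff.2 (Commute.one_right p')]
  | mul g k hg hk i j => rw [hB.ind_mul' hg hk hp, hB.ind_mul' hg hk hp', i, j]
  | inv g hg i => rw [ind_comm, hB.ind_inv, ind_comm g, i, ind_comm, ← hB.ind_inv (p := g), ind_comm]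

theorem Base.x_not_TT [Finite G] : x ∉ TT D x v₀ := by
  rintro ⟨s, hs, h⟩
  have hT := hB.hyp.cls.ts
  have h1 := hB.act_commute hs h
  rw [show act x v₀ = v₀ * x * v₀ by rw [act, ts_inv hT hB.hx, ts_braid hT hB.hx hB.hv hB.hxv]] at h1
  have h2 := (LocalThree.cnj_iff hT hB.hv).2 h1
  rw [LocalThree.cnj_self hT hB.hv (Commute.refl _), LocalThree.cnj_twice hT hB.hv] at h2
  exact hB.hxv h2.symm

theorem Base.one_not_TT [Finite G] : (1 : G) ∉ TT D x v₀ := by
  rintro ⟨s, hs, h⟩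
  exact (hB.TS_facts hs h).2.2.2.2.2.2.2.1 (by simp [act])

theorem Base.exists_TT [Finite G] : ∃ a, a ∈ TT D x v₀ := by
  obtain ⟨s, hs⟩ := hB.hyp.join x hB.hx v₀ hB.hv hB.hxv
  obtain ⟨a, ha⟩ := hB.TS_nonempty hs
  exact ⟨a, s, hs, ha⟩

end basic

section field

variable {F : Type} [Field F]

open scoped _root_.Classical in
/-- The two elements of the prime field inside. -/
noncomputable def io (c : ZMod 2) : F := if c = 0 then 0 else 1

theorem io_add (h2 : (1 : F) + 1 = 0) (c d : ZMod 2) : (io (c + d) : F) = io c + io d := by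
  rcases z2c c with rfl | rfl <;> rcases z2c d with rfl | rfl <;>
    simp [io, h2, CharTwo.add_self_eq_zero (1 : ZMod 2)]

theorem io_map {σ : F →+* F} (c : ZMod 2) : σ (io c) = io c := by
  rcases z2c c with rfl | rfl <;> simp [io]

theorem io_eq_zero {c : ZMod 2} : (io c : F) = 0 ↔ c = 0 := by
  rcases z2c c with rfl | rfl <;> simp [io]

theorem io_inj {c d : ZMod 2} (h : (io c : F) = io d) : c = d := by
  rcases z2c c with rfl | rfl <;> rcases z2c d with rfl | rfl <;> simp [io] at h ⊢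

end field

variable {F : Type} [Field F] [Finite F] {σ : F →+* F}

/-- Coordinates for the translation group. -/
structure Coord (D : Set G) (x v₀ : G) (σ : F →+* F) {m : ℕ} (w : G → Fin m → F) : Prop where
  mul : ∀ p ∈ PP D x v₀, ∀ r ∈ PP D x v₀, w (p * r) = w p + w r
  surj : ∀ u, ∃ p ∈ PP D x v₀, w p = u
  wx : w x = 0
  ker : ∀ p ∈ PP D x v₀, w p = 0 → p = 1 ∨ p = x
  trace : ∀ p ∈ PP D x v₀, ∀ r ∈ PP D x v₀, uh σ (w p) (w r) + σ (uh σ (w p) (w r)) = io (ind p r)
  norm : ∀ p ∈ PP D x v₀, uh σ (w p) (w p) = io (sqv p)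
  scal : ∀ s ∈ both D x v₀, ∀ a ∈ TS D x s, ∀ c ∈ TS D x s, ∃ γ : F, w c = γ • w a
  orth : ∀ s ∈ both D x v₀, ∀ r ∈ both D x v₀, ∀ a ∈ TS D x s, ∀ c ∈ TS D x r,
    (uh σ (w a) (w c) = 0 ↔ Commute s r)

variable (hB : Base D x v₀)
include hB

/-- The hermitian space. -/
theorem Base.exists_coords [Finite G] (hF : Nat.card F = 4) (hσ : UFrob σ 2) :
    ∃ (m : ℕ) (w : G → Fin m → F), Coord D x v₀ σ w := by
  classical
  obtain ⟨-, hnorm, h2⟩ := Models.four_facts hF hσ
  obtain ⟨w₄, hw₄, hw₄3, hσw⟩ := CfsgLib.Classical.Unitary.exists_omega (q := 2) (by rw [hF]; rfl) hσ rfl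
  have haa : ∀ c : F, c + c = 0 := fun c => by linear_combination c * h2
  have hw2 : w₄ ^ 2 = w₄ + 1 := by linear_combination hw₄ - haa (w₄ + 1)
  have hw0 : w₄ ≠ 0 := fun e => by rw [e] at hw₄; simp at hw₄
  have hfour : ∀ c : F, c = 0 ∨ c = 1 ∨ c = w₄ ∨ c = w₄ ^ 2 := fun c => by
    by_cases h0 : c = 0
    · exact Or.inl h0
    right
    have h3 : c * (c * c) = 1 := by
      have := hnorm c h0
      rw [hσ.pow, pow_two] at this
      exact this
    rcases mul_eq_zero.1 (show (c - 1) * ((c - w₄) * (c - w₄ ^ 2)) = 0 by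
      linear_combination h3 - hw₄ * c ^ 2 + hw₄ * c * w₄ - hw₄3) with e | e
    · exact Or.inl (sub_eq_zero.1 e)
    · rcases mul_eq_zero.1 e with e | e
      · exact Or.inr (Or.inl (sub_eq_zero.1 e))
      · exact Or.inr (Or.inr (sub_eq_zero.1 e))
  obtain ⟨om, hom1, hom2⟩ := hB.exists_omega
  have hTT : ∀ {a}, a ∈ TT D x v₀ → a ∈ PP D x v₀ := fun ha => hB.TT_mem ha
  have homT : ∀ {a}, a ∈ TT D x v₀ → om a ∈ TT D x v₀ ∧ om (om (om a)) = a := by
    rintro a ⟨s, hs, ha⟩
    exact ⟨⟨s, hs, (hom1 s hs a ha).1⟩, (hom1 s hs a ha).2.2⟩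
  have hind : ∀ {a c}, a ∈ TT D x v₀ → c ∈ TT D x v₀ → ind (om a) (om c) = ind a c := by
    intro a c ha hc
    by_cases h : Commute a c
    · rw [ind_zero_iff.2 h, ind_zero_iff.2 ((hom2 a ha c hc).2 h)]
    · rw [(z2c (ind a c)).resolve_left fun h' => h (ind_zero_iff.1 h'),
        (z2c (ind (om a) (om c))).resolve_left fun h' => h ((hom2 a ha c hc).1 (ind_zero_iff.1 h'))]
  -- the third translation of a line is the product
  have hthird : ∀ {a}, a ∈ TT D x v₀ → om (om a) = a * om a := by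
    rintro a ⟨s, hs, ha⟩
    obtain ⟨e₀, he₀⟩ := hB.exists_enum
    obtain ⟨hinj, -, hsur⟩ := he₀ s hs
    obtain ⟨ha', hne, h3⟩ := hom1 s hs a ha
    obtain ⟨ha'', hne', -⟩ := hom1 s hs _ ha'
    have hne2 : om (om a) ≠ a := fun e => by rw [e] at h3; exact hne h3
    have hm := hB.TS_mul hs ha ha' hne.symm
    obtain ⟨i, hi⟩ := hsur _ ha
    obtain ⟨j, hj⟩ := hsur _ ha'
    obtain ⟨k, hk⟩ := hsur _ ha''
    obtain ⟨l, hl⟩ := hsur _ hm
    have key : ∀ i j k l : Fin 3, i ≠ j → i ≠ k → j ≠ k → l = i ∨ l = j ∨ l = k := by decide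
    rcases key i j k l (fun e => hne (by rw [← hj, ← hi, e])) (fun e => hne2 (by rw [← hk, ← hi, e]))
      (fun e => hne' (by rw [← hk, ← hj, e])) with e | e | e
    · rw [e, hi] at hl
      exact absurd (mul_eq_left.1 hl.symm) fun e' => hB.one_not_TT (e' ▸ ⟨s, hs, ha'⟩)
    · rw [e, hj] at hl
      exact absurd (mul_eq_right.1 hl.symm) fun e' => hB.one_not_TT (e' ▸ ⟨s, hs, ha⟩)
    · rw [← hk, ← hl, e]
  -- multiplication by the cube root
  have hrot : ∀ p ∈ PP D x v₀, ∃ p' ∈ PP D x v₀, ∀ a ∈ TT D x v₀, ind p' a = ind p (om (om a)) := by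
    intro p hp
    induction hp using Subgroup.closure_induction with
    | mem g hg =>
      rcases hg with rfl | hg
      · exact ⟨_, hB.x_mem, fun a ha => by
          rw [hB.ind_x (hTT ha), hB.ind_x (hTT (homT (homT ha).1).1)]⟩
      · refine ⟨om g, hTT (homT hg).1, fun a ha => ?_⟩
        conv_lhs => rw [← (homT ha).2]
        exact hind hg (homT (homT ha).1).1
    | one => exact ⟨1, one_mem _, fun a ha => by rw [ind_zero_iff.2 (Commute.one_left a),
        ind_zero_iff.2 (Commute.one_left _)]⟩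
    | mul g k hg hk i j =>
      obtain ⟨g', hg', hg''⟩ := i
      obtain ⟨k', hk', hk''⟩ := j
      exact ⟨g' * k', mul_mem hg' hk', fun a ha => by
        rw [hB.ind_mul hg' hk' (hTT ha), hB.ind_mul hg hk (hTT (homT (homT ha).1).1), hg'' a ha, hk'' a ha]⟩
    | inv g hg i =>
      obtain ⟨g', hg', hg''⟩ := i
      exact ⟨g', hg', fun a ha => by rw [hg'' a ha, hB.ind_inv]⟩
  choose! rt hrtP hrt using hrot
  have hrtmul : ∀ {p r q}, p ∈ PP D x v₀ → r ∈ PP D x v₀ → q ∈ PP D x v₀ →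
      ind (rt (p * r)) q = ind (rt p) q + ind (rt r) q := by
    intro p r q hp hr hq
    rw [← hB.ind_mul (hrtP _ hp) (hrtP _ hr) hq]
    exact hB.ind_ext (hrtP _ (mul_mem hp hr)) (mul_mem (hrtP _ hp) (hrtP _ hr)) (fun a ha => by
      rw [hB.ind_mul (hrtP _ hp) (hrtP _ hr) (hTT ha), hrt _ (mul_mem hp hr) a ha, hrt p hp a ha,
        hrt r hr a ha, hB.ind_mul hp hr (hTT (homT (homT ha).1).1)]) hq
  have hrtinv : ∀ {p q}, p ∈ PP D x v₀ → q ∈ PP D x v₀ → ind (rt p⁻¹) q = ind (rt p) q := fun {p q} hp hq =>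
    hB.ind_ext (hrtP _ (inv_mem hp)) (hrtP _ hp) (fun a ha => by
      rw [hrt _ (inv_mem hp) a ha, hrt _ hp a ha, hB.ind_inv]) hq
  have hrtrt : ∀ {p q}, p ∈ PP D x v₀ → q ∈ PP D x v₀ → ind (rt (rt p)) q = ind (rt p) q + ind p q := by
    intro p q hp hq
    rw [← hB.ind_mul (hrtP _ hp) hp hq]
    refine hB.ind_ext (hrtP _ (hrtP _ hp)) (mul_mem (hrtP _ hp) hp) (fun a ha => ?_) hq
    rw [hB.ind_mul (hrtP _ hp) hp (hTT ha), hrt _ (hrtP _ hp) a ha, hrt p hp _ (homT (homT ha).1).1,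
      (homT ha).2, hrt p hp a ha, hthird ha, hB.ind_mul' (hTT ha) (hTT (homT ha).1) hp, add_comm (ind p a),
      add_assoc, CharTwo.add_self_eq_zero, add_zero]
  have hrtrtq : ∀ {p}, p ∈ PP D x v₀ → ∀ {q}, q ∈ PP D x v₀ → ind (rt p) (rt q) = ind p q := by
    intro p hp q hq
    induction hq using Subgroup.closure_induction with
    | mem g hg =>
      rcases hg with rfl | hg
      · rw [ind_comm p, hB.ind_x hp, ind_comm]
        refine (hB.ind_ext (hrtP _ hB.x_mem) hB.x_mem (fun a ha => ?_) (hrtP _ hp)).trans (hB.ind_x (hrtP _ hp))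
        rw [hrt _ hB.x_mem a ha, hB.ind_x (hTT ha), hB.ind_x (hTT (homT (homT ha).1).1)]
      · rw [ind_comm, hB.ind_ext (hrtP _ (hTT hg)) (hTT (homT hg).1) (fun a ha => ?_) (hrtP _ hp), ind_comm,
          hrt p hp _ (homT hg).1, (homT hg).2]
        rw [hrt _ (hTT hg) a ha]
        conv_rhs => rw [← (homT ha).2]
        exact (hind hg (homT (homT ha).1).1).symm
    | one =>
      rw [ind_zero_iff.2 (Commute.one_right p), ind_comm]
      refine (hB.ind_ext (hrtP _ (one_mem _)) (one_mem _) (fun a ha => ?_) (hrtP _ hp)).trans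
        (ind_zero_iff.2 (Commute.one_left _))
      rw [hrt _ (one_mem _) a ha, ind_zero_iff.2 (Commute.one_left _), ind_zero_iff.2 (Commute.one_left _)]
    | mul g k hg hk i j =>
      rw [ind_comm, hrtmul hg hk (hrtP _ hp), ind_comm, ind_comm (rt k), i, j, hB.ind_mul' hg hk hp]
    | inv g hg i => rw [ind_comm, hrtinv hg (hrtP _ hp), ind_comm, i, ind_comm p g⁻¹, hB.ind_inv, ind_comm]
  have hadj : ∀ {p q}, p ∈ PP D x v₀ → q ∈ PP D x v₀ → ind (rt q) p = ind p q + ind (rt p) q := by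
    intro p q hp hq
    rw [ind_comm (rt q), ← hrtrtq hp (hrtP _ hq), ind_comm (rt p) (rt (rt q)), hrtrt hq (hrtP _ hp),
      ind_comm (rt q) (rt p), hrtrtq hp hq, ind_comm q]
  have hdiag : ∀ {p}, p ∈ PP D x v₀ → ind (rt p) p = sqv p := by
    intro p hp
    induction hp using Subgroup.closure_induction with
    | mem g hg =>
      rcases hg with rfl | hg
      · rw [ind_comm, hB.ind_x (hrtP _ hB.x_mem), sqv, if_pos (ts_mul_self hB.hyp.cls.ts hB.hx)]
      · obtain ⟨s, hs, hgs⟩ := id hg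
        rw [hB.ind_ext (hrtP _ (hTT hg)) (hTT (homT hg).1) (fun a ha => ?_) (hTT hg)]
        · rw [sqv, if_pos (hB.TS_facts hs hgs).2.2.1]
          exact ind_zero_iff.2 ((hB.conj_gen hs hs hgs (hom1 s hs g hgs).1).1 (Commute.refl s))
        · rw [hrt _ (hTT hg) a ha]
          conv_rhs => rw [← (homT ha).2]
          exact (hind hg (homT (homT ha).1).1).symm
    | one =>
      rw [sqv, if_pos (one_mul 1)]
      exact ind_zero_iff.2 (Commute.one_right _)
    | mul g k hg hk i j =>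
      rw [hrtmul hg hk (mul_mem hg hk), hB.ind_mul' hg hk (hrtP _ hg), hB.ind_mul' hg hk (hrtP _ hk), i, j,
        hadj hg hk, hB.sqv_mul hg hk]
      generalize ind g k = b
      generalize ind (rt g) k = b'
      generalize sqv g = A
      generalize sqv k = C
      revert b b' A C
      decide
    | inv g hg i =>
      rw [hrtinv hg (inv_mem hg), ind_comm, hB.ind_inv, ind_comm, i, sqv, sqv]
      congr 1
      rw [← mul_inv_rev, inv_eq_one]
  -- the form
  let h : G → G → F := fun p q => w₄ ^ 2 * io (ind p q) + io (ind (rt p) q)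
  have hσh : ∀ p q, σ (h p q) = w₄ * io (ind p q) + io (ind (rt p) q) := fun p q => by
    simp only [h, map_add, map_mul, map_pow, io_map, hσw]
    linear_combination (io (ind p q) * w₄) * hw₄3
  have htr : ∀ p q, h p q + σ (h p q) = io (ind p q) := fun p q => by
    rw [hσh]
    simp only [h]
    linear_combination (io (ind p q)) * hw2 + haa (io (ind (rt p) q)) + haa (io (ind p q) * w₄)
  have hsym : ∀ {p q}, p ∈ PP D x v₀ → q ∈ PP D x v₀ → h q p = σ (h p q) := fun {p q} hp hq => by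
    rw [hσh]
    simp only [h]
    rw [ind_comm q p, hadj hp hq, io_add h2]
    linear_combination (io (ind p q)) * hw2 + haa (io (ind p q))
  have hmul : ∀ {p r q}, p ∈ PP D x v₀ → r ∈ PP D x v₀ → q ∈ PP D x v₀ → h (p * r) q = h p q + h r q :=
    fun {p r q} hp hr hq => by
      simp only [h]
      rw [hB.ind_mul hp hr hq, hrtmul hp hr hq, io_add h2, io_add h2]; ring
  have hhrt : ∀ {p q}, p ∈ PP D x v₀ → q ∈ PP D x v₀ → h (rt p) q = w₄ * h p q := fun {p q} hp hq => by
    simp only [h]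
    rw [hrtrt hp hq, io_add h2]
    linear_combination (io (ind (rt p) q)) * (hw2 + haa 1) - (io (ind p q)) * hw₄3
  have hzero : ∀ {p q}, h p q = 0 → ind p q = 0 ∧ ind (rt p) q = 0 := fun {p q} e => by
    have h1 := htr p q
    rw [e, map_zero, add_zero] at h1
    have h1' := io_eq_zero.1 h1.symm
    simp only [h, h1', io_eq_zero.2, mul_zero, zero_add] at e
    exact ⟨h1', io_eq_zero.1 e⟩
  let ev : G → ↥(TT D x v₀) → F := fun p a => h p a
  have hext : ∀ {p p'}, p ∈ PP D x v₀ → p' ∈ PP D x v₀ → ev p = ev p' → ∀ {q}, q ∈ PP D x v₀ →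
      h p q = h p' q := by
    intro p p' hp hp' e q hq
    have e1 : ∀ a ∈ TT D x v₀, ind p a = ind p' a := fun a ha => io_inj (F := F) (by
      rw [← htr p a, ← htr p' a, show h p a = h p' a from congrFun e ⟨a, ha⟩])
    have e2 : ∀ a ∈ TT D x v₀, ind (rt p) a = ind (rt p') a := fun a ha => io_inj (F := F) (by
      have := congrFun e ⟨a, ha⟩
      simp only [ev, h, e1 a ha] at this
      exact add_left_cancel this)
    simp only [h]
    rw [hB.ind_ext hp hp' e1 hq, hB.ind_ext (hrtP _ hp) (hrtP _ hp') e2 hq]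
  have h1v : ∀ q, q ∈ PP D x v₀ → h 1 q = 0 := fun q hq => by
    have := hmul (one_mem _) (one_mem _) hq
    rw [one_mul] at this
    exact left_eq_add.1 this
  let W : Submodule F (↥(TT D x v₀) → F) :=
    { carrier := {f | ∃ p ∈ PP D x v₀, ev p = f}
      zero_mem' := ⟨1, one_mem _, funext fun a => h1v a (hTT a.2)⟩
      add_mem' := by
        rintro f g ⟨p, hp, rfl⟩ ⟨r, hr, rfl⟩
        exact ⟨p * r, mul_mem hp hr, funext fun a => hmul hp hr (hTT a.2)⟩
      smul_mem' := by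
        rintro c f ⟨p, hp, rfl⟩
        rcases hfour c with rfl | rfl | rfl | rfl
        · exact ⟨1, one_mem _, funext fun a => (h1v a (hTT a.2)).trans (zero_mul _).symm⟩
        · exact ⟨p, hp, (one_smul F _).symm⟩
        · exact ⟨rt p, hrtP _ hp, funext fun a => hhrt hp (hTT a.2)⟩
        · exact ⟨rt (rt p), hrtP _ (hrtP _ hp), funext fun a => by
            show h _ _ = w₄ ^ 2 * h p a
            rw [hhrt (hrtP _ hp) (hTT a.2), hhrt hp (hTT a.2), pow_two, mul_assoc]⟩ }
  choose pre hpre1 hpre2 using fun f : W => f.2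
  let Bv : W → W → F := fun f g => h (pre g) (pre f)
  have hBadd : ∀ f g g', Bv f (g + g') = Bv f g + Bv f g' := fun f g g' => by
    simp only [Bv]
    rw [← hmul (hpre1 g) (hpre1 g') (hpre1 f)]
    refine hext (hpre1 _) (mul_mem (hpre1 g) (hpre1 g')) ?_ (hpre1 f)
    rw [hpre2]
    funext a
    show (g : _ → F) a + (g' : _ → F) a = h _ _
    rw [hmul (hpre1 g) (hpre1 g') (hTT a.2)]
    conv_lhs => rw [← hpre2 g, ← hpre2 g']
  have hBsm : ∀ (c : F) f g, Bv f (c • g) = c * Bv f g := fun c f g => by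
    simp only [Bv]
    have key : ∀ p' ∈ PP D x v₀, (∀ q ∈ PP D x v₀, h p' q = c * h (pre g) q) →
        h (pre (c • g)) (pre f) = c * h (pre g) (pre f) := fun p' hp' hh => by
      rw [hext (hpre1 _) hp' ?_ (hpre1 f), hh _ (hpre1 f)]
      rw [hpre2]
      funext a
      show c * (g : _ → F) a = h p' a
      rw [hh _ (hTT a.2)]
      conv_lhs => rw [← hpre2 g]
    rcases hfour c with rfl | rfl | rfl | rfl
    · exact key 1 (one_mem _) fun q hq => by rw [h1v q hq, zero_mul]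
    · exact key _ (hpre1 g) fun q _ => (one_mul _).symm
    · exact key _ (hrtP _ (hpre1 g)) fun q hq => hhrt (hpre1 g) hq
    · exact key _ (hrtP _ (hrtP _ (hpre1 g))) fun q hq => by
        rw [hhrt (hrtP _ (hpre1 g)) hq, hhrt (hpre1 g) hq, pow_two, mul_assoc]
  have hBsym : ∀ f g, σ (Bv f g) = Bv g f := fun f g => (hsym (hpre1 g) (hpre1 f)).symm
  let B : W →ₛₗ[σ] W →ₗ[F] F := LinearMap.mk₂'ₛₗ σ (RingHom.id F) Bv
    (fun f f' g => by rw [← hBsym g, hBadd, map_add, hBsym, hBsym])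
    (fun c f g => by rw [← hBsym g, hBsm, map_mul, hBsym]; rfl)
    (fun f g g' => hBadd f g g') (fun c f g => hBsm c f g)
  have hS : B.IsSymm := ⟨fun f g => hBsym f g⟩
  have hN1 : ∀ f, (∀ g, B f g = 0) → f = 0 := fun f hf => by
    refine Subtype.ext (funext fun a => ?_)
    obtain ⟨g, hg⟩ : ∃ g : W, (g : _ → F) = ev a := ⟨⟨_, a, hTT a.2, rfl⟩, rfl⟩
    have e := hf g
    change h (pre g) (pre f) = 0 at e
    rw [hext (hpre1 g) (hTT a.2) ((hpre2 g).trans hg) (hpre1 f)] at e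
    rw [← hpre2 f]
    show h (pre f) a = 0
    rw [hsym (hTT a.2) (hpre1 f), e, map_zero]
  have hN : B.Nondegenerate := ⟨hN1, fun g hg => hN1 g fun f => by rw [← hS.eq, hg, map_zero]⟩
  obtain ⟨b, hb⟩ := CfsgLib.Geometry.exists_orthonormal hσ.ne hσ.invol hS hN
  let ψ := b.equivFun
  have hψ : ∀ f g, uh σ (ψ f) (ψ g) = B g f := fun f g => by
    conv_rhs => rw [← b.sum_equivFun f, ← b.sum_equivFun g]
    simp only [map_sum, LinearMap.sum_apply, LinearMap.map_smulₛₗ, LinearMap.smul_apply, hb, smul_eq_mul,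
      RingHom.id_apply, mul_ite, mul_one, mul_zero, Finset.sum_ite_eq', Finset.mem_univ, if_true, uh, dotProduct,
      Function.comp_apply, ψ]
  let w : G → Fin (Module.finrank F W) → F := fun p =>
    if hp : p ∈ PP D x v₀ then ψ ⟨ev p, p, hp, rfl⟩ else 0
  have hwp : ∀ {p} (hp : p ∈ PP D x v₀), w p = ψ ⟨ev p, p, hp, rfl⟩ := fun hp => dif_pos hp
  have hh : ∀ {p q}, p ∈ PP D x v₀ → q ∈ PP D x v₀ → uh σ (w p) (w q) = h p q := fun {p q} hp hq => by
    rw [hwp hp, hwp hq, hψ]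
    show h (pre _) (pre _) = _
    rw [hext (hpre1 _) hp (hpre2 _) (hpre1 _), hsym (hpre1 _) hp, hext (hpre1 _) hq (hpre2 _) hp,
      ← hsym hq hp]
  have hw0' : ∀ p ∈ PP D x v₀, w p = 0 ↔ ∀ a ∈ TT D x v₀, h p a = 0 := fun p hp => by
    rw [hwp hp, LinearEquiv.map_eq_zero_iff]
    refine ⟨fun e a ha => congrFun (congrArg Subtype.val e) ⟨a, ha⟩, fun e => Subtype.ext (funext fun a => e a a.2)⟩
  have hscal : ∀ {a}, a ∈ TT D x v₀ → w (om a) = w₄ • w a := fun {a} ha => by
    rw [hwp (hTT (homT ha).1), hwp (hTT ha), ← map_smul]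
    refine congrArg ψ (Subtype.ext (funext fun c => ?_))
    show h (om a) c = w₄ * h a c
    rw [← hhrt (hTT ha) (hTT c.2)]
    have e : ∀ d ∈ TT D x v₀, ind (rt a) d = ind (om a) d := fun d hd => by
      rw [hrt _ (hTT ha) d hd]
      conv_rhs => rw [← (homT hd).2]
      exact (hind ha (homT (homT hd).1).1).symm
    have e2 : ∀ d ∈ TT D x v₀, ind (rt (om a)) d = ind (rt (rt a)) d := fun d hd => by
      rw [hrt _ (hTT (homT ha).1) d hd, hrt _ (hrtP _ (hTT ha)) d hd, e _ (homT (homT hd).1).1]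
    simp only [h]
    rw [e c c.2, e2 c c.2]
  refine ⟨_, w, ⟨fun p hp r hr => ?_, fun u => ?_, ?_, fun p hp hp0 => ?_, fun p hp r hr => ?_, fun p hp => ?_,
    fun s hs a ha c hc => ?_, fun s hs r hr a ha c hc => ?_⟩⟩
  · rw [hwp (mul_mem hp hr), hwp hp, hwp hr, ← map_add]
    exact congrArg ψ (Subtype.ext (funext fun a => hmul hp hr (hTT a.2)))
  · refine ⟨pre (ψ.symm u), hpre1 _, ?_⟩
    rw [hwp (hpre1 _)]
    exact (congrArg ψ (Subtype.ext (hpre2 _))).trans (ψ.apply_symm_apply u)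
  · refine (hw0' x hB.x_mem).2 fun a ha => ?_
    simp only [h]
    rw [hB.ind_x (hTT ha), hrt _ hB.x_mem a ha, hB.ind_x (hTT (homT (homT ha).1).1)]
    simp [io]
  · exact hB.PP_centre hp fun a ha => ind_zero_iff.1 (hzero ((hw0' p hp).1 hp0 a ha)).1
  · rw [hh hp hr, htr]
  · rw [hh hp hp]
    simp only [h]
    rw [show ind p p = 0 from ind_zero_iff.2 (Commute.refl p), hdiag hp]
    simp [io]
  · obtain ⟨ha', hne, h3⟩ := hom1 s hs a ha
    obtain ⟨ha'', hne', -⟩ := hom1 s hs _ ha'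
    have hne2 : om (om a) ≠ a := fun e => by rw [e] at h3; exact hne h3
    obtain ⟨e₀, he₀⟩ := hB.exists_enum
    obtain ⟨-, -, hsur⟩ := he₀ s hs
    obtain ⟨i, hi⟩ := hsur _ ha
    obtain ⟨j, hj⟩ := hsur _ ha'
    obtain ⟨k, hk⟩ := hsur _ ha''
    obtain ⟨l, hl⟩ := hsur _ hc
    have key : ∀ i j k l : Fin 3, i ≠ j → i ≠ k → j ≠ k → l = i ∨ l = j ∨ l = k := by decide
    rcases key i j k l (fun e => hne (by rw [← hj, ← hi, e])) (fun e => hne2 (by rw [← hk, ← hi, e]))
      (fun e => hne' (by rw [← hk, ← hj, e])) with rfl | rfl | rfl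
    · exact ⟨1, by rw [← hl, hi, one_smul]⟩
    · exact ⟨w₄, by rw [← hl, hj, hscal ⟨s, hs, ha⟩]⟩
    · exact ⟨w₄ * w₄, by rw [← hl, hk, hscal ⟨s, hs, ha'⟩, hscal ⟨s, hs, ha⟩, smul_smul]⟩
  · rw [hh (hTT ⟨s, hs, ha⟩) (hTT ⟨r, hr, hc⟩)]
    obtain ⟨ha', hne, -⟩ := hom1 s hs a ha
    have e : ind (rt a) c = ind (om a) c := hB.ind_ext (hrtP _ (hTT ⟨s, hs, ha⟩)) (hTT ⟨s, hs, ha'⟩) (fun d hd => by
      rw [hrt _ (hTT ⟨s, hs, ha⟩) d hd]
      conv_rhs => rw [← (homT hd).2]
      exact (hind ⟨s, hs, ha⟩ (homT (homT hd).1).1).symm) (hTT ⟨r, hr, hc⟩)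
    constructor
    · intro h0
      by_contra hsr
      obtain ⟨d, -, -, -, huniq, -, -⟩ := hB.TS_pair hr hs (fun e => hsr e.symm) hc
      have c1 := huniq a ha (ind_zero_iff.1 (hzero h0).1).symm
      have c2 := huniq _ ha' (ind_zero_iff.1 (e ▸ (hzero h0).2)).symm
      exact hne (c2.trans c1.symm)
    · intro hsr
      simp only [h]
      rw [e, ind_zero_iff.2 ((hB.conj_gen hs hr ha hc).1 hsr).symm,
        ind_zero_iff.2 ((hB.conj_gen hs hr ha' hc).1 hsr).symm]
      simp [io]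

end CfsgLib.ThreeTransp.Polar
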