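import Cfsg.Agent.Lib.ThreeTransp.FischerHyp
import Cfsg.Agent.Lib.ThreeTransp.Blocks
import Cfsg.Agent.Lib.ThreeTransp.LocalThree.Exchange
import Cfsg.Agent.Lib.ThreeTransp.SolvLocal.Lines

/-!
Primitive classes of 3-transpositions in which the 2-core of the group of neighbours is noncentral: two
neighbours of a member are congruent modulo that core exactly when they are on one singular line with it.
-/

set_option autoImplicit false
set_option linter.unusedSectionVars false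
set_option linter.style.haveILetI false

namespace CfsgLib.ThreeTransp.Polar

open Cfsg CfsgLib.Involutions CfsgLib.ThreeTransp
open CfsgLib.ThreeTransp.SolvLocal (perp2 line left_mem_line right_mem_line line_clique line_subset line_comm
  left_mem_perp2 nb_symm')

universe u

variable {G : Type u} [Group G] {D : Set G}

/-- The 2-core of the group of neighbours, in `G`. -/
def core (D : Set G) (s : G) : Subgroup G :=
  (pCore 2 ↥(Subgroup.closure (nb D s))).map (Subgroup.closure (nb D s)).subtype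

theorem core_le (D : Set G) (s : G) : core D s ≤ Subgroup.closure (nb D s) := Subgroup.map_subtype_le _

theorem core_two [Finite G] (D : Set G) (s : G) : IsPGroup 2 (core D s) := by
  haveI : Fact (Nat.Prime 2) := ⟨Nat.prime_two⟩
  exact (Base.isPGroup_pCore 2 _).map _

theorem core_conj [Finite G] {s g x : G} (hg : g ∈ Subgroup.closure (nb D s)) (hx : x ∈ core D s) :
    g * x * g⁻¹ ∈ core D s := by
  obtain ⟨x, hx, rfl⟩ := hx
  exact ⟨⟨g, hg⟩ * x * ⟨g, hg⟩⁻¹, (inferInstance : (pCore 2 _).Normal).conj_mem x hx _, rfl⟩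

/-- The hypotheses. -/
structure Hyp (D : Set G) : Prop where
  cls : TClass D
  prim : IsPrimitiveUnderConj D
  centre : Subgroup.center G = ⊥
  edge : ∀ x ∈ D, ∀ y ∈ nb D x, ∀ x' ∈ D, ∀ y' ∈ nb D x', SamePair x y x' y'
  nonedge : ∀ x ∈ D, ∀ y ∈ D, ¬ Commute x y → ∀ x' ∈ D, ∀ y' ∈ D, ¬ Commute x' y' → SamePair x y x' y'
  edges : ∀ x ∈ D, (nb D x).Nonempty
  big : ∀ x ∈ D, ∀ y ∈ nb D x, ∃ z ∈ nb D x, z ≠ y ∧ y * z ∈ core D x
  join : ∀ x ∈ D, ∀ y ∈ D, ¬ Commute x y → (both D x y).Nonempty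

/-- Commuting congruent members modulo a 2-group: their products with a third one. -/
theorem commute_congr [Finite G] (hT : IsThreeTranspositionSet D) {s a b w : G} (ha : a ∈ nb D s) (hb : b ∈ nb D s)
    (hm : a * b ∈ core D s) (hw : w ∈ nb D s) (hwa : Commute w a) : Commute w b := by
  by_contra hn
  have hS : ∀ {v : G}, v ∈ nb D s → v ∈ Subgroup.closure (nb D s) := fun hv => Subgroup.subset_closure hv
  haveI : Fact (Nat.Prime 2) := ⟨Nat.prime_two⟩
  set H := Subgroup.closure (nb D s)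
  obtain ⟨c, hc, hce⟩ := hm
  set A : ↥H := ⟨a, hS ha⟩
  set B : ↥H := ⟨b, hS hb⟩
  set W : ↥H := ⟨w, hS hw⟩
  have hAB : A * B ∈ pCore 2 ↥H := by
    rw [show A * B = c from Subtype.ext hce.symm]; exact hc
  have hA : A * A = 1 := Subtype.ext (ts_mul_self hT ha.1)
  have hq : (B : ↥H ⧸ pCore 2 ↥H) = A := by
    rw [QuotientGroup.eq]
    have : B⁻¹ = B := Subtype.ext (ts_inv hT hb.1)
    rw [this]
    have h2 := inv_mem hAB
    rwa [mul_inv_rev, this, show A⁻¹ = A from inv_eq_of_mul_eq_one_right hA] at h2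
  have e3 : ((W : ↥H ⧸ pCore 2 ↥H) * B) ^ 3 = 1 := by
    show (((W * B) ^ 3 : ↥H) : ↥H ⧸ pCore 2 ↥H) = 1
    rw [show (W * B) ^ 3 = 1 from Subtype.ext (ts_cube hT hw.1 hb.1 hn)]; rfl
  have e2 : ((W : ↥H ⧸ pCore 2 ↥H) * B) ^ 2 = 1 := by
    rw [hq]
    show (((W * A) ^ 2 : ↥H) : ↥H ⧸ pCore 2 ↥H) = 1
    rw [show (W * A) ^ 2 = 1 from Subtype.ext ((invol_commute_iff (ts_invol hT hw.1) (ts_invol hT ha.1)).1 hwa)]
    rfl
  have hWB : W * B ∈ pCore 2 ↥H := by
    rw [← QuotientGroup.eq_one_iff]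
    show (W : ↥H ⧸ pCore 2 ↥H) * B = 1
    calc _ = ((W : ↥H ⧸ pCore 2 ↥H) * B) ^ 3 := by rw [pow_succ _ 2, e2, one_mul]
      _ = 1 := e3
  exact hn (ts_commute_of_mem_two hT (core_two D s) hw.1 hb.1 ⟨W * B, hWB, rfl⟩)

/-- Congruent neighbours are on one line. -/
theorem mem_line_of_core [Finite G] (hT : IsThreeTranspositionSet D) {s a b : G} (ha : a ∈ nb D s) (hb : b ∈ nb D s)
    (hm : a * b ∈ core D s) : b ∈ line D s a := by
  have hab : Commute b a := (commute_congr hT ha hb hm ha (Commute.refl a)).symm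
  refine ⟨⟨hb.1, hb.2.2.symm, hab⟩, fun w hw => ?_⟩
  by_cases hws : w = s
  · rw [hws]; exact hb.2.2.symm
  exact (commute_congr hT ha hb hm ⟨hw.1, hws, hw.2.1.symm⟩ hw.2.2).symm

variable (hH : Hyp D)
include hH

theorem nb_conj_mem {s g : G} (hg : Commute g s) {v : G} (hv : v ∈ nb D s) : g * v * g⁻¹ ∈ nb D s := by
  have e : g * s * g⁻¹ = s := by rw [hg.eq, mul_inv_cancel_right]
  refine ⟨hH.cls.conj g v hv.1, fun h => hv.2.1 (mul_left_cancel (mul_right_cancel (h.trans e.symm))), ?_⟩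
  have h1 := (commute_conj_iff g).2 hv.2.2
  rwa [e] at h1

theorem perp2_ncard {x y x' y' : G} (hx : x ∈ D) (hy : y ∈ nb D x) (hx' : x' ∈ D) (hy' : y' ∈ nb D x') :
    (perp2 D x' y').ncard = (perp2 D x y).ncard := by
  obtain ⟨g, rfl, rfl⟩ := hH.edge x hx y hy x' hx' y' hy'
  rw [← Set.ncard_image_of_injective (perp2 D x y) (f := fun v => g * v * g⁻¹)
    (fun a b e => mul_left_cancel (mul_right_cancel e))]
  congr 1
  ext v
  constructor
  · intro hv
    have e : v = g * (g⁻¹ * v * g) * g⁻¹ := by group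
    rw [e] at hv
    exact ⟨g⁻¹ * v * g, ⟨by simpa [mul_assoc] using hH.cls.conj g⁻¹ _ hv.1, (commute_conj_iff g).1 hv.2.1,
      (commute_conj_iff g).1 hv.2.2⟩, e.symm⟩
  · rintro ⟨w, hw, rfl⟩
    exact ⟨hH.cls.conj g w hw.1, (commute_conj_iff g).2 hw.2.1, (commute_conj_iff g).2 hw.2.2⟩

/-- Two members of a line determine it. -/
theorem line_eq [Finite G] {x y a b : G} (hx : x ∈ D) (hy : y ∈ nb D x) (ha : a ∈ line D x y)
    (hb : b ∈ line D x y) (hab : a ≠ b) :
    perp2 D a b = perp2 D x y ∧ line D a b = line D x y := by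
  have hba : b ∈ nb D a := ⟨line_subset hb, fun e => hab e.symm, line_clique ha hb⟩
  have h : perp2 D a b = perp2 D x y :=
    (Set.eq_of_subset_of_ncard_le
      (show perp2 D x y ⊆ perp2 D a b from fun w hw => ⟨hw.1, (ha.2 w hw).symm, (hb.2 w hw).symm⟩)
      (le_of_eq (perp2_ncard hH hx hy (line_subset ha) hba)) (Set.toFinite _)).symm
  exact ⟨h, by simp only [line, h]⟩

theorem line_pair [Finite G] {x y a b : G} (_hx : x ∈ D) (_hy : y ∈ nb D x) (ha : a ∈ line D x y)
    (hb : b ∈ line D x y) (hab : a ≠ b) : b ∈ nb D a :=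
  ⟨line_subset hb, hab.symm, line_clique ha hb⟩

/-- Members of a line other than `s` are congruent at `s`. -/
theorem core_of_mem_line [Finite G] {s a b : G} (hs : s ∈ D) (ha : a ∈ nb D s) (hb : b ∈ line D s a)
    (hbs : b ≠ s) : a * b ∈ core D s := by
  have hT := hH.cls.ts
  set H := Subgroup.closure (nb D s)
  have hbn : b ∈ nb D s := line_pair hH hs ha (left_mem_line hs ha) hb hbs.symm
  have hTH : IsThreeTranspositionSet (inClosure (nb D s)) := by
    refine ⟨fun d hd => by rw [← Subgroup.orderOf_coe]; exact hT.1 _ hd.1, fun d hd e he => ?_⟩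
    rcases hT.2 _ hd.1 _ he.1 with h1 | h1
    · exact Or.inl (Subtype.ext (by simpa using h1))
    · exact Or.inr (Subtype.ext (by simpa using h1))
  have hconj : ∀ g : ↥H, ∀ d ∈ inClosure (nb D s), g * d * g⁻¹ ∈ inClosure (nb D s) := fun g d hd =>
    nb_conj_mem hH (commute_closure_nb g.2) hd
  have hline := (line_eq hH hs ha (left_mem_line hs ha) hb hbs.symm).1
  have hsame : SameC (inClosure (nb D s)) (⟨a, Subgroup.subset_closure ha⟩ : ↥H)
      (⟨b, Subgroup.subset_closure hbn⟩ : ↥H) := by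
    refine ⟨hbn, fun e he => ⟨fun h => ?_, fun h => ?_⟩⟩
    · have h1 : (e : G) ∈ perp2 D s b := ⟨he.1, he.2.2.symm, (congrArg Subtype.val h.eq).symm⟩
      rw [hline] at h1
      exact Subtype.ext h1.2.2.eq.symm
    · have h1 : (e : G) ∈ perp2 D s a := ⟨he.1, he.2.2.symm, (congrArg Subtype.val h.eq).symm⟩
      rw [← hline] at h1
      exact Subtype.ext h1.2.2.eq.symm
  exact ⟨_, sameC_mul_mem_pCore hTH hconj (d := (⟨a, Subgroup.subset_closure ha⟩ : ↥H)) ha hsame, rfl⟩

/-- A product of two congruent neighbours moves a neighbour along its line. -/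
theorem core_moves [Finite G] {s v g : G} (hv : v ∈ nb D s) (hg : g ∈ core D s) :
    g * v * g⁻¹ ∈ line D s v := by
  have hT := hH.cls.ts
  have hgH := core_le D s hg
  refine mem_line_of_core hT hv (nb_conj_mem hH (commute_closure_nb hgH) hv) ?_
  have e : v * (g * v * g⁻¹) = (v * g * v⁻¹) * g⁻¹ := by rw [ts_inv hT hv.1]; group
  rw [e]
  exact mul_mem (core_conj (Subgroup.subset_closure hv) hg) (inv_mem hg)

theorem pair [Finite G] {x y : G} (hx : x ∈ D) (hy : y ∈ nb D x) : ∃ u ∈ nb D x, ¬ Commute y u := by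
  by_contra hcon
  push Not at hcon
  have hall : ∀ a ∈ nb D x, ∀ b ∈ nb D x, Commute a b := by
    intro a ha b hb
    obtain ⟨g, hgx, rfl⟩ := hH.edge x hx y hy x hx a ha
    have hbe : b = g * (g⁻¹ * b * g) * g⁻¹ := by group
    have hb' : g⁻¹ * b * g ∈ nb D x := by
      have := nb_conj_mem hH (s := x) (g := g⁻¹) (Commute.inv_left (by
        show g * x = x * g
        conv_rhs => rw [← hgx]
        group)) hb
      simpa [mul_assoc] using this
    rw [hbe]
    exact (commute_conj_iff g).2 (hcon _ hb')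
  obtain ⟨z, hz, hzy, -⟩ := hH.big x hx y hy
  obtain ⟨k, hk, hk'⟩ := hH.cls.orb_nb hH.prim hx hy hz
  have hle : Subgroup.closure (nb D x) ≤ Subgroup.centralizer ({y} : Set G) :=
    (Subgroup.closure_le _).2 fun b hb => Subgroup.mem_centralizer_singleton_iff.2 (hall b hb y hy).eq
  rw [Subgroup.mem_centralizer_singleton_iff.1 (hle hk), mul_inv_cancel_right] at hk'
  exact hzy hk'.symm

omit hH in
/-- Fischer's hypotheses with noncentral 2-core give the setting. -/
theorem hyp_of_core [Finite G] (hsol : ∀ N : Subgroup G, N.Normal → Group.IsSolvable ↥N → N = ⊥)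
    (hperf : ⁅commutator G, commutator G⁆ = commutator G) (hD : IsThreeTranspositionClass D) {x₀ : G}
    (hx₀ : x₀ ∈ D)
    (h : ¬ pCore 2 ↥(Subgroup.closure (nb D x₀)) ≤ Subgroup.center ↥(Subgroup.closure (nb D x₀))) :
    Hyp D := by
  classical
  have hT := hD.1
  have hconj := class_conj_mem hD
  obtain ⟨y₁, hy₁⟩ : (nb D x₀).Nonempty := by
    by_contra hemp
    rw [Set.not_nonempty_iff_eq_empty] at hemp
    refine h fun g _ => Subgroup.mem_center_iff.2 fun k => ?_
    have hb : ∀ g : ↥(Subgroup.closure (nb D x₀)), g = 1 := fun g => by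
      have h1 := g.2
      simp only [hemp, Subgroup.closure_empty, Subgroup.mem_bot] at h1
      exact Subtype.ext h1
    rw [hb g, hb k]
  have hC := tclass_of_class hD ⟨x₀, hx₀, y₁, hy₁.1, hy₁.2.1.symm⟩
  have hp := hC.primitive_of_fischer hsol hperf
  have hw : ∃ a ∈ D, ∃ b ∈ D, a ≠ b ∧ Commute a b := ⟨x₀, hx₀, y₁, hy₁.1, hy₁.2.1.symm, hy₁.2.2⟩
  have hedge : ∀ x ∈ D, ∀ y ∈ nb D x, ∀ x' ∈ D, ∀ y' ∈ nb D x', SamePair x y x' y' := by
    intro x hx y hy x' hx' y' hy'
    obtain ⟨g, rfl⟩ := hC.trans x hx x' hx'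
    have h1 : g * y * g⁻¹ ∈ nb D (g * x * g⁻¹) := by rw [LocalThree.nb_conj_eq hconj]; exact ⟨y, hy, rfl⟩
    obtain ⟨k, hk, hk'⟩ := hC.orb_nb hp hx' h1 hy'
    exact (show SamePair x y (g * x * g⁻¹) (g * y * g⁻¹) from ⟨g, rfl, rfl⟩).trans
      ⟨k, by rw [(commute_closure_nb hk).eq, mul_inv_cancel_right], hk'⟩
  set H := Subgroup.closure (nb D x₀) with hHdef
  have htwo : ∃ u ∈ nb D x₀, u ≠ y₁ := by
    by_contra hone
    push Not at hone
    refine h fun g _ => Subgroup.mem_center_iff.2 fun k => ?_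
    have hle : H ≤ Subgroup.zpowers y₁ :=
      (Subgroup.closure_le _).2 fun z hz => hone z hz ▸ Subgroup.mem_zpowers y₁
    obtain ⟨i, hi⟩ := Subgroup.mem_zpowers_iff.1 (hle g.2)
    obtain ⟨j, hj⟩ := Subgroup.mem_zpowers_iff.1 (hle k.2)
    refine Subtype.ext ?_
    show (k : G) * g = g * k
    rw [← hi, ← hj]
    exact (Commute.zpow_zpow_self y₁ j i).eq
  have hCH : TClass (inClosure (nb D x₀)) := by
    refine ⟨⟨fun d hd => by rw [← Subgroup.orderOf_coe]; exact hT.1 _ hd.1, fun d hd e he => ?_⟩,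
      fun g d hd => ?_, Subgroup.closure_closure_coe_preimage, fun a ha b hb => ?_, ?_⟩
    · rcases hT.2 _ hd.1 _ he.1 with h1 | h1
      · exact Or.inl (Subtype.ext (by simpa using h1))
      · exact Or.inr (Subtype.ext (by simpa using h1))
    · have hg : Commute (g : G) x₀ := commute_closure_nb g.2
      refine ⟨hconj g _ hd.1, fun e => hd.2.1 ?_, ?_⟩
      · exact mul_left_cancel (mul_right_cancel
          (e.trans (show x₀ = (g : G) * x₀ * (g : G)⁻¹ by rw [hg.eq, mul_inv_cancel_right])))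
      · exact (hg.symm.mul_right hd.2.2).mul_right hg.symm.inv_right
    · obtain ⟨k, hk, hk'⟩ := hC.orb_nb hp hx₀ ha hb
      exact ⟨⟨k, hk⟩, Subtype.ext hk'⟩
    · obtain ⟨u, hu, hn⟩ := htwo
      exact ⟨⟨y₁, Subgroup.subset_closure hy₁⟩, hy₁, ⟨u, Subgroup.subset_closure hu⟩, hu,
        fun e => hn (by rw [Subtype.mk.injEq] at e; exact e.symm)⟩
  obtain ⟨e, he, hne, -, hm⟩ := hCH.exists_two h (d := ⟨y₁, Subgroup.subset_closure hy₁⟩) hy₁
  refine ⟨hC, hp, hsol _ inferInstance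
      (Group.isSolvable_of_comm fun a b => Subtype.ext (Subgroup.mem_center_iff.1 b.2 a)),
    hedge, fun x hx y hy hn x' hx' y' hy' hn' => ?_, fun x hx => ?_, fun x hx y hy => ?_,
    fun x hx y hy hn => hC.both_nonempty hp hw hx hy hn⟩
  · obtain ⟨g, rfl⟩ := hC.trans x hx x' hx'
    exact (show SamePair x y (g * x * g⁻¹) (g * y * g⁻¹) from ⟨g, rfl, rfl⟩).trans
      (hC.rank_three hp hw hx' (hconj g y hy) hy' (fun h1 => hn ((commute_conj_iff g).1 h1)) hn')
  · obtain ⟨g, rfl⟩ := hC.trans x₀ hx₀ x hx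
    rw [LocalThree.nb_conj_eq hconj]
    exact ⟨_, y₁, hy₁, rfl⟩
  · obtain ⟨g, rfl, rfl⟩ := hedge x₀ hx₀ y₁ hy₁ x hx y hy
    refine ⟨g * e * g⁻¹, ?_, fun h1 => hne (Subtype.ext (mul_left_cancel (mul_right_cancel h1))), ?_⟩
    · rw [LocalThree.nb_conj_eq hconj]; exact ⟨e, he, rfl⟩
    · let f : ↥H →* ↥(Subgroup.closure (nb D (g * x₀ * g⁻¹))) :=
        ((MulAut.conj g).toMonoidHom.comp H.subtype).codRestrict _ fun k => by
          have hk : H.map (MulAut.conj g).toMonoidHom = Subgroup.closure (nb D (g * x₀ * g⁻¹)) := by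
            rw [hHdef, MonoidHom.map_closure, LocalThree.nb_conj_eq hconj]; rfl
          exact hk.le ⟨k, k.2, rfl⟩
      have hf : Function.Surjective f := by
        rintro ⟨z, hz⟩
        have hk : H.map (MulAut.conj g).toMonoidHom = Subgroup.closure (nb D (g * x₀ * g⁻¹)) := by
          rw [hHdef, MonoidHom.map_closure, LocalThree.nb_conj_eq hconj]; rfl
        obtain ⟨k, hk1, hk2⟩ := hk.ge hz
        exact ⟨⟨k, hk1⟩, Subtype.ext hk2⟩
      refine ⟨f (⟨y₁, Subgroup.subset_closure hy₁⟩ * e), ?_, ?_⟩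
      · haveI : Fact (Nat.Prime 2) := ⟨Nat.prime_two⟩
        haveI : ((pCore 2 ↥H).map f).Normal := (inferInstance : (pCore 2 ↥H).Normal).map f hf
        exact (Base.le_pCore ((Base.isPGroup_pCore 2 ↥H).map f)) ⟨_, hm, rfl⟩
      · show g * (y₁ * (e : G)) * g⁻¹ = g * y₁ * g⁻¹ * (g * (e : G) * g⁻¹)
        group

end CfsgLib.ThreeTransp.Polar
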