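import Cfsg.Agent.Lib.ThreeTransp.Polar.Trans

/-!
Lines of five members: the product of the members is trivial.
-/

set_option autoImplicit false
set_option linter.unusedSectionVars false
set_option linter.style.haveILetI false

namespace CfsgLib.ThreeTransp.Polar

open Cfsg CfsgLib.Involutions CfsgLib.ThreeTransp
open CfsgLib.ThreeTransp.SolvLocal (perp2 line left_mem_line right_mem_line line_clique line_subset line_comm
  left_mem_perp2 nb_symm' act act_act act_inj act_fix trs)

universe u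

variable {G : Type u} [Group G] {D : Set G}

variable (hH : Hyp D)
include hH

/-- The product of the members of a line of five. -/
theorem line_product [Finite G] {p q a b c d : G} (hp : p ∈ D) (hq : q ∈ nb D p)
    (h5 : (line D p q).ncard = 5) (hset : line D p q = {p, a, b, c, d}) (hab : a ≠ b) (hac : a ≠ c)
    (had : a ≠ d) (hbc : b ≠ c) (hbd : b ≠ d) (hcd : c ≠ d) (hpa : p ≠ a) (hpb : p ≠ b) (hpc : p ≠ c)
    (hpd : p ≠ d) : p * a * b * c * d = 1 := by
  classical
  have hT := hH.cls.ts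
  set L := line D p q with hL
  have hpL : p ∈ L := by rw [hset]; simp
  have haL : a ∈ L := by rw [hset]; simp
  have hbL : b ∈ L := by rw [hset]; simp
  have hcL : c ∈ L := by rw [hset]; simp
  have hdL : d ∈ L := by rw [hset]; simp
  have cm : ∀ {i j : G}, i ∈ L → j ∈ L → Commute i j := fun hi hj => line_clique hi hj
  have four : ∀ {r e₁ e₂ e₃ e₄ v : G}, L = {r, e₁, e₂, e₃, e₄} → e₁ ≠ e₂ → e₁ ≠ e₃ → e₁ ≠ e₄ → e₂ ≠ e₃ →
      e₂ ≠ e₄ → e₃ ≠ e₄ → r ≠ e₁ → r ≠ e₂ → r ≠ e₃ → r ≠ e₄ → v ∈ D → ¬ (∀ e ∈ L, Commute v e) → Commute v r →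
      Commute (r * (e₁ * (e₂ * (e₃ * e₄)))) v := by
    intro r e₁ e₂ e₃ e₄ v hs h12 h13 h14 h23 h24 h34 hr1 hr2 hr3 hr4 hv hvL hvr
    have hrL : r ∈ L := by rw [hs]; simp
    have m1 : e₁ ∈ L := by rw [hs]; simp
    have m2 : e₂ ∈ L := by rw [hs]; simp
    have m3 : e₃ ∈ L := by rw [hs]; simp
    have m4 : e₄ ∈ L := by rw [hs]; simp
    have hr := line_subset hrL
    have hvn : v ∈ nb D r := ⟨hv, fun e => hvL (fun t ht => by rw [e]; exact cm hrL ht), hvr.symm⟩
    have h1nb : e₁ ∈ nb D r := line_pair hH hp hq hrL m1 hr1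
    have hK : line D r e₁ = L := (line_eq hH hp hq hrL m1 hr1).2
    have hne : ¬ Commute v e₁ := fun h => hvL fun t ht => commute_all hH hp hq hv hrL m1 hr1 hvr h ht
    have hin : ∀ z ∈ L, z ≠ r → z ∈ line D r e₁ \ {r} := fun z hz hzr => ⟨hK.symm ▸ hz, hzr⟩
    have hvb : v ∈ line D r v \ {r} := ⟨right_mem_line hvn, hvn.2.1⟩
    obtain ⟨z, hz, hzz⟩ := tr_exists hH hr hvn h1nb hne hvb
      (act_line hH hr hvn h1nb hne hvb (hin _ m2 hr2.symm) (hin _ m3 hr3.symm)).1
    have hzL : z ∈ L := hK ▸ hz.1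
    have hz5 : z = r ∨ z = e₁ ∨ z = e₂ ∨ z = e₃ ∨ z = e₄ := by rw [hs] at hzL; simpa using hzL
    have hfix : ∀ i j, i ∈ L → j ∈ L → i ≠ r → j ≠ r → i ≠ j → act (i * j) v ≠ v := fun i j hi hj hir hjr hij =>
      (act_line hH hr hvn h1nb hne hvb (hin _ hi hir) (hin _ hj hjr)).2 hij
    have hprod : act (e₁ * z * (e₂ * e₃)) v = v := by
      have hsq : e₁ * z * (e₁ * z) = 1 := by
        rw [(cm m1 hzL).eq, mul_assoc z e₁, ← (cm m1 hzL).eq, ← mul_assoc e₁ e₁,
          ts_mul_self hT (line_subset m1), one_mul, ts_mul_self hT (line_subset hzL)]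
      rw [← act_act, ← hzz, act_act, hsq]; simp [act]
    have hk : z = e₄ := by
      rcases hz5 with e | e | e | e | e
      · exact absurd e hz.2
      · exfalso
        subst e
        rw [ts_mul_self hT (line_subset m1), one_mul] at hprod
        exact hfix _ _ m2 m3 hr2.symm hr3.symm h23 hprod
      · exfalso
        subst e
        rw [show e₁ * z * (z * e₃) = e₁ * e₃ by
          rw [mul_assoc, ← mul_assoc z z, ts_mul_self hT (line_subset m2), one_mul]] at hprod
        exact hfix _ _ m1 m3 hr1.symm hr3.symm h13 hprod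
      · exfalso
        subst e
        rw [show e₁ * z * (e₂ * z) = e₁ * e₂ by
          rw [(cm m2 m3).eq, mul_assoc, ← mul_assoc z z, ts_mul_self hT (line_subset m3), one_mul]] at hprod
        exact hfix _ _ m1 m2 hr1.symm hr2.symm h12 hprod
      · exact e
    subst hk
    refine Commute.mul_left hvr.symm ?_
    have e : e₁ * (e₂ * (e₃ * z)) = e₁ * z * (e₂ * e₃) := by
      rw [← mul_assoc e₂, (((cm m2 m4).mul_left (cm m3 m4))).eq, mul_assoc e₁ z]
    rw [e]
    show e₁ * z * (e₂ * e₃) * v = v * (e₁ * z * (e₂ * e₃))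
    have h := hprod
    unfold act at h
    conv_rhs => rw [← h]
    group
  have hcen : p * (a * (b * (c * d))) ∈ Subgroup.center G := by
    have hPc : ∀ v ∈ D, Commute (p * (a * (b * (c * d)))) v := by
      intro v hv
      by_cases hvL : ∀ e ∈ L, Commute v e
      · exact (hvL p hpL).symm.mul_left ((hvL a haL).symm.mul_left ((hvL b hbL).symm.mul_left ((hvL c hcL).symm.mul_left (hvL d hdL).symm)))
      obtain ⟨r, hr, hvr⟩ := exists_meet hH hp hq hv
      rw [← hL, hset] at hr
      simp only [Set.mem_insert_iff, Set.mem_singleton_iff] at hr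
      have comm2 : ∀ {i j r : G}, Commute i j → i * (j * r) = j * (i * r) := fun h => by
        rw [← mul_assoc, h.eq, mul_assoc]
      rcases hr with e | e | e | e | e <;> subst e
      · exact four hset hab hac had hbc hbd hcd hpa hpb hpc hpd hv hvL hvr
      · have := four (r := r) (e₁ := p) (e₂ := b) (e₃ := c) (e₄ := d) (by rw [hset, Set.insert_comm]) hpb hpc hpd hbc hbd
          hcd hpa.symm hab hac had hv hvL hvr
        rwa [comm2 (cm haL hpL)] at this
      · have := four (r := r) (e₁ := p) (e₂ := a) (e₃ := c) (e₄ := d)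
          (by rw [hset]; ext t; simp only [Set.mem_insert_iff, Set.mem_singleton_iff]; tauto)
          hpa hpc hpd hac had hcd hpb.symm hab.symm hbc hbd hv hvL hvr
        rwa [comm2 (cm hbL hpL), comm2 (cm hbL haL)] at this
      · have := four (r := r) (e₁ := p) (e₂ := a) (e₃ := b) (e₄ := d)
          (by rw [hset]; ext t; simp only [Set.mem_insert_iff, Set.mem_singleton_iff]; tauto)
          hpa hpb hpd hab had hbd hpc.symm hac.symm hbc.symm hcd hv hvL hvr
        rwa [comm2 (cm hcL hpL), comm2 (cm hcL haL), comm2 (cm hcL hbL)] at this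
      · have := four (r := r) (e₁ := p) (e₂ := a) (e₃ := b) (e₄ := c)
          (by rw [hset]; ext t; simp only [Set.mem_insert_iff, Set.mem_singleton_iff]; tauto)
          hpa hpb hpc hab hac hbc hpd.symm had.symm hbd.symm hcd.symm hv hvL hvr
        rwa [comm2 (cm hdL hpL), comm2 (cm hdL haL), comm2 (cm hdL hbL), (cm hdL hcL).eq] at this
    rw [Subgroup.mem_center_iff]
    intro g
    have hle : Subgroup.closure D ≤ Subgroup.centralizer ({p * (a * (b * (c * d)))} : Set G) :=
      (Subgroup.closure_le _).2 fun v hv => Subgroup.mem_centralizer_singleton_iff.2 (hPc v hv).eq.symm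
    exact Subgroup.mem_centralizer_singleton_iff.1 (hle (hH.cls.gen ▸ Subgroup.mem_top g))
  rw [hH.centre, Subgroup.mem_bot] at hcen
  simpa [mul_assoc] using hcen

/-- The five members of a line. -/
theorem five_line [Finite G] {x y : G} (hx : x ∈ D) (hy : y ∈ nb D x) (h5 : (line D x y).ncard = 5) :
    ∃ z : Fin 3 → G, Function.Injective z ∧ (∀ i, z i ∈ line D x y ∧ z i ≠ x ∧ z i ≠ y) ∧
      ∀ w ∈ line D x y, w = x ∨ w = y ∨ ∃ i, w = z i := by
  classical
  have hsub : ({x, y} : Set G) ⊆ line D x y := by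
    rintro w (rfl | rfl)
    exacts [left_mem_line hx hy, right_mem_line hy]
  have h3 : (line D x y \ {x, y}).ncard = 3 := by rw [Set.ncard_sdiff hsub, h5, Set.ncard_pair hy.2.1.symm]
  obtain ⟨a, b, c, hab, hac, hbc, habc⟩ := Set.ncard_eq_three.1 h3
  have hmem : ∀ w, w ∈ ({a, b, c} : Set G) ↔ w ∈ line D x y ∧ w ≠ x ∧ w ≠ y := fun w => by
    rw [← habc, Set.mem_sdiff, Set.mem_insert_iff, Set.mem_singleton_iff, not_or]
  refine ⟨![a, b, c], ?_, fun i => (hmem _).1 (by fin_cases i <;> simp), fun w hw => ?_⟩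
  · intro i j e
    fin_cases i <;> fin_cases j <;> first | rfl | exact absurd e (by simp [hab, hac, hbc, hab.symm, hac.symm, hbc.symm])
  · by_cases h1 : w = x
    · exact Or.inl h1
    by_cases h2 : w = y
    · exact Or.inr (Or.inl h2)
    refine Or.inr (Or.inr ?_)
    rcases (hmem w).2 ⟨hw, h1, h2⟩ with h | h | h
    exacts [⟨0, h⟩, ⟨1, h⟩, ⟨2, h⟩]

end CfsgLib.ThreeTransp.Polar
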