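import Cfsg.Agent.Lib.ThreeTransp.Polar.Core
import Cfsg.Agent.Lib.ThreeTransp.SolvLocal.Meet

/-!
A member off a singular line commutes with exactly one member of it, in any rank.
-/

set_option autoImplicit false
set_option linter.unusedSectionVars false
set_option linter.style.haveILetI false

namespace CfsgLib.ThreeTransp.Polar

open Cfsg CfsgLib.Involutions CfsgLib.ThreeTransp
open CfsgLib.ThreeTransp.SolvLocal (perp2 line left_mem_line right_mem_line line_clique line_subset line_comm
  left_mem_perp2 nb_symm' even_ncard_of_invol)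

universe u

variable {G : Type u} [Group G] {D : Set G}

theorem line_conj (hconj : ∀ g : G, ∀ d ∈ D, g * d * g⁻¹ ∈ D) {g x y z : G} (hz : z ∈ line D x y) :
    g * z * g⁻¹ ∈ line D (g * x * g⁻¹) (g * y * g⁻¹) := by
  refine ⟨⟨hconj g z hz.1.1, (commute_conj_iff g).2 hz.1.2.1, (commute_conj_iff g).2 hz.1.2.2⟩, fun w hw => ?_⟩
  have e : w = g * (g⁻¹ * w * g) * g⁻¹ := by group
  rw [e] at hw ⊢
  refine (commute_conj_iff g).2 (hz.2 _ ⟨?_, (commute_conj_iff g).1 hw.2.1, (commute_conj_iff g).1 hw.2.2⟩)
  simpa [mul_assoc] using hconj g⁻¹ _ hw.1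

variable (hH : Hyp D)
include hH

theorem line_ncard [Finite G] {x y x' y' : G} (hx : x ∈ D) (hy : y ∈ nb D x) (hx' : x' ∈ D)
    (hy' : y' ∈ nb D x') : (line D x' y').ncard = (line D x y).ncard := by
  obtain ⟨g, rfl, rfl⟩ := hH.edge x hx y hy x' hx' y' hy'
  rw [← Set.ncard_image_of_injective (line D x y) (f := fun v => g * v * g⁻¹)
    (fun a b e => mul_left_cancel (mul_right_cancel e))]
  congr 1
  ext v
  refine ⟨fun hv => ⟨g⁻¹ * v * g, ?_, by group⟩, ?_⟩
  · have := line_conj hH.cls.conj (g := g⁻¹) hv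
    simpa [mul_assoc] using this
  · rintro ⟨w, hw, rfl⟩
    exact line_conj hH.cls.conj hw

theorem third [Finite G] {x y : G} (hx : x ∈ D) (hy : y ∈ nb D x) :
    ∃ z ∈ line D x y, z ≠ x ∧ z ≠ y := by
  obtain ⟨z, hz, hzy, hm⟩ := hH.big x hx y hy
  exact ⟨z, mem_line_of_core hH.cls.ts hy hz hm, hz.2.1, hzy⟩

theorem line_three [Finite G] {x y : G} (hx : x ∈ D) (hy : y ∈ nb D x) : 3 ≤ (line D x y).ncard := by
  obtain ⟨z, hz, h1, h2⟩ := third hH hx hy
  have h : ({x, y, z} : Set G) ⊆ line D x y := by
    rintro v (rfl | rfl | rfl)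
    exacts [left_mem_line hx hy, right_mem_line hy, hz]
  have h3 : ({x, y, z} : Set G).ncard = 3 := by
    rw [Set.ncard_eq_three]
    exact ⟨x, y, z, hy.2.1.symm, h1.symm, h2.symm, rfl⟩
  exact h3 ▸ Set.ncard_le_ncard h (Set.toFinite _)

/-- Two members of one line at `p`, other than `p`, commute with the same neighbours. -/
theorem commute_line [Finite G] {p q w v : G} (hp : p ∈ D) (hq : q ∈ nb D p) (hw : w ∈ line D p q)
    (hwp : w ≠ p) (hv : v ∈ nb D p) : Commute v w ↔ Commute v q := by
  have hT := hH.cls.ts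
  have hm := core_of_mem_line hH hp hq hw hwp
  have hwn : w ∈ nb D p := line_pair hH hp hq (left_mem_line hp hq) hw hwp.symm
  have hm' : w * q ∈ core D p := by
    have h := inv_mem hm
    rwa [mul_inv_rev, ts_inv hT hwn.1, ts_inv hT hq.1] at h
  exact ⟨commute_congr hT hwn hq hm' hv, commute_congr hT hq hwn hm hv⟩

/-- Products of two members of a line at `p` lie in the core. -/
theorem pair_mem_core [Finite G] {p u y z : G} (hp : p ∈ D) (hu : u ∈ nb D p) (hy : y ∈ line D p u) (hyp : y ≠ p)
    (hz : z ∈ line D p u) (hzp : z ≠ p) : y * z ∈ core D p := by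
  have h := mul_mem (inv_mem (core_of_mem_line hH hp hu hy hyp)) (core_of_mem_line hH hp hu hz hzp)
  rw [mul_inv_rev, ts_inv hH.cls.ts (line_subset hy), ts_inv hH.cls.ts hu.1] at h
  rwa [mul_assoc, ← mul_assoc u u, ts_mul_self hH.cls.ts hu.1, one_mul] at h

/-- Moving by a commuting pair: the image commutes with the member and differs from it. -/
theorem pair_move {u z v : G} (hu : u ∈ D) (hz : z ∈ D) (hv : v ∈ D) (huz : Commute u z) (hne : u ≠ z)
    (hvu : ¬ Commute v u) (hvz : ¬ Commute v z) :
    u * z * v * (u * z)⁻¹ ∈ D ∧ Commute v (u * z * v * (u * z)⁻¹) ∧ u * z * v * (u * z)⁻¹ ≠ v := by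
  have hT := hH.cls.ts
  have e : u * z * v * (u * z)⁻¹ = u * (z * v * z) * u := by
    rw [mul_inv_rev, ts_inv hT hu, ts_inv hT hz]; group
  refine ⟨hH.cls.conj _ _ hv, ?_, fun h => ?_⟩
  · have h1 := LocalThree.conj_commute hT hu hz hv huz (fun h => hvu h.symm) fun h => hvz h.symm
    have h2 := (LocalThree.cnj_iff hT hu).2 h1
    rwa [LocalThree.cnj_twice hT hu, ← e] at h2
  · rw [e] at h
    have h1 : z * v * z = u * v * u := by
      rw [← LocalThree.cnj_twice hT hu (p := z * v * z), h]
    rw [ts_braid hT hz hv fun h => hvz h.symm, ts_braid hT hu hv fun h => hvu h.symm] at h1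
    exact hne (mul_left_cancel (mul_right_cancel h1)).symm

/-- The members of a line other than one of its members are evenly many. -/
theorem line_odd [Finite G] {x y : G} (hx : x ∈ D) (hy : y ∈ nb D x) : Even ((line D x y).ncard - 1) := by
  have hT := hH.cls.ts
  obtain ⟨u, hu, hyu⟩ := pair hH hx hy
  obtain ⟨z, hz, hzx, hzu⟩ := third hH hx hu
  have huz : Commute u z := line_clique (right_mem_line hu) hz
  have hzn : z ∈ nb D x := line_pair hH hx hu (left_mem_line hx hu) hz hzx.symm
  rw [← Set.ncard_sdiff_singleton_of_mem (left_mem_line hx hy)]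
  have hq : u * z * (u * z) = 1 := by
    rw [huz.eq, mul_assoc z u, ← huz.eq, ← mul_assoc u u, ts_mul_self hT hu.1, one_mul,
      ts_mul_self hT (line_subset hz)]
  have hprop : ∀ v ∈ line D x y \ {x}, u * z * v * (u * z)⁻¹ ∈ line D x y \ {x} ∧ u * z * v * (u * z)⁻¹ ≠ v := by
    rintro v ⟨hv, hvx : v ≠ x⟩
    have hvn : v ∈ nb D x := line_pair hH hx hy (left_mem_line hx hy) hv hvx.symm
    have hvu : ¬ Commute v u := fun h => hyu (((commute_line hH hx hy hv hvx hu).1 h.symm).symm)
    have hvz : ¬ Commute v z := fun h => hvu ((commute_line hH hx hu hz hzx hvn).1 h)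
    obtain ⟨-, -, h3⟩ := pair_move hH hu.1 (line_subset hz) (line_subset hv) huz hzu.symm hvu hvz
    have h4 := core_moves hH hvn (pair_mem_core hH hx hu (right_mem_line hu) hu.2.1 hz hzx)
    rw [(line_eq hH hx hy (left_mem_line hx hy) hv hvx.symm).2] at h4
    exact ⟨⟨h4, (nb_conj_mem hH (hu.2.2.symm.mul_left hzn.2.2.symm) hvn).2.1⟩, h3⟩
  refine even_ncard_of_invol (fun v => u * z * v * (u * z)⁻¹) (fun v hv => (hprop v hv).1) (fun v _ => ?_)
    fun v hv => (hprop v hv).2
  show u * z * (u * z * v * (u * z)⁻¹) * (u * z)⁻¹ = v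
  rw [show u * z * (u * z * v * (u * z)⁻¹) * (u * z)⁻¹ = u * z * (u * z) * v * (u * z * (u * z))⁻¹ by group,
    hq, one_mul, inv_one, mul_one]

/-- Every member off a line commutes with some member of it. -/
theorem exists_meet [Finite G] {a b : G} (ha : a ∈ D) (hb : b ∈ nb D a) {v : G} (hv : v ∈ D) :
    ∃ c ∈ line D a b, Commute v c := by
  classical
  by_contra hanti
  push Not at hanti
  have hT := hH.cls.ts
  set L := line D a b with hL
  have haL : a ∈ L := left_mem_line ha hb
  have hbL : b ∈ L := right_mem_line hb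
  have hcom : ∀ c ∈ L, ∀ d ∈ L, Commute c d := fun c hc d hd => line_clique hc hd
  let f : G → G → G := fun c d => c * d * v * (c * d)⁻¹
  have hfs : ∀ c ∈ L, ∀ d ∈ L, f c d = f d c := fun c hc d hd => by
    show c * d * v * (c * d)⁻¹ = d * c * v * (d * c)⁻¹
    rw [(hcom c hc d hd).eq]
  have hmv : ∀ c ∈ L, ∀ d ∈ L, c ≠ d → f c d ∈ nb D v := fun c hc d hd hcd => by
    obtain ⟨h1, h2, h3⟩ := pair_move hH (line_subset hc) (line_subset hd) hv (hcom c hc d hd) hcd
      (hanti c hc) (hanti d hd)
    exact ⟨h1, h3, h2⟩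
  have hff : ∀ c ∈ L, ∀ d ∈ L, ∀ e ∈ L, d ≠ e →
      Commute (f c d) (f c e) ∧ f c d ≠ f c e := by
    intro c hc d hd e he hde
    have h1 := LocalThree.conj_commute hT (line_subset hd) (line_subset he) hv (hcom d hd e he)
      (fun h => hanti d hd h.symm) fun h => hanti e he h.symm
    have key : ∀ w ∈ L, f c w = c * (w * v * w) * c⁻¹ := fun w hw => by
      show c * w * v * (c * w)⁻¹ = _
      rw [mul_inv_rev, ts_inv hT (line_subset hw)]; group
    rw [key d hd, key e he]
    refine ⟨(commute_conj_iff c).2 h1, fun h => hde ?_⟩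
    have h2 : d * v * d = e * v * e := mul_left_cancel (mul_right_cancel h)
    rw [ts_braid hT (line_subset hd) hv fun h => hanti d hd h.symm,
      ts_braid hT (line_subset he) hv fun h => hanti e he h.symm] at h2
    exact mul_left_cancel (mul_right_cancel h2)
  set m₀ := f a b
  have hm₀ : m₀ ∈ nb D v := hmv a haL b hbL hb.2.1.symm
  set A := line D v m₀ with hA
  have key : ∀ c ∈ L, ∀ d ∈ L, f c d = c * v * d * (c * v)⁻¹ := fun c hc d hd => by
    show c * d * v * (c * d)⁻¹ = _
    calc c * d * v * (c * d)⁻¹ = c * (d * v * d) * c⁻¹ := by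
          rw [mul_inv_rev, ts_inv hT (line_subset hd)]; group
      _ = c * (v * d * v) * c⁻¹ := by rw [ts_braid hT (line_subset hd) hv fun h => hanti d hd h.symm]
      _ = c * v * d * (c * v)⁻¹ := by rw [mul_inv_rev, ts_inv hT hv]; group
  have hfix : ∀ c ∈ L, c * v * c * (c * v)⁻¹ = v := fun c hc => by
    calc c * v * c * (c * v)⁻¹ = c * (v * c * v) * c⁻¹ := by rw [mul_inv_rev, ts_inv hT hv]; group
      _ = c * (c * v * c) * c⁻¹ := by rw [ts_braid hT hv (line_subset hc) (hanti c hc)]
      _ = v := by rw [← mul_assoc, ← mul_assoc, ts_mul_self hT (line_subset hc)]; group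
  have himg : ∀ c d, c ∈ L → d ∈ L → ∀ e ∈ L, line D c d = L → f c d = m₀ → f c e ∈ A := by
    intro c d hc hd e he hcd hm
    have h1 := line_conj hH.cls.conj (g := c * v) (hcd.symm ▸ he : e ∈ line D c d)
    rwa [hfix c hc, ← key c hc e he, ← key c hc d hd, hm] at h1
  have hA1 : ∀ c ∈ L, c ≠ a → f a c ∈ A := fun c hc _ => himg a b haL hbL c hc rfl rfl
  have hA2 : ∀ c ∈ L, f b c ∈ A := fun c hc =>
    himg b a hbL haL c hc (line_comm b a) (hfs b hbL a haL)
  let ι : G → G := fun c => if c = a then v else f a c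
  have hιA : ι '' L = A := by
    refine Set.eq_of_subset_of_ncard_le ?_ ?_ (Set.toFinite _)
    · rintro _ ⟨c, hc, rfl⟩
      by_cases hca : c = a
      · simp only [ι, if_pos hca]; exact left_mem_line hv hm₀
      · simp only [ι, if_neg hca]; exact hA1 c hc hca
    · refine le_of_eq ?_
      rw [Set.InjOn.ncard_image]
      · exact line_ncard hH ha hb hv hm₀
      · intro c hc d hd h
        by_cases hca : c = a <;> by_cases hda : d = a <;> simp only [ι, hca, hda, if_true, if_false] at h
        · exact hca.trans hda.symm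
        · exact absurd h.symm (hmv a haL d hd fun e => hda e.symm).2.1
        · exact absurd h (hmv a haL c hc fun e => hca e.symm).2.1
        · by_contra hcd
          exact (hff a haL c hc d hd hcd).2 h
  have hex : ∀ c ∈ L \ ({a, b} : Set G), ∃ e ∈ L \ ({a, b} : Set G), e ≠ c ∧ f b c = f a e := by
    rintro c ⟨hc, hc'⟩
    simp only [Set.mem_insert_iff, Set.mem_singleton_iff, not_or] at hc'
    have h1 := hA2 c hc
    rw [← hιA] at h1
    obtain ⟨e, he, hee⟩ := h1
    by_cases hea : e = a
    · simp only [ι, hea, if_true] at hee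
      exact absurd hee.symm (hmv b hbL c hc fun e => hc'.2 e.symm).2.1
    · simp only [ι, if_neg hea] at hee
      refine ⟨e, ⟨he, ?_⟩, fun hec => ?_, hee.symm⟩
      · simp only [Set.mem_insert_iff, Set.mem_singleton_iff, not_or]
        refine ⟨hea, fun heb => ?_⟩
        subst heb
        rw [hfs a haL e he] at hee
        exact (hff e he a haL c hc (fun h => hc'.1 h.symm)).2 hee
      · subst hec
        rw [hfs a haL e he, hfs b hbL e he] at hee
        exact (hff e he a haL b hbL hb.2.1.symm).2 hee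
  choose g hg1 hg2 hg3 using hex
  let g' : G → G := fun c => if h : c ∈ L \ ({a, b} : Set G) then g c h else c
  have hg' : ∀ c (h : c ∈ L \ ({a, b} : Set G)), g' c = g c h := fun c h => dif_pos h
  have heven : Even (L \ ({a, b} : Set G)).ncard := by
    refine even_ncard_of_invol g' (fun c h => (hg' c h).symm ▸ hg1 c h) (fun c h => ?_)
      fun c h => (hg' c h).symm ▸ hg2 c h
    rw [hg' c h, hg' _ (hg1 c h)]
    set e := g c h
    set e' := g e (hg1 c h)
    by_contra hne
    have h3 := hg3 c h
    have h4 := hg3 e (hg1 c h)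
    have hc : c ∈ L := h.1
    have he : e ∈ L := (hg1 c h).1
    -- apply the pair `c`, `e`
    have h5 : f b e = f a c := by
      have hb' := hcom b hbL
      have e1 : c * e * (b * c) = b * e := by
        rw [(hcom c hc e he).eq, (hb' c hc).eq, mul_assoc e c, ← mul_assoc c c, ts_mul_self hT (line_subset hc),
          one_mul, (hcom e he b hbL).eq]
      have e2 : c * e * (a * e) = a * c := by
        rw [(hcom a haL e he).eq, mul_assoc c e, ← mul_assoc e e, ts_mul_self hT (line_subset he),
          one_mul, (hcom c hc a haL).eq]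
      calc f b e = c * e * (b * c * v * (b * c)⁻¹) * (c * e)⁻¹ := by
            show b * e * v * (b * e)⁻¹ = _
            rw [← e1]; group
        _ = c * e * (a * e * v * (a * e)⁻¹) * (c * e)⁻¹ := by
            rw [show b * c * v * (b * c)⁻¹ = a * e * v * (a * e)⁻¹ from h3]
        _ = f a c := by
            show _ = a * c * v * (a * c)⁻¹
            rw [← e2]; group
    rw [h4] at h5
    exact (hff a haL e' (hg1 e _).1 c hc hne).2 h5
  have h2 : ({a, b} : Set G) ⊆ L := by rintro w (rfl | rfl); exacts [haL, hbL]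
  rw [Set.ncard_sdiff h2, Set.ncard_pair hb.2.1.symm] at heven
  have h3 := line_odd hH ha hb
  have h4 := line_three hH ha hb
  rw [← hL] at h3 h4
  rw [Nat.even_iff] at heven h3
  omega

/-- A member commuting with two members of a line commutes with all of it. -/
theorem commute_all [Finite G] {a b : G} (ha : a ∈ D) (hb : b ∈ nb D a) {v c d e : G} (hv : v ∈ D)
    (hc : c ∈ line D a b) (hd : d ∈ line D a b) (hcd : c ≠ d) (hvc : Commute v c) (hvd : Commute v d)
    (he : e ∈ line D a b) : Commute v e := by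
  have h : v ∈ perp2 D c d := ⟨hv, hvc, hvd⟩
  rw [(line_eq hH ha hb hc hd hcd).1] at h
  exact (he.2 v h).symm

/-- The member of a line commuting with one not commuting with all of it is unique. -/
theorem meet_unique [Finite G] {a b : G} (ha : a ∈ D) (hb : b ∈ nb D a) {v c d e : G} (hv : v ∈ D)
    (he : e ∈ line D a b) (hve : ¬ Commute v e) (hc : c ∈ line D a b) (hd : d ∈ line D a b) (hvc : Commute v c)
    (hvd : Commute v d) : c = d := by
  by_contra h
  exact hve (commute_all hH ha hb hv hc hd h hvc hvd he)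

end CfsgLib.ThreeTransp.Polar
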