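import Cfsg.Agent.Lib.ThreeTransp.Polar.Translations
import Cfsg.Agent.Lib.ThreeTransp.SolvLocal.Bound

/-!
Lines of five members: the translations of all lines at a member can be oriented compatibly.
-/

set_option autoImplicit false
set_option linter.unusedSectionVars false
set_option linter.style.haveILetI false

namespace CfsgLib.ThreeTransp.Polar

open Cfsg CfsgLib.Involutions CfsgLib.ThreeTransp
open CfsgLib.ThreeTransp.SolvLocal (perp2 line left_mem_line right_mem_line line_clique line_subset line_comm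
  left_mem_perp2 nb_symm' act act_act act_inj act_fix known9 pairWs lineW triW matchW ncPairs pairW_prod)

universe u

variable {G : Type u} [Group G] {D : Set G}

/-- A non-commuting conjugate: a third member keeping non-commuting with both of two commuting pairs. -/
theorem conj_nc (hT : IsThreeTranspositionSet D) {a b c : G} (ha : a ∈ D) (hb : b ∈ D) (hc : c ∈ D)
    (hac : Commute a c) (hab : ¬ Commute a b) : ¬ Commute a (b * c * b) ↔ ¬ Commute b c := by
  constructor
  · intro h hbc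
    apply h
    rw [LocalThree.cnj_self hT hb hbc]
    exact hac
  · intro hbc h
    have h1 := (LocalThree.cnj_iff hT hb).2 h
    rw [LocalThree.cnj_twice hT hb, ← ts_braid hT ha hb hab] at h1
    have h2 := (LocalThree.cnj_iff hT ha).2 h1
    rw [LocalThree.cnj_twice hT ha, LocalThree.cnj_self hT ha hac] at h2
    exact hbc h2

variable {x v₀ : G} (hB : Base D x v₀)
include hB

theorem Base.conj_R {s r : G} (hs : s ∈ both D x v₀) (hr : r ∈ both D x v₀) : r * s * r ∈ both D x v₀ :=
  ⟨by simpa [ts_inv hB.hyp.cls.ts hr.1] using hB.hyp.cls.conj r s hs.1,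
    (hr.2.1.mul_right hs.2.1).mul_right hr.2.1, (hr.2.2.mul_right hs.2.2).mul_right hr.2.2⟩

theorem Base.comm_all [Finite G] {p c a : G} (hp : p ∈ PP D x v₀) (hc : c ∈ PP D x v₀) (ha : a ∈ PP D x v₀)
    (hpc : ¬ Commute p c) (hpa : ¬ Commute p a) : Commute p (c * a) := by
  have hT := hB.hyp.cls.ts
  have key : ∀ {q : G}, q ∈ PP D x v₀ → ¬ Commute p q → p * q * p⁻¹ = x * q := fun {q} hq h =>
    (hB.PP_conj hp hq).resolve_left fun e => h (by
      show p * q = q * p
      conv_rhs => rw [← e]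
      group)
  have e : p * (c * a) * p⁻¹ = c * a := by
    calc p * (c * a) * p⁻¹ = (p * c * p⁻¹) * (p * a * p⁻¹) := by group
      _ = x * (c * x) * a := by rw [key hc hpc, key ha hpa]; group
      _ = c * a := by rw [(hB.PP_x hc).eq, ← mul_assoc x x, ts_mul_self hT hB.hx, one_mul]
  show p * (c * a) = c * a * p
  conv_rhs => rw [← e]
  group

theorem Base.TS_move [Finite G] {s r a : G} (hs : s ∈ both D x v₀) (hr : r ∈ both D x v₀) (hsr : ¬ Commute s r)
    (ha : a ∈ TS D x s) : act a r ∈ rest D x r := by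
  obtain ⟨y, hy, z, hz, hyz, rfl⟩ := ha
  obtain ⟨hsn, -, -⟩ := hB.sNb hs
  obtain ⟨hrn, -, -⟩ := hB.sNb hr
  obtain ⟨hyn, hyl, -, hyx, -⟩ := hB.restFacts hs hy
  obtain ⟨hzn, hzl, -, hzx, -⟩ := hB.restFacts hs hz
  have n1 : ¬ Commute r y := fun h => hsr ((commute_line hB.hyp hB.hx hsn hyl hyx hrn).1 h).symm
  have n2 : ¬ Commute r z := fun h => hsr ((commute_line hB.hyp hB.hx hsn hzl hzx hrn).1 h).symm
  refine ⟨core_moves hB.hyp hrn (pair_mem_core hB.hyp hB.hx hsn hyl hyx hzl hzx), ?_⟩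
  rintro (e | e)
  · exact hrn.2.1 (act_inj (e.trans (act_fix (hB.TS_facts hs ⟨y, hy, z, hz, hyz, rfl⟩).1).symm))
  · exact (pair_move hB.hyp (line_subset hyl) (line_subset hzl) hr.1 (line_clique hyl hzl) hyz n1 n2).2.2 e

/-- The translation of the second line attached to one of the first: it commutes with it. -/
theorem Base.TS_pair [Finite G] {s r a : G} (hs : s ∈ both D x v₀) (hr : r ∈ both D x v₀) (hsr : ¬ Commute s r)
    (ha : a ∈ TS D x s) :
    ∃ c ∈ TS D x r, Commute a c ∧ r * a * r = x * (c * a) ∧ (∀ d ∈ TS D x r, Commute a d → d = c) ∧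
      act a r * r = r * act a r ∧ r * act a r = x * c := by
  have hT := hB.hyp.cls.ts
  obtain ⟨hax, has, haa, -⟩ := hB.TS_facts hs ha
  have hy := hB.TS_move hs hr hsr ha
  set y := act a r with hydef
  obtain ⟨hyn, hyl, hyr, hyx, -⟩ := hB.restFacts hr hy
  obtain ⟨hrn, -, -⟩ := hB.sNb hr
  obtain ⟨z₀, hz₀, hz₀y⟩ : ∃ z ∈ rest D x r, z ≠ y := by
    obtain ⟨g, a1, h1, z, hz, hne, -⟩ := hB.TS_nonempty hr
    by_cases h : a1 = y
    exacts [⟨z, hz, fun e => hne (h.trans e.symm)⟩, ⟨a1, h1, h⟩]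
  obtain ⟨w, hw, hwy, hwz, hall, hprod⟩ := hB.rest_three hr hy hz₀ hz₀y.symm
  obtain ⟨hzn, hzl, hzr, hzx, -⟩ := hB.restFacts hr hz₀
  obtain ⟨hwn, hwl, hwr, hwx, -⟩ := hB.restFacts hr hw
  have hmem : z₀ * w ∈ TS D x r := ⟨z₀, hz₀, w, hw, hwz.symm, rfl⟩
  have hinv : act a y = r := by rw [hydef, act_act, haa]; simp [act]
  have hswap : act a z₀ = w := by
    have h1 : act a z₀ ∈ rest D x r := by
      refine ⟨?_, ?_⟩
      · rw [← (line_eq hB.hyp hB.hx hrn (left_mem_line hB.hx hrn) hzl hzx.symm).2]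
        exact hB.PP_line (hB.TT_mem ⟨s, hs, ha⟩) hzn
      · rintro (e | e)
        · exact hzx (act_inj (e.trans (act_fix hax).symm))
        · exact hz₀y (act_inj (e.trans hinv.symm))
    rcases hall _ h1 with e | e | e
    · exact absurd (act_inj (e.trans hydef)) hzr
    · exfalso
      obtain ⟨p, hp, q, hq, hpq, hapq⟩ := ha
      obtain ⟨-, hpl, -, hpx, -⟩ := hB.restFacts hs hp
      obtain ⟨-, hql, -, hqx, -⟩ := hB.restFacts hs hq
      obtain ⟨hsn, -, -⟩ := hB.sNb hs
      have hn : ∀ t, t ∈ line D x s → t ≠ x → ¬ Commute z₀ t := fun t ht htx h => hsr (by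
        have h1 : Commute z₀ s := (commute_line hB.hyp hB.hx hsn ht htx hzn).1 h
        exact (commute_line hB.hyp hB.hx hrn hzl hzx hsn).1 h1.symm)
      rw [hapq] at e
      exact (pair_move hB.hyp (line_subset hpl) (line_subset hql) (line_subset hzl) (line_clique hpl hql) hpq
        (hn p hpl hpx) (hn q hql hqx)).2.2 e
    · exact e
  have hwz' : act a w = z₀ := by rw [← hswap, act_act, haa]; simp [act]
  have hc : Commute a (z₀ * w) := by
    have e : a * (z₀ * w) * a⁻¹ = z₀ * w := by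
      calc a * (z₀ * w) * a⁻¹ = act a z₀ * act a w := by unfold act; group
        _ = z₀ * w := by rw [hswap, hwz', (line_clique hwl hzl).eq]
    show a * (z₀ * w) = z₀ * w * a
    conv_rhs => rw [← e]
    group
  have hry : r * y = x * (z₀ * w) := by
    have h1 : x * (r * (y * (z₀ * w))) = 1 := by rw [← hprod]; group
    have h2 : r * (y * (z₀ * w)) = x := by rw [eq_inv_of_mul_eq_one_right h1, ts_inv hT hB.hx]
    have h3 : r * y = x * (z₀ * w)⁻¹ := by rw [← h2]; group
    rw [h3, mul_inv_rev, ts_inv hT (line_subset hzl), ts_inv hT (line_subset hwl), (line_clique hwl hzl).eq]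
  refine ⟨z₀ * w, hmem, hc, ?_, fun d hd hcd => ?_, (line_clique (right_mem_line hrn) hyl).eq.symm, hry⟩
  · calc r * a * r = r * (a * r * a⁻¹) * a := by group
      _ = r * y * a := rfl
      _ = x * (z₀ * w * a) := by rw [hry]; group
  · by_contra hne
    have h3 := hB.TS_mul hr hd hmem hne
    have hall2 : ∀ e ∈ TS D x r, Commute a e := by
      intro e he
      by_cases e1 : e = d
      · exact e1 ▸ hcd
      by_cases e2 : e = z₀ * w
      · exact e2 ▸ hc
      have h4 : act e v₀ ∈ line D r v₀ := (hB.TS_facts hr he).2.2.2.2.2.2.1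
      have h5 : e = d * (z₀ * w) := by
        obtain ⟨p, hp, q, hq, hpq, rfl⟩ := hd
        obtain ⟨t, ht, htp, htq, hallt, -⟩ := hB.rest_three hr hp hq hpq
        have hc' : ∀ {i j : G}, i ∈ rest D x r → j ∈ rest D x r → i * j = j * i := fun hi hj =>
          (line_clique hi.1 hj.1).eq
        have three : ∀ g ∈ TS D x r, g = p * q ∨ g = p * t ∨ g = q * t := by
          rintro g ⟨i, hi, j, hj, hij, rfl⟩
          rcases hallt i hi with rfl | rfl | rfl <;> rcases hallt j hj with rfl | rfl | rfl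
          all_goals first
            | exact absurd rfl hij
            | exact Or.inl rfl
            | exact Or.inl (hc' hi hj)
            | exact Or.inr (Or.inl rfl)
            | exact Or.inr (Or.inl (hc' hi hj))
            | exact Or.inr (Or.inr rfl)
            | exact Or.inr (Or.inr (hc' hi hj))
        rcases three _ he with g1 | g1 | g1
        · exact absurd g1 e1
        all_goals
          rcases three _ h3 with g2 | g2 | g2
          all_goals rcases three _ hmem with g3 | g3 | g3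
          all_goals first
            | exact absurd g3.symm hne
            | exact absurd (g1.trans g3.symm) e2
            | exact g1.trans g2.symm
            | exact absurd (mul_eq_left.1 g2) fun e' => hwz (by
                rw [eq_inv_of_mul_eq_one_right e', ts_inv hT (line_subset hzl)])
            | exact absurd (mul_right_cancel (g2.trans (g3.symm.trans (one_mul _).symm))) fun e' => hpq (by
                rw [eq_inv_of_mul_eq_one_right e', ts_inv hT hp.1.1.1])
      rw [h5]; exact hcd.mul_right hc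
    have hfix : Commute a r := (hB.fix_iff (hB.TT_mem ⟨s, hs, ha⟩) hr).1.2 hall2
    exact hy.2 (Or.inr (by rw [hydef, act_fix hfix]; rfl))

/-- No compatible matching of three lines exchanges two translations. -/
theorem Base.no_swap [Finite G] {s r u : G} (hs : s ∈ both D x v₀) (hr : r ∈ both D x v₀) (hu : u ∈ both D x v₀)
    (hsr : ¬ Commute s r) (hsu : ¬ Commute s u) (hru : ¬ Commute r u) (hn : ¬ Commute (s * r * s) u)
    (z : Fin 3 → G) (hz : ∀ i, z i ∈ rest D x s) (hprod : x * s * z 0 * z 1 * z 2 = 1) (a : Fin 3 → G)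
    (ha : ∀ i, a i ∈ TS D x s ∧ s * z i = x * a i)
    (hmatch : ∀ i, ∀ c ∈ TS D x r, ∀ d ∈ TS D x u, Commute (a i) c → Commute c d →
      Commute (a (Equiv.swap 1 2 i)) d) : False := by
  classical
  have hT := hB.hyp.cls.ts
  let f : Fin 8 → G := ![x, s, z 0, z 1, z 2, r, v₀, u]
  obtain ⟨hsn, -, -⟩ := hB.sNb hs
  obtain ⟨hrn, -, -⟩ := hB.sNb hr
  obtain ⟨hun, -, -⟩ := hB.sNb hu
  have hzf := fun i => hB.restFacts hs (hz i)
  have hfD : ∀ a, f a ∈ D := by
    intro a; fin_cases a
    exacts [hB.hx, hs.1, (hzf _).1.1, (hzf _).1.1, (hzf _).1.1, hr.1, hB.hv, hu.1]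
  have hzc : ∀ {t : G}, t ∈ nb D x → ¬ Commute s t → ∀ i, ¬ Commute (z i) t := fun {t} ht hst i h => by
    obtain ⟨-, hl, -, hzx, -⟩ := hzf i
    exact hst ((commute_line hB.hyp hB.hx hsn hl hzx ht).1 h.symm).symm
  have hrels : ∀ w' ∈ pairWs (List.finRange 8) ++ [lineW, triW], (w'.map f).prod = 1 := by
    intro w' hw'
    rcases List.mem_append.1 hw' with hw' | hw'
    · refine pairW_prod hT (fun a _ => hfD a) ?_ ?_ w' hw'
      · intro a _ b _ hab h1 h2
        fin_cases a <;> fin_cases b <;>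
          first
            | exact absurd hab (by decide)
            | exact absurd h2 (by decide)
            | exact absurd h1 (by decide)
            | exact hsn.2.2
            | exact hrn.2.2
            | exact hun.2.2
            | exact (hzf _).1.2.2
            | exact line_clique (right_mem_line hsn) (hzf _).2.1
            | exact line_clique (hzf _).2.1 (hzf _).2.1
            | exact hs.2.2.symm
            | exact hr.2.2.symm
            | exact hu.2.2
      · intro p hp _ _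
        simp only [ncPairs, List.mem_cons, List.not_mem_nil, or_false] at hp
        rcases hp with rfl | rfl | rfl | rfl | rfl | rfl | rfl | rfl | rfl | rfl | rfl | rfl | rfl
        exacts [fun h => hsr h.symm, fun h => hzc hrn hsr _ h.symm, fun h => hzc hrn hsr _ h.symm,
          fun h => hzc hrn hsr _ h.symm, fun h => hB.hxv h.symm, (hzf _).2.2.2.2, (hzf _).2.2.2.2,
          (hzf _).2.2.2.2, fun h => hsu h.symm, fun h => hzc hun hsu _ h.symm, fun h => hzc hun hsu _ h.symm,
          fun h => hzc hun hsu _ h.symm, fun h => hru h.symm]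
    · simp only [List.mem_cons, List.not_mem_nil, or_false] at hw'
      rcases hw' with rfl | rfl
      · show x * (s * (z 0 * (z 1 * (z 2 * 1)))) = 1
        simpa [mul_assoc] using hprod
      · show s * (r * (s * (u * (s * (r * (s * (u * (s * (r * (s * (u * 1))))))))))) = 1
        have h := ts_cube hT (hB.conj_R hr hs).1 hu.1 hn
        simpa [pow_succ, mul_assoc] using h
  have hR : ∀ i : Fin 3, ((matchW ⟨(i : ℕ) + 2, by omega⟩
      ⟨((Equiv.swap 1 2 i : Fin 3) : ℕ) + 2, by omega⟩).map f).prod = 1 := by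
    intro i
    set k : Fin 3 := Equiv.swap 1 2 i
    have hlet : ∀ j : Fin 3, f ⟨(j : ℕ) + 2, by omega⟩ = z j := by intro j; fin_cases j <;> rfl
    obtain ⟨ha1, hae⟩ := ha i
    obtain ⟨ha2, hke⟩ := ha k
    obtain ⟨c, hc, hac, -, -, hyc, hry⟩ := hB.TS_pair hs hr hsr ha1
    obtain ⟨d, hd, hcd, -, -, -, -⟩ := hB.TS_pair hr hu hru hc
    have hkd := hmatch i c hc d hd hac hcd
    -- `c` and the matched translation act alike on `u`
    have hfix : Commute (c * a k) u := by
      refine (hB.fix_iff (mul_mem (hB.TT_mem ⟨r, hr, hc⟩) (hB.TT_mem ⟨s, hs, ha2⟩)) hu).1.2 fun e he => ?_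
      by_cases h1 : e = d
      · subst h1; exact hcd.mul_left hkd
      have hnc : ¬ Commute c e := fun h => h1 (by
        obtain ⟨d', -, -, -, huniq, -, -⟩ := hB.TS_pair hr hu hru hc
        rw [huniq e he h, huniq d hd hcd])
      have hnk : ¬ Commute (a k) e := fun h => h1 (by
        obtain ⟨d', -, -, -, huniq, -, -⟩ := hB.TS_pair hs hu hsu ha2
        rw [huniq e he h, huniq d hd hkd])
      exact (hB.comm_all (hB.TT_mem ⟨u, hu, he⟩) (hB.TT_mem ⟨r, hr, hc⟩) (hB.TT_mem ⟨s, hs, ha2⟩)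
        (fun h => hnc h.symm) fun h => hnk h.symm).symm
    have hxfix : ∀ {t : G}, t ∈ nb D x → act x t = t := fun ht => act_fix ht.2.2
    have hR1 : act (s * z i) r = act (a i) r := by
      rw [hae, ← act_act]
      exact hxfix (nb_conj_mem hB.hyp (hB.TS_facts hs ha1).1 hrn)
    have e : act (r * act (s * z i) r) u = act (s * z k) u := by
      have e1 : r * act (a i) r = x * c := hry
      rw [hR1, e1, hke, ← act_act, ← act_act, hxfix (t := act c u) (nb_conj_mem hB.hyp (hB.TS_facts hr hc).1 hun),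
        hxfix (t := act (a k) u) (nb_conj_mem hB.hyp (hB.TS_facts hs ha2).1 hun)]
      have h2 : act (c * a k) u = u := act_fix hfix
      have h3 := congrArg (act c) h2
      rw [act_act, ← mul_assoc, (hB.TS_facts hr hc).2.2.1, one_mul] at h3
      exact h3.symm
    simp only [matchW, List.map_cons, List.map_nil, List.prod_cons, List.prod_nil, hlet]
    show r * (s * (z i * (r * (z i * (s * (u * (s * (z i * (r * (z i * (s * (r *
      (s * (z k * (u * (z k * (s * 1))))))))))))))))) = 1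
    have his := ts_inv hT hs.1
    have hia : (z i)⁻¹ = z i := ts_inv hT (hzf i).1.1
    have hib : (z k)⁻¹ = z k := ts_inv hT (hzf k).1.1
    have hir := ts_inv hT hr.1
    have hsq : act (r * act (s * z i) r) u * act (r * act (s * z i) r) u = 1 :=
      ts_mul_self hT (hB.hyp.cls.conj _ u hu.1)
    conv_lhs at hsq => arg 2; rw [e]
    simp only [act, mul_inv_rev, his, hia, hib, hir, mul_assoc] at hsq
    simpa [mul_assoc] using hsq
  have hk : ∀ w' ∈ known9 2 4 3, (w'.map f).prod = 1 := by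
    intro w' hw'
    rw [known9, show [lineW, triW, matchW 2 2, matchW 3 4, matchW 4 3] =
      [lineW, triW] ++ [matchW 2 2, matchW 3 4, matchW 4 3] from rfl, ← List.append_assoc] at hw'
    rcases List.mem_append.1 hw' with h | h
    · exact hrels w' h
    · simp only [List.mem_cons, List.not_mem_nil, or_false] at h
      rcases h with rfl | rfl | rfl
      · exact hR 0
      · exact hR 1
      · exact hR 2
  have hf : ∀ i, f i * f i = 1 := fun i => ts_mul_self hT (hfD i)
  obtain ⟨h1, h2⟩ := CfsgLib.PresCert.index_bound (sel := List.finRange 8)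
    (subs := ([0, 1, 2, 3, 4, 5, 7] : List (Fin 8)).map fun x => [x]) (d := 0)
    SolvLocal.Cert.F5Swap.valid hf hk (by decide +kernel) (by decide +kernel)
  rw [CfsgLib.PresCert.wordsGroup_singletons] at h1 h2
  rw [show SolvLocal.Cert.F5Swap.cert.n = 1 from rfl] at h1
  have hle := Subgroup.relIndex_eq_one.1 (by omega :
    (CfsgLib.PresCert.lettersGroup [0, 1, 2, 3, 4, 5, 7] f).relIndex
      (CfsgLib.PresCert.lettersGroup (List.finRange 8) f) = 1)
  have h6 : v₀ ∈ CfsgLib.PresCert.lettersGroup [0, 1, 2, 3, 4, 5, 7] f :=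
    hle (Subgroup.subset_closure ⟨6, List.mem_finRange _, rfl⟩)
  have hcx : CfsgLib.PresCert.lettersGroup [0, 1, 2, 3, 4, 5, 7] f ≤ Subgroup.centralizer ({x} : Set G) := by
    refine (Subgroup.closure_le _).2 ?_
    rintro _ ⟨i, hi, rfl⟩
    refine Subgroup.mem_centralizer_singleton_iff.2 ?_
    fin_cases i
    exacts [rfl, hsn.2.2.eq.symm, (hzf _).1.2.2.eq.symm, (hzf _).1.2.2.eq.symm, (hzf _).1.2.2.eq.symm,
      hrn.2.2.eq.symm, absurd hi (by decide), hun.2.2.eq.symm]
  exact hB.hxv (Subgroup.mem_centralizer_singleton_iff.1 (hcx h6)).symm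

/-- Chosen numberings of the three translations of each line. -/
theorem Base.exists_enum [Finite G] :
    ∃ e : G → Fin 3 → G, ∀ s ∈ both D x v₀, Function.Injective (e s) ∧ (∀ i, e s i ∈ TS D x s) ∧
      ∀ a ∈ TS D x s, ∃ i, e s i = a := by
  classical
  have h : ∀ s, ∃ e : Fin 3 → G, s ∈ both D x v₀ → Function.Injective e ∧ (∀ i, e i ∈ TS D x s) ∧
      ∀ a ∈ TS D x s, ∃ i, e i = a := by
    intro s
    by_cases hs : s ∈ both D x v₀
    swap
    · exact ⟨fun _ => 1, fun h => absurd h hs⟩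
    obtain ⟨g, y, hy, z, hz, hyz, -⟩ := hB.TS_nonempty hs
    obtain ⟨w, hw, hwy, hwz, hall, -⟩ := hB.rest_three hs hy hz hyz
    have hc : ∀ {p q : G}, p ∈ rest D x s → q ∈ rest D x s → p * q = q * p := fun hp hq =>
      (line_clique hp.1 hq.1).eq
    refine ⟨![z * w, y * w, y * z], fun _ => ⟨?_, ?_, ?_⟩⟩
    · intro i j e
      have n1 : z * w ≠ y * w := fun e => hyz (mul_right_cancel e).symm
      have n2 : z * w ≠ y * z := fun e => hwy (mul_left_cancel (e.trans (hc hy hz)))
      have n3 : y * w ≠ y * z := fun e => hwz (mul_left_cancel e)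
      revert e
      fin_cases i <;> fin_cases j <;> simp [n1, n2, n3, n1.symm, n2.symm, n3.symm]
    · intro i; fin_cases i
      exacts [⟨z, hz, w, hw, hwz.symm, rfl⟩, ⟨y, hy, w, hw, hwy.symm, rfl⟩, ⟨y, hy, z, hz, hyz, rfl⟩]
    · rintro a ⟨p, hp, q, hq, hpq, rfl⟩
      rcases hall p hp with rfl | rfl | rfl <;> rcases hall q hq with rfl | rfl | rfl
      exacts [absurd rfl hpq, ⟨2, rfl⟩, ⟨1, rfl⟩, ⟨2, hc hq hp⟩, absurd rfl hpq, ⟨0, rfl⟩, ⟨1, hc hq hp⟩,
        ⟨0, hc hq hp⟩, absurd rfl hpq]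
  choose e he using h
  exact ⟨e, he⟩

/-- Lines are linked by non-commuting steps of length two. -/
theorem Base.two_steps [Finite G] {s₀ s : G} (hs₀ : s₀ ∈ both D x v₀) (hs : s ∈ both D x v₀) :
    ¬ Commute s₀ s ∨ ∃ k ∈ both D x v₀, ¬ Commute s₀ k ∧ ¬ Commute k s := by
  classical
  have hT := hB.hyp.cls.ts
  have hrule : ∀ {a b c : G}, a ∈ D → b ∈ D → c ∈ D → Commute a c → ¬ Commute a b → ¬ Commute b c →
      ¬ Commute a (b * c * b) := fun ha hb hc h1 h2 h3 => (conj_nc hT ha hb hc h1 h2).2 h3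
  set Q : G → Prop := fun u => u = s₀ ∨ ¬ Commute s₀ u ∨ ∃ k ∈ both D x v₀, ¬ Commute s₀ k ∧ ¬ Commute k u
  have hstep : ∀ u ∈ both D x v₀, ∀ w ∈ both D x v₀, ¬ Commute u w → Q u → Q w := by
    intro u hu w hw huw hQ
    by_cases h0 : Commute s₀ w
    swap
    · exact Or.inr (Or.inl h0)
    rcases hQ with rfl | hQ | ⟨k, hk, hk1, hk2⟩
    · exact absurd h0 huw
    · exact Or.inr (Or.inr ⟨u, hu, hQ, huw⟩)
    · by_cases hkw : Commute k w
      swap
      · exact Or.inr (Or.inr ⟨k, hk, hk1, hkw⟩)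
      by_cases h0u : Commute s₀ u
      swap
      · exact Or.inr (Or.inr ⟨u, hu, h0u, huw⟩)
      refine Or.inr (Or.inr ⟨k * u * k, hB.conj_R hu hk, hrule hs₀.1 hk.1 hu.1 h0u hk1 hk2, ?_⟩)
      rw [ts_braid hT hk.1 hu.1 hk2]
      exact fun h => hrule hw.1 hu.1 hk.1 hkw.symm (fun e => huw e.symm) (fun e => hk2 e.symm) h.symm
  set S : Set G := {t | t ∈ nb D x ∧ ∀ u ∈ both D x v₀, t ∈ line D x u → Q u}
  obtain ⟨hs₀n, -, -⟩ := hB.sNb hs₀
  have h₀S : s₀ ∈ S := ⟨hs₀n, fun u hu h => Or.inl (by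
    obtain ⟨r, -, -, huniq⟩ := hB.exists_rep hs₀n
    rw [huniq u hu h, huniq s₀ hs₀ (right_mem_line hs₀n)])⟩
  have hS := orb_subset_of_gen (E := nb D x) h₀S (fun w hw => ts_inv hT hw.1) fun w hw z _ hz => by
    have hm := nb_conj_mem hB.hyp hw.2.2.symm hz.1
    refine ⟨hm, fun u hu hl => ?_⟩
    obtain ⟨r, hr, hzr, -⟩ := hB.exists_rep hz.1
    obtain ⟨hrn, -, -⟩ := hB.sNb hr
    obtain ⟨hun, -, -⟩ := hB.sNb hu
    by_cases hwz : Commute w z
    · rw [show w * z * w⁻¹ = z by rw [hwz.eq, mul_inv_cancel_right]] at hl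
      exact hz.2 u hu hl
    refine hstep r hr u hu (fun hru => hwz ?_) (hz.2 r hr hzr)
    have h1 : Commute z u := ((commute_line hB.hyp hB.hx hrn hzr hz.1.2.1 hun).2 hru.symm).symm
    have h2 : Commute z (w * z * w⁻¹) := (commute_line hB.hyp hB.hx hun hl hm.2.1 hz.1).2 h1
    rw [ts_inv hT hw.1, ts_braid hT hw.1 hz.1.1 hwz] at h2
    have h3 := (LocalThree.cnj_iff hT hz.1.1).2 h2
    rw [LocalThree.cnj_self hT hz.1.1 (Commute.refl z), LocalThree.cnj_twice hT hz.1.1] at h3
    exact h3.symm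
  have hsS := hS (hB.hyp.cls.orb_nb hB.hyp.prim hB.hx hs₀n (hB.sNb hs).1)
  rcases hsS.2 s hs (right_mem_line (hB.sNb hs).1) with rfl | h | h
  · right
    obtain ⟨u, hu, hsu⟩ := pair hB.hyp hB.hx hs₀n
    obtain ⟨r, hr, hur, -⟩ := hB.exists_rep hu
    have hn : ¬ Commute s r := fun h => hsu (by
      exact ((commute_line hB.hyp hB.hx (hB.sNb hr).1 hur hu.2.1 hs₀n).2 h))
    exact ⟨r, hr, hn, fun h => hn h.symm⟩
  · exact Or.inl h
  · exact Or.inr h

/-- Compatible orientations: a rotation of the translations of each line keeping commutation. -/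
theorem Base.exists_omega [Finite G] :
    ∃ ω : G → G, (∀ s ∈ both D x v₀, ∀ a ∈ TS D x s, ω a ∈ TS D x s ∧ ω a ≠ a ∧ ω (ω (ω a)) = a) ∧
      ∀ a ∈ TT D x v₀, ∀ c ∈ TT D x v₀, (Commute (ω a) (ω c) ↔ Commute a c) := by
  classical
  have hT := hB.hyp.cls.ts
  obtain ⟨e₀, he₀⟩ := hB.exists_enum
  have hex : ∀ s r, ∃ π : Equiv.Perm (Fin 3), s ∈ both D x v₀ → r ∈ both D x v₀ → ¬ Commute s r →
      ∀ i j, Commute (e₀ s i) (e₀ r j) ↔ π i = j := by
    intro s r
    by_cases h : s ∈ both D x v₀ ∧ r ∈ both D x v₀ ∧ ¬ Commute s r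
    swap
    · exact ⟨1, fun a b c => absurd ⟨a, b, c⟩ h⟩
    obtain ⟨hs, hr, hsr⟩ := h
    have h1 : ∀ i, ∃ j, ∀ j', Commute (e₀ s i) (e₀ r j') ↔ j = j' := by
      intro i
      obtain ⟨c, hc, hac, -, huniq, -, -⟩ := hB.TS_pair hs hr hsr ((he₀ s hs).2.1 i)
      obtain ⟨j, rfl⟩ := (he₀ r hr).2.2 c hc
      exact ⟨j, fun j' => ⟨fun h => ((he₀ r hr).1 (huniq _ ((he₀ r hr).2.1 j') h)).symm, fun h => h ▸ hac⟩⟩
    choose g hg using h1
    have hinj : Function.Injective g := by
      intro i i' e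
      obtain ⟨c, hc, -, -, huniq, -, -⟩ := hB.TS_pair hr hs (fun h => hsr h.symm) ((he₀ r hr).2.1 (g i))
      refine (he₀ s hs).1 ((huniq _ ((he₀ s hs).2.1 i) ((hg i _).2 rfl).symm).trans (huniq _ ((he₀ s hs).2.1 i') ?_).symm)
      exact ((hg i' _).2 e.symm).symm
    exact ⟨Equiv.ofBijective g (Finite.injective_iff_bijective.1 hinj), fun _ _ _ i j => hg i j⟩
  choose π hπ using hex
  set R := both D x v₀ with hRdef
  have hsymm : ∀ {s r : G}, s ∈ R → r ∈ R → ¬ Commute s r → π r s = (π s r)⁻¹ := by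
    intro s r hs hr hsr
    refine Equiv.ext fun j => ?_
    have h := (hπ s r hs hr hsr ((π s r)⁻¹ j) j).2 (by simp)
    exact ((hπ r s hr hs (fun h => hsr h.symm) j _).1 h.symm)
  let sg : G → G → ℤˣ := fun s r => Equiv.Perm.sign (π s r)
  have hsgsymm : ∀ {s r : G}, s ∈ R → r ∈ R → ¬ Commute s r → sg r s = sg s r := by
    intro s r hs hr hsr
    show Equiv.Perm.sign _ = Equiv.Perm.sign _
    rw [hsymm hs hr hsr, Equiv.Perm.sign_inv]
  -- around a triangle
  have htri : ∀ {s r u : G}, s ∈ R → r ∈ R → u ∈ R → ¬ Commute s r → ¬ Commute r u → ¬ Commute s u →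
      sg s r * sg r u = sg s u := by
    intro s r u hs hr hu hsr hru hsu
    set τ : Equiv.Perm (Fin 3) := (π s u)⁻¹ * (π r u * π s r) with hτ
    suffices hev : Equiv.Perm.sign τ = 1 by
      rw [hτ, map_mul, map_mul, Equiv.Perm.sign_inv, mul_eq_one_iff_eq_inv, Int.units_inv_eq_self] at hev
      show Equiv.Perm.sign _ * Equiv.Perm.sign _ = Equiv.Perm.sign _
      rw [hev, mul_comm]
    have hτspec : ∀ i c d, c ∈ TS D x r → d ∈ TS D x u → Commute (e₀ s i) c → Commute c d →
        Commute (e₀ s (τ i)) d := by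
      intro i c d hc hd h1 h2
      obtain ⟨j, rfl⟩ := (he₀ r hr).2.2 c hc
      obtain ⟨l, rfl⟩ := (he₀ u hu).2.2 d hd
      rw [hπ s u hs hu hsu, hτ, ← (hπ r u hr hu hru j l).1 h2, ← (hπ s r hs hr hsr i j).1 h1]
      simp
    by_cases hn : Commute (r * s * r) u
    · -- the third line commutes: the matching is the identity
      have hid : τ = 1 := by
        refine Equiv.ext fun i => ?_
        obtain ⟨c, hc, hac, hcon, -, -, -⟩ := hB.TS_pair hs hr hsr ((he₀ s hs).2.1 i)
        obtain ⟨d, hd, hcd, -, -, -, -⟩ := hB.TS_pair hr hu hru hc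
        have h1 := hτspec i c d hc hd hac hcd
        obtain ⟨d', -, -, -, huniq, -, -⟩ := hB.TS_pair hu hs (fun h => hsu h.symm) hd
        refine (he₀ s hs).1 ((huniq _ ((he₀ s hs).2.1 _) h1.symm).trans
          (huniq _ ((he₀ s hs).2.1 i) ?_).symm)
        have hmem : r * e₀ s i * r ∈ TS D x (r * s * r) := by
          obtain ⟨y, hy, z, hz, hyz, he⟩ := (he₀ s hs).2.1 i
          have hfix : r * x * r⁻¹ = x := by rw [(hB.sNb hr).1.2.2.eq.symm, mul_inv_cancel_right]
          have hrest : ∀ {t}, t ∈ rest D x s → r * t * r ∈ rest D x (r * s * r) := by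
            intro t ht
            obtain ⟨-, htl, hts, htx, -⟩ := hB.restFacts hs ht
            have hl := line_conj hB.hyp.cls.conj (g := r) htl
            rw [hfix, ts_inv hT hr.1] at hl
            refine ⟨hl, ?_⟩
            rintro (e | e)
            · have h := (LocalThree.cnj_twice hT hr.1 (p := t)).symm.trans (by rw [e])
              rw [show r * x * r = x by rw [ts_inv hT hr.1] at hfix; exact hfix] at h
              exact htx h
            · exact hts (mul_left_cancel (mul_right_cancel e))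
          refine ⟨_, hrest hy, _, hrest hz, fun e => hyz (mul_left_cancel (mul_right_cancel e)), ?_⟩
          rw [he, show r * y * r * (r * z * r) = r * y * (r * r) * z * r by group, ts_mul_self hT hr.1]
          group
        have hcd' : Commute d (r * e₀ s i * r) :=
          (hB.conj_gen (hB.conj_R hs hr) hu hmem hd).1 hn
        rw [hcon] at hcd'
        have hxd : Commute d x := (hB.TS_facts hu hd).1
        have hca : Commute d (c * e₀ s i) := by
          have h := hxd.mul_right hcd'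
          rwa [← mul_assoc x x, ts_mul_self hT hB.hx, one_mul] at h
        have h := (hcd.symm.inv_right).mul_right hca
        rwa [inv_mul_cancel_left] at h
      rw [hid, map_one]
    by_contra hodd
    obtain ⟨π', hπ'⟩ : ∃ π' : Equiv.Perm (Fin 3), π'⁻¹ * τ * π' = Equiv.swap 1 2 := by
      have key : ∀ t : Equiv.Perm (Fin 3), Equiv.Perm.sign t ≠ 1 →
          ∃ p : Equiv.Perm (Fin 3), p⁻¹ * t * p = Equiv.swap 1 2 := by decide +kernel
      exact key τ hodd
    set a : Fin 3 → G := fun i => e₀ s (π' i)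
    have hainj : Function.Injective a := (he₀ s hs).1.comp π'.injective
    -- the members belonging to the translations
    have hza : ∀ i, ∃ z, z ∈ rest D x s ∧ s * z = x * a i := by
      intro i
      obtain ⟨y, hy, z, hz, hyz, he⟩ := (he₀ s hs).2.1 (π' i)
      obtain ⟨w, hw, -, -, -, hprod⟩ := hB.rest_three hs hy hz hyz
      refine ⟨w, hw, ?_⟩
      obtain ⟨-, hyl, -, -, -⟩ := hB.restFacts hs hy
      obtain ⟨-, hzl, -, -, -⟩ := hB.restFacts hs hz
      obtain ⟨-, hwl, -, -, -⟩ := hB.restFacts hs hw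
      have cs : Commute s (y * z) := (line_clique (right_mem_line (hB.sNb hs).1) hyl).mul_right
        (line_clique (right_mem_line (hB.sNb hs).1) hzl)
      show s * w = x * e₀ s (π' i)
      rw [he]
      have h1 : x * ((y * z) * (s * w)) = 1 := by
        rw [← hprod, ← mul_assoc (y * z) s w, ← cs.eq]; group
      have h2 : (y * z) * (s * w) = x := by rw [eq_inv_of_mul_eq_one_right h1, ts_inv hT hB.hx]
      have h3 : s * w = (y * z)⁻¹ * x := by rw [← h2]; group
      rw [h3, mul_inv_rev, ts_inv hT (line_subset hyl), ts_inv hT (line_subset hzl), (line_clique hzl hyl).eq,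
        ((line_clique hyl (left_mem_line hB.hx (hB.sNb hs).1)).mul_left
          (line_clique hzl (left_mem_line hB.hx (hB.sNb hs).1))).eq]
    choose z hz hze using hza
    have hzinj : Function.Injective z := fun i j e => hainj (mul_left_cancel ((hze i).symm.trans (e ▸ hze j)))
    obtain ⟨w, hw, hw0, hw1, hall, hprod⟩ :=
      hB.rest_three hs (hz 0) (hz 1) fun e => absurd (hzinj e) (by decide)
    have hw2 : z 2 = w := by
      rcases hall (z 2) (hz 2) with e | e | e
      exacts [absurd (hzinj e) (by decide), absurd (hzinj e) (by decide), e]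
    refine hB.no_swap hs hr hu hsr hsu hru ?_ z hz (by rw [hw2]; exact hprod) a
      (fun i => ⟨(he₀ s hs).2.1 _, hze i⟩) fun i c hc d hd h1 h2 => ?_
    · rw [ts_braid hT hs.1 hr.1 hsr]; exact hn
    · have h := hτspec (π' i) c d hc hd h1 h2
      have e : τ (π' i) = π' (Equiv.swap 1 2 i) := by
        rw [← hπ']; simp
      rwa [e] at h
  -- the orientation
  obtain ⟨s₀, hs₀⟩ : R.Nonempty := hB.hyp.join x hB.hx v₀ hB.hv hB.hxv
  have hmid : ∀ s ∈ R, ∃ k ∈ R, Commute s₀ s → ¬ Commute s₀ k ∧ ¬ Commute k s := by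
    intro s hs
    rcases hB.two_steps hs₀ hs with h | ⟨k, hk, h⟩
    exacts [⟨s, hs, fun h' => absurd h' h⟩, ⟨k, hk, fun _ => h⟩]
  choose! mid hmidR hmid using hmid
  let τ₀ : G → ℤˣ := fun s => if Commute s₀ s then sg s₀ (mid s) * sg (mid s) s else sg s₀ s
  have hone : ∀ z : ℤˣ, z * z = 1 := fun z => Int.units_mul_self z
  have hwd : ∀ {s k : G}, s ∈ R → k ∈ R → ¬ Commute s₀ k → ¬ Commute k s → τ₀ s = sg s₀ k * sg k s := by
    intro s k hs hk h1 h2
    simp only [τ₀]
    split
    · rename_i h0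
      obtain ⟨m1, m2⟩ := hmid s hs h0
      have hm := hmidR s hs
      set m := mid s
      by_cases hkm : Commute k m
      swap
      · rw [← htri hs₀ hk hm h1 hkm m1, mul_assoc, htri hk hm hs hkm m2 h2]
      set n := s₀ * k * s₀ with hn
      have hn' : n = k * s₀ * k := ts_braid hT hs₀.1 hk.1 h1
      have hnR : n ∈ R := hB.conj_R hk hs₀
      have n0 : ¬ Commute s₀ n := by
        intro h
        rw [hn] at h
        exact h1 (by
          have h' := (LocalThree.cnj_iff hT hs₀.1).2 h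
          rwa [LocalThree.cnj_self hT hs₀.1 (Commute.refl _), LocalThree.cnj_twice hT hs₀.1] at h')
      have ns : ¬ Commute n s := by
        rw [hn']
        exact fun h => (conj_nc hT hs.1 hk.1 hs₀.1 h0.symm (fun e => h2 e.symm)).2 (fun e => h1 e.symm) h.symm
      have nk : ¬ Commute k n := by
        intro h
        rw [hn'] at h
        exact h1 (by
          have h' := (LocalThree.cnj_iff hT hk.1).2 h
          rw [LocalThree.cnj_self hT hk.1 (Commute.refl _), LocalThree.cnj_twice hT hk.1] at h'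
          exact h'.symm)
      have nm : ¬ Commute m n := (conj_nc hT hm.1 hs₀.1 hk.1 hkm.symm fun e => m1 e.symm).2 h1
      have a1 : sg s₀ m * sg m s = sg s₀ n * sg n s := by
        rw [← htri hs₀ hm hnR m1 nm n0, ← htri hm hnR hs nm ns m2, mul_assoc]
      have a2 : sg s₀ k * sg k s = sg s₀ n * sg n s := by
        rw [← htri hs₀ hk hnR h1 nk n0, ← htri hk hnR hs nk ns h2, mul_assoc]
      rw [a1, a2]
    · rename_i h0
      exact (htri hs₀ hk hs h1 h2 h0).symm
  have hcoh : ∀ {s r : G}, s ∈ R → r ∈ R → ¬ Commute s r → τ₀ s * τ₀ r = sg s r := by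
    intro s r hs hr hsr
    by_cases h0s : Commute s₀ s
    swap
    · by_cases h0r : Commute s₀ r
      · rw [hwd hr hs h0s hsr, show τ₀ s = sg s₀ s from if_neg h0s, ← mul_assoc, hone, one_mul]
      · rw [show τ₀ s = sg s₀ s from if_neg h0s, show τ₀ r = sg s₀ r from if_neg h0r,
          ← htri hs₀ hs hr h0s hsr h0r, ← mul_assoc, hone, one_mul]
    by_cases h0r : Commute s₀ r
    swap
    · rw [hwd hs hr h0r (fun h => hsr h.symm), show τ₀ r = sg s₀ r from if_neg h0r, mul_comm, ← mul_assoc,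
        hone, one_mul, hsgsymm hs hr hsr]
    obtain ⟨m1, m2⟩ := hmid s hs h0s
    have hm := hmidR s hs
    set m := mid s
    obtain ⟨k, hk, k1, k2, k3⟩ : ∃ k ∈ R, ¬ Commute s₀ k ∧ ¬ Commute k s ∧ ¬ Commute k r := by
      by_cases hmr : Commute m r
      swap
      · exact ⟨m, hm, m1, m2, hmr⟩
      refine ⟨m * s * m, hB.conj_R hs hm, (conj_nc hT hs₀.1 hm.1 hs.1 h0s m1).2 m2, ?_, ?_⟩
      · intro h
        rw [ts_braid hT hm.1 hs.1 m2] at h
        exact m2 (by
          have h' := (LocalThree.cnj_iff hT hs.1).2 h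
          rwa [LocalThree.cnj_twice hT hs.1, LocalThree.cnj_self hT hs.1 (Commute.refl _)] at h')
      · rw [ts_braid hT hm.1 hs.1 m2]
        exact fun h => (conj_nc hT hr.1 hs.1 hm.1 hmr.symm fun e => hsr e.symm).2 (fun e => m2 e.symm) h.symm
    rw [hwd hs hk k1 k2, hwd hr hk k1 k3, ← htri hk hs hr k2 hsr k3]
    calc sg s₀ k * sg k s * (sg s₀ k * (sg k s * sg s r))
        = sg s₀ k * sg s₀ k * (sg k s * sg k s) * sg s r := by ac_rfl
      _ = sg s r := by rw [hone, hone, one_mul, one_mul]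
  let fl : G → Equiv.Perm (Fin 3) := fun s => if τ₀ s = 1 then 1 else Equiv.swap 1 2
  have hfl : ∀ s, Equiv.Perm.sign (fl s) = τ₀ s := by
    intro s
    simp only [fl]
    split
    · rename_i h; rw [h, map_one]
    · rename_i h; rw [Equiv.Perm.sign_swap (by decide), (Int.units_eq_one_or (τ₀ s)).resolve_left h]
  let e : G → Fin 3 → G := fun s i => e₀ s (fl s i)
  let ω : G → G := fun a => if h : ∃ s ∈ R, ∃ i, e s i = a then e h.choose (h.choose_spec.2.choose + 1) else a
  have hω : ∀ s ∈ R, ∀ i, ω (e s i) = e s (i + 1) := by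
    intro s hs i
    have h : ∃ s' ∈ R, ∃ j, e s' j = e s i := ⟨s, hs, i, rfl⟩
    simp only [ω, dif_pos h]
    have hj := h.choose_spec.2.choose_spec
    have hm := (he₀ _ h.choose_spec.1).2.1 (fl h.choose h.choose_spec.2.choose)
    change e h.choose _ ∈ _ at hm
    rw [hj] at hm
    have hs' : h.choose = s := hB.TS_unique h.choose_spec.1 hs hm ((he₀ s hs).2.1 _)
    clear hm
    generalize h.choose_spec.2.choose = j at hj ⊢
    generalize h.choose = s' at hj hs' ⊢
    subst hs'
    rw [(fl s').injective ((he₀ _ hs).1 hj)]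
  have hsurj : ∀ s ∈ R, ∀ a ∈ TS D x s, ∃ i, e s i = a := fun s hs a ha => by
    obtain ⟨i, rfl⟩ := (he₀ s hs).2.2 a ha
    exact ⟨(fl s).symm i, by simp [e]⟩
  refine ⟨ω, fun s hs a ha => ?_, fun a ha c hc => ?_⟩
  · obtain ⟨i, rfl⟩ := hsurj s hs a ha
    rw [hω s hs i, hω s hs, hω s hs]
    refine ⟨(he₀ s hs).2.1 _, fun h => ?_, by rw [(by decide : ∀ k : Fin 3, k + 1 + 1 + 1 = k) i]⟩
    have := (fl s).injective ((he₀ s hs).1 h)
    exact (by decide : ∀ k : Fin 3, k + 1 ≠ k) i this
  · obtain ⟨s, hs, ha⟩ := ha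
    obtain ⟨r, hr, hc⟩ := hc
    obtain ⟨i, rfl⟩ := hsurj s hs a ha
    obtain ⟨j, rfl⟩ := hsurj r hr c hc
    rw [hω s hs i, hω r hr j]
    by_cases hsr : Commute s r
    · exact iff_of_true ((hB.conj_gen hr hs ((he₀ r hr).2.1 _) ((he₀ s hs).2.1 _)).1 hsr.symm)
        ((hB.conj_gen hr hs ((he₀ r hr).2.1 _) ((he₀ s hs).2.1 _)).1 hsr.symm)
    set σ : Equiv.Perm (Fin 3) := (fl r)⁻¹ * π s r * fl s with hσ
    have hev : Equiv.Perm.sign σ = 1 := by
      rw [hσ, map_mul, map_mul, Equiv.Perm.sign_inv, hfl, hfl]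
      show τ₀ r * sg s r * τ₀ s = 1
      rw [← hcoh hs hr hsr]
      calc τ₀ r * (τ₀ s * τ₀ r) * τ₀ s = τ₀ r * τ₀ r * (τ₀ s * τ₀ s) := by ac_rfl
        _ = 1 := by rw [hone, hone, mul_one]
    have hrot : ∀ σ : Equiv.Perm (Fin 3), Equiv.Perm.sign σ = 1 → ∀ i j, (σ (i + 1) = j + 1 ↔ σ i = j) := by
      decide +kernel
    have key : ∀ i j, Commute (e s i) (e r j) ↔ σ i = j := fun i j => by
      rw [hπ s r hs hr hsr, hσ]
      exact (Equiv.Perm.inv_eq_iff_eq).symm
    rw [key, key]
    exact hrot σ hev i j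

end CfsgLib.ThreeTransp.Polar
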