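import Cfsg.Agent.Lib.ThreeTransp.Polar.Trans
import Cfsg.Agent.Lib.ThreeTransp.LocalThree.Twins

/-!
Lines of three members: of two non-commuting members and their third one, every member commutes with an odd number.
-/

set_option autoImplicit false
set_option linter.unusedSectionVars false
set_option linter.style.haveILetI false

namespace CfsgLib.ThreeTransp.Polar

open Cfsg CfsgLib.Involutions CfsgLib.ThreeTransp
open CfsgLib.ThreeTransp.SolvLocal (perp2 line left_mem_line right_mem_line line_clique line_subset line_comm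
  left_mem_perp2 nb_symm' act trs)

universe u

variable {G : Type u} [Group G] {D : Set G}

open scoped _root_.Classical in
/-- Whether two members fail to commute. -/
noncomputable def ind (x y : G) : ZMod 2 := if Commute x y then 0 else 1

theorem ind_comm (x y : G) : ind x y = ind y x := by
  unfold ind
  by_cases h : Commute x y
  · rw [if_pos h, if_pos h.symm]
  · rw [if_neg h, if_neg fun h' => h h'.symm]

theorem ind_conj (g x y : G) : ind (g * x * g⁻¹) (g * y * g⁻¹) = ind x y := by
  unfold ind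
  by_cases h : Commute x y
  · rw [if_pos h, if_pos ((commute_conj_iff g).2 h)]
  · rw [if_neg h, if_neg fun h' => h ((commute_conj_iff g).1 h')]

variable (hH : Hyp D)
include hH

theorem both_eq [Finite G] {a b a' b' : G} (ha : a ∈ D) (hb : b ∈ D) (hab : ¬ Commute a b) (ha' : a' ∈ D)
    (hb' : b' ∈ D) (hab' : ¬ Commute a' b') (h : both D a b ⊆ both D a' b') : both D a b = both D a' b' :=
  Set.eq_of_subset_of_ncard_le h
    (le_of_eq (hH.cls.both_ncard (hH.nonedge a ha b hb hab a' ha' b' hb' hab')).symm) (Set.toFinite _)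

/-- No member of the common neighbours of a non-commuting pair commutes with all of them. -/
theorem no_centre [Finite G] {x v c : G} (hx : x ∈ D) (hv : v ∈ D) (hxv : ¬ Commute x v) (hc : c ∈ both D x v) :
    ∃ r ∈ both D x v, ¬ Commute c r := by
  have hcn : c ∈ nb D x := ⟨hc.1, fun e => hxv (e ▸ hc.2.2.symm), hc.2.1⟩
  obtain ⟨u, hu, hcu⟩ := pair hH hx hcn
  obtain ⟨r, hr, hvr⟩ := exists_meet hH hx hu hv
  have hrx : r ≠ x := fun e => hxv (e ▸ hvr.symm)
  refine ⟨r, ⟨line_subset hr, line_clique (left_mem_line hx hu) hr, hvr⟩, fun h => hcu ?_⟩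
  exact (commute_line hH hx hu hr hrx hcn).1 h

/-- Members commuting with all common neighbours of a non-commuting pair. -/
theorem hyp_line_nc [Finite G] {x v u : G} (hx : x ∈ D) (hv : v ∈ D) (hxv : ¬ Commute x v) (hu : u ∈ D)
    (hall : ∀ s ∈ both D x v, Commute u s) (hne : u ≠ x) : ¬ Commute u x := by
  intro hc
  have hun : u ∈ nb D x := ⟨hu, hne, hc.symm⟩
  obtain ⟨r, hr, hvr⟩ := exists_meet hH hx hun hv
  have hrx : r ≠ x := fun e => hxv (e ▸ hvr.symm)
  have hrR : r ∈ both D x v := ⟨line_subset hr, line_clique (left_mem_line hx hun) hr, hvr⟩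
  obtain ⟨s, hs, hrs⟩ := no_centre hH hx hv hxv hrR
  have hsn : s ∈ nb D x := ⟨hs.1, fun e => hxv (e ▸ hs.2.2.symm), hs.2.1⟩
  exact hrs ((commute_line hH hx hun hr hrx hsn).2 (hall s hs).symm).symm

theorem parity_aux [Finite G] (hL : ∀ a ∈ D, ∀ b ∈ nb D a, (line D a b).ncard = 3) {x v y s : G} (hx : x ∈ D)
    (hv : v ∈ D) (hxv : ¬ Commute x v) (hy : y ∈ D) (hs : s ∈ both D x v) (hys : ¬ Commute y s)
    (hyx : ¬ Commute y x) (hyv : ¬ Commute y v) : Commute y (x * v * x) := by
  have hT := hH.cls.ts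
  have hxn : x ∈ nb D s := ⟨hx, fun e => hxv (e ▸ hs.2.2.symm), hs.2.1.symm⟩
  have hvn : v ∈ nb D s := ⟨hv, fun e => hxv (e ▸ hs.2.1), hs.2.2.symm⟩
  obtain ⟨r, hr, hyr⟩ := exists_meet hH hs.1 hxn hy
  have hrs : r ≠ s := fun e => hys (e ▸ hyr)
  have hrx : r ≠ x := fun e => hyx (e ▸ hyr)
  have hvr : ¬ Commute v r := fun h => hrs (meet_unique hH hs.1 hxn hv (right_mem_line hxn) (fun h' => hxv h'.symm)
    hr (left_mem_line hs.1 hxn) h hs.2.2)
  have hxr : Commute r x := line_clique hr (right_mem_line hxn)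
  obtain ⟨-, -, hne⟩ := pair_move hH (line_subset hr) hx hv hxr hrx hvr fun h => hxv h.symm
  set q := r * x * v * (r * x)⁻¹ with hq
  have hqL : q ∈ line D s v := core_moves hH hvn (pair_mem_core hH hs.1 hxn hr hrs (right_mem_line hxn) hxn.2.1)
  have hqs : q ≠ s := fun e => hvn.2.1 (by
    have hf : r * x * s * (r * x)⁻¹ = s := by
      have hc : Commute (r * x) s :=
        (line_clique hr (left_mem_line hs.1 hxn)).mul_left (line_clique (right_mem_line hxn) (left_mem_line hs.1 hxn))
      rw [hc.eq, mul_inv_cancel_right]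
    exact mul_left_cancel (mul_right_cancel (e.trans hf.symm)))
  have hline : line D s v = {s, v, q} := by
    refine (Set.eq_of_subset_of_ncard_le ?_ ?_ (Set.toFinite _)).symm
    · rintro w (rfl | rfl | rfl)
      exacts [left_mem_line hs.1 hvn, right_mem_line hvn, hqL]
    · rw [hL s hs.1 v hvn, Set.ncard_eq_three.2 ⟨s, v, q, hvn.2.1.symm, hqs.symm, hne.symm, rfl⟩]
  obtain ⟨c, hc, hyc⟩ := exists_meet hH hs.1 hvn hy
  rw [hline] at hc
  have hyq : Commute y q := by
    rcases hc with e | e | e
    · exact absurd (e ▸ hyc) hys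
    · exact absurd (e ▸ hyc) hyv
    · exact e ▸ hyc
  have e : x * v * x = r * q * r := by
    have h : r * q * r = r * (r * (x * v * x) * r) * r := by
      rw [hq, mul_inv_rev, ts_inv hT hx, ts_inv hT (line_subset hr)]; group
    rw [h, show r * (r * (x * v * x) * r) * r = r * r * (x * v * x) * (r * r) by group,
      ts_mul_self hT (line_subset hr), one_mul, mul_one]
  rw [e]
  exact (hyr.mul_right hyq).mul_right hyr

/-- Every member commutes with an odd number of `x`, `v` and their third one. -/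
theorem parity [Finite G] (hL : ∀ a ∈ D, ∀ b ∈ nb D a, (line D a b).ncard = 3) {x v y : G} (hx : x ∈ D)
    (hv : v ∈ D) (hxv : ¬ Commute x v) (hy : y ∈ D) : ind (x * v * x) y = ind v y + ind x y := by
  classical
  have hT := hH.cls.ts
  have hconj := hH.cls.conj
  have hxi := ts_inv hT hx
  by_cases hyx : Commute x y
  · have e : ind (x * v * x) y = ind v y := by
      conv_lhs => rw [show y = x * y * x⁻¹ by rw [hyx.eq, mul_inv_cancel_right]]
      conv_lhs => arg 1; arg 2; rw [← hxi]
      exact ind_conj x v y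
    rw [e, show ind x y = 0 from if_pos hyx, add_zero]
  by_cases hyv : Commute v y
  · have e : ind (x * v * x) y = ind x y := by
      rw [ts_braid hT hx hv hxv]
      conv_lhs => rw [show y = v * y * v⁻¹ by rw [hyv.eq, mul_inv_cancel_right]]
      conv_lhs => arg 1; arg 2; rw [← ts_inv hT hv]
      exact ind_conj v x y
    rw [e, show ind v y = 0 from if_pos hyv, zero_add]
  rw [show ind v y = 1 from if_neg hyv, show ind x y = 1 from if_neg hyx]
  suffices h : Commute (x * v * x) y by rw [show ind (x * v * x) y = 0 from if_pos h]; decide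
  by_cases hex : ∃ s ∈ both D x v, ¬ Commute y s
  · obtain ⟨s, hs, hys⟩ := hex
    exact (parity_aux hH hL hx hv hxv hy hs hys (fun h => hyx h.symm) fun h => hyv h.symm).symm
  push Not at hex
  by_contra hyw
  -- everything commuting with the common neighbours
  set R := both D x v with hR
  set M := {u | u ∈ D ∧ ∀ s ∈ R, Commute u s} with hM
  have hxM : x ∈ M := ⟨hx, fun s hs => hs.2.1⟩
  have hvM : v ∈ M := ⟨hv, fun s hs => hs.2.2⟩
  have hyM : y ∈ M := ⟨hy, hex⟩
  have hMcl : ∀ a ∈ M, ∀ b ∈ M, a * b * a ∈ M := fun a ha b hb =>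
    ⟨by simpa [ts_inv hT ha.1] using hconj a b hb.1, fun s hs => ((ha.2 s hs).mul_left (hb.2 s hs)).mul_left (ha.2 s hs)⟩
  have hMnc : ∀ a ∈ M, ∀ b ∈ M, a ≠ b → ¬ Commute a b := by
    intro a ha b hb hab
    by_cases hax : a = x
    · subst hax
      exact fun h => hyp_line_nc hH hx hv hxv hb.1 hb.2 hab.symm h.symm
    have hnax := hyp_line_nc hH hx hv hxv ha.1 ha.2 hax
    have hRa : both D x v = both D a x :=
      both_eq hH hx hv hxv ha.1 hx hnax fun s hs => ⟨hs.1, ha.2 s hs, hs.2.1⟩
    exact fun h => hyp_line_nc hH ha.1 hx hnax hb.1 (fun s hs => hb.2 s (hRa ▸ hs : s ∈ both D x v)) hab.symm h.symm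
  -- outside, the parity holds for all pairs in `M`
  have hout : ∀ a ∈ M, ∀ b ∈ M, a ≠ b → ∀ u ∈ D, u ∉ M → ind (a * b * a) u = ind b u + ind a u := by
    intro a ha b hb hab u hu huM
    have hnab := hMnc a ha b hb hab
    have hRab : both D x v = both D a b :=
      both_eq hH hx hv hxv ha.1 hb.1 hnab fun s hs => ⟨hs.1, ha.2 s hs, hb.2 s hs⟩
    by_cases hua : Commute a u
    · conv_lhs => rw [show u = a * u * a⁻¹ by rw [hua.eq, mul_inv_cancel_right]]
      conv_lhs => arg 1; arg 2; rw [← ts_inv hT ha.1]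
      rw [ind_conj, show ind a u = 0 from if_pos hua, add_zero]
    by_cases hub : Commute b u
    · rw [ts_braid hT ha.1 hb.1 hnab]
      conv_lhs => rw [show u = b * u * b⁻¹ by rw [hub.eq, mul_inv_cancel_right]]
      conv_lhs => arg 1; arg 2; rw [← ts_inv hT hb.1]
      rw [ind_conj, show ind b u = 0 from if_pos hub, zero_add]
    obtain ⟨s, hs, hus⟩ : ∃ s ∈ both D a b, ¬ Commute u s := by
      by_contra hcon
      push Not at hcon
      exact huM ⟨hu, fun s hs => hcon s (hRab ▸ hs)⟩
    have h := parity_aux hH hL ha.1 hb.1 hnab hu hs hus (fun h => hua h.symm) fun h => hub h.symm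
    rw [show ind b u = 1 from if_neg hub, show ind a u = 1 from if_neg hua,
      show ind (a * b * a) u = 0 from if_pos h.symm]
    decide
  have hyv' : ¬ Commute v y := hyv
  have hne_xy : x ≠ y := fun e => hyx (e ▸ Commute.refl x)
  have hne_vy : v ≠ y := fun e => hyv (e ▸ Commute.refl v)
  have hne_xv : x ≠ v := fun e => hxv (e ▸ Commute.refl x)
  set w := x * v * x with hw
  have hwM : w ∈ M := hMcl x hxM v hvM
  have hzM : y * x * y ∈ M := hMcl y hyM x hxM
  have hwy : y ≠ w := fun e => hyw (e ▸ Commute.refl _)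
  have hzv : y * x * y ≠ v := fun e => hyw (by
    have e2 : x * v * x = y := by
      rw [← e, ts_braid hT hy hx (fun h => hyx h.symm)]
      simp only [mul_assoc, ts_mul_self hT hx, mul_one]
      rw [← mul_assoc x x, ts_mul_self hT hx, one_mul]
    rw [hw, e2])
  set t₁ := y * w * y with ht₁
  set t₂ := y * x * y * v * (y * x * y) with ht₂
  have h1 : ∀ u ∈ D, u ∉ M → ind t₁ u = ind v u + ind x u + ind y u := fun u hu huM => by
    rw [ht₁, hout y hyM w hwM hwy u hu huM, hw, hout x hxM v hvM hne_xv u hu huM]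
  have h2 : ∀ u ∈ D, u ∉ M → ind t₂ u = ind v u + ind x u + ind y u := fun u hu huM => by
    rw [ht₂, hout _ hzM v hvM hzv u hu huM, hout y hyM x hxM hne_xy.symm u hu huM, add_assoc]
  have ht₁M : t₁ ∈ M := hMcl y hyM w hwM
  have ht₂M : t₂ ∈ M := hMcl _ hzM v hvM
  have hne : t₁ ≠ t₂ := by
    intro e
    apply hyv'
    have e2 : y * (x * v * x) * y = y * (x * (y * v * y) * x) * y := by
      rw [show y * (x * (y * v * y) * x) * y = y * x * y * v * (y * x * y) by group]
      exact e
    have e3 : v = y * v * y := mul_left_cancel (mul_right_cancel (mul_left_cancel (mul_right_cancel e2)))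
    show v * y = y * v
    calc v * y = y * v * y * y := by rw [← e3]
      _ = y * v := by rw [mul_assoc _ y y, ts_mul_self hT hy, mul_one]
  have hnb : nb D t₁ = nb D t₂ := by
    ext u
    have key : u ∈ D → u ∉ M → (Commute t₁ u ↔ Commute t₂ u) := fun hu huM => by
      have e := (h1 u hu huM).trans (h2 u hu huM).symm
      unfold ind at e
      by_cases ha : Commute t₁ u <;> by_cases hb : Commute t₂ u <;> simp only [ha, hb, if_true, if_false] at e ⊢
      · exact absurd e (by decide)
      · exact absurd e (by decide)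
    constructor
    · rintro ⟨hu, hne', hc⟩
      by_cases huM : u ∈ M
      · exact absurd hc (hMnc _ ht₁M u huM hne'.symm)
      · exact ⟨hu, fun e => huM (e ▸ ht₂M), (key hu huM).1 hc⟩
    · rintro ⟨hu, hne', hc⟩
      by_cases huM : u ∈ M
      · exact absurd hc (hMnc _ ht₂M u huM hne'.symm)
      · exact ⟨hu, fun e => huM (e ▸ ht₁M), (key hu huM).2 hc⟩
  have hm := LocalThree.twin_mem_pCore hT hconj ht₁M.1 ht₂M.1 hnb
  have hcen := (hH.cls.pCores_central_of_primitive hH.prim (by
    obtain ⟨a, ha⟩ := hH.edges x hx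
    exact ⟨x, hx, a, ha.1, ha.2.1.symm, ha.2.2⟩)).2 hm
  rw [hH.centre, Subgroup.mem_bot] at hcen
  exact hne (by rw [eq_inv_of_mul_eq_one_left hcen, ts_inv hT ht₂M.1])

end CfsgLib.ThreeTransp.Polar
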