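import Cfsg.Agent.Lib.ThreeTransp.Polar.Meet
import Cfsg.Agent.Lib.ThreeTransp.SolvLocal.Trans

/-!
The pairs of members on the lines through a member of a line act on it as translations; so a line has
at most five members.
-/

set_option autoImplicit false
set_option linter.unusedSectionVars false
set_option linter.style.haveILetI false

namespace CfsgLib.ThreeTransp.Polar

open Cfsg CfsgLib.Involutions CfsgLib.ThreeTransp
open CfsgLib.ThreeTransp.SolvLocal (perp2 line left_mem_line right_mem_line line_clique line_subset line_comm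
  left_mem_perp2 nb_symm' act act_act act_inj act_fix braid_of_cube trs)

universe u

variable {G : Type u} [Group G] {D : Set G}

variable (hH : Hyp D)
include hH

/-- A member of another line through `p` commutes with no member of the first line but `p`. -/
theorem off_line [Finite G] {p q u : G} (hp : p ∈ D) (hq : q ∈ nb D p) (hu : u ∈ nb D p)
    (hne : ¬ Commute q u) {w y : G} (hw : w ∈ line D p q \ {p}) (hy : y ∈ line D p u \ {p}) :
    ¬ Commute w y := by
  intro hc
  have hwn : w ∈ nb D p := line_pair hH hp hq (left_mem_line hp hq) hw.1 fun e => hw.2 e.symm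
  exact hne (((commute_line hH hp hq hw.1 hw.2 hu).1 (((commute_line hH hp hu hy.1 hy.2 hwn).1 hc).symm)).symm)

theorem act_line [Finite G] {p q u : G} (hp : p ∈ D) (hq : q ∈ nb D p) (hu : u ∈ nb D p)
    (hne : ¬ Commute q u) {w y z : G} (hw : w ∈ line D p q \ {p}) (hy : y ∈ line D p u \ {p})
    (hz : z ∈ line D p u \ {p}) :
    act (y * z) w ∈ line D p q \ {p} ∧ (y ≠ z → act (y * z) w ≠ w) := by
  by_cases hyz : y = z
  · subst hyz
    rw [ts_mul_self hH.cls.ts (line_subset hy.1)]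
    exact ⟨by simpa [act] using hw, fun h => absurd rfl h⟩
  obtain ⟨h1, h2, h3⟩ := pair_move hH (line_subset hy.1) (line_subset hz.1) (line_subset hw.1)
    (line_clique hy.1 hz.1) hyz (off_line hH hp hq hu hne hw hy) (off_line hH hp hq hu hne hw hz)
  have hpL := left_mem_line hp hq
  have hpK := left_mem_line hp hu
  have hfix : act (y * z) p = p :=
    act_fix ((line_clique hy.1 hpK).mul_left (line_clique hz.1 hpK))
  refine ⟨⟨?_, fun e => hw.2 ?_⟩, fun _ => h3⟩
  · rw [← (line_eq hH hp hq hpL hw.1 fun e => hw.2 e.symm).2]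
    exact core_moves hH (line_pair hH hp hq hpL hw.1 fun e => hw.2 e.symm) (pair_mem_core hH hp hu hy.1 hy.2 hz.1 hz.2)
  · rw [Set.mem_singleton_iff] at e
    exact act_inj (e.trans hfix.symm)

theorem tr_exists [Finite G] {p q u : G} (hp : p ∈ D) (hq : q ∈ nb D p) (hu : u ∈ nb D p)
    (hne : ¬ Commute q u) {w w' : G} (hw : w ∈ line D p q \ {p}) (hw' : w' ∈ line D p q \ {p}) :
    ∃ z ∈ line D p u \ {p}, act (u * z) w = w' := by
  have huK : u ∈ line D p u \ {p} := ⟨right_mem_line hu, hu.2.1⟩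
  have h : (fun z => act (u * z) w) '' (line D p u \ {p}) = line D p q \ {p} := by
    refine Set.eq_of_subset_of_ncard_le ?_ (le_of_eq ?_) (Set.toFinite _)
    · rintro _ ⟨z, hz, rfl⟩
      exact (act_line hH hp hq hu hne hw huK hz).1
    · rw [Set.InjOn.ncard_image, Set.ncard_sdiff_singleton_of_mem (left_mem_line hp hq),
        Set.ncard_sdiff_singleton_of_mem (left_mem_line hp hu), line_ncard hH hp hu hp hq]
      intro z hz z' hz' e
      have hT := hH.cls.ts
      have e' : act u (act z w) = act u (act z' w) := by rw [act_act, act_act]; exact e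
      have e2 := act_inj e'
      simp only [act, ts_inv hT (line_subset hz.1), ts_inv hT (line_subset hz'.1)] at e2
      rw [ts_braid hT (line_subset hz.1) (line_subset hw.1) (fun h => off_line hH hp hq hu hne hw hz h.symm),
        ts_braid hT (line_subset hz'.1) (line_subset hw.1) (fun h => off_line hH hp hq hu hne hw hz' h.symm)] at e2
      exact mul_left_cancel (mul_right_cancel e2)
  exact h.symm.subset hw'

theorem trs_commute {p u g h : G} (hg : g ∈ trs D p u) (hh : h ∈ trs D p u) : Commute g h := by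
  obtain ⟨y, hy, z, hz, rfl⟩ := hg
  obtain ⟨y', hy', z', hz', rfl⟩ := hh
  exact ((line_clique hy.1 hy'.1).mul_right (line_clique hy.1 hz'.1)).mul_left
    ((line_clique hz.1 hy'.1).mul_right (line_clique hz.1 hz'.1))

/-- Two translations which agree at one member agree. -/
theorem tr_agree [Finite G] {p q u : G} (hp : p ∈ D) (hq : q ∈ nb D p) (hu : u ∈ nb D p)
    (hne : ¬ Commute q u) {g h w w' : G} (hg : ∀ m ∈ trs D p u, Commute g m) (hh : h ∈ trs D p u)
    (hw : w ∈ line D p q \ {p}) (hw' : w' ∈ line D p q \ {p}) (e : act g w = act h w) :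
    act g w' = act h w' := by
  obtain ⟨z, hz, rfl⟩ := tr_exists hH hp hq hu hne hw hw'
  have hm : u * z ∈ trs D p u := ⟨u, ⟨right_mem_line hu, hu.2.1⟩, z, hz, rfl⟩
  rw [act_act, act_act, (hg _ hm).eq, (trs_commute hH hh hm).eq, ← act_act, e, act_act]

/-- The two families of translations. -/
theorem quad [Finite G] {p r u v : G} (hp : p ∈ D) (hr : r ∈ nb D p) (hu : u ∈ nb D p)
    (hune : ¬ Commute r u) (hv : v ∈ nb D r) (hvne : ¬ Commute p v) {g h w w' : G}
    (hg : g ∈ trs D p u) (hh : h ∈ trs D r v) (hgw : act g r = w) (hhw : act h p = w)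
    (hwr : w ≠ r) (hw' : w' ∈ line D p r) (hp' : w' ≠ p) (hr' : w' ≠ r) (hww : w' ≠ w) :
    act h w' = act g w' := by
  classical
  have hT := hH.cls.ts
  have hpr : p ∈ nb D r := nb_symm' hp hr
  have hL : line D r p = line D p r := line_comm r p
  set K := line D p u \ {p} with hK
  set J := line D r v \ {r} with hJ
  have hpK := left_mem_line hp hu
  have hrJ := left_mem_line hr.1 hv
  have hpL : p ∈ line D r p \ {r} := ⟨right_mem_line hpr, hpr.2.1⟩
  have hrL : r ∈ line D p r \ {p} := ⟨right_mem_line hr, hr.2.1⟩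
  have hKr : ∀ y ∈ K, ¬ Commute r y := fun y hy => off_line hH hp hr hu hune hrL hy
  have hJp : ∀ y ∈ J, ¬ Commute p y := fun y hy => off_line hH hr.1 hpr hv hvne hpL hy
  have hex : ∀ y ∈ K, ∃ c ∈ J, Commute y c := by
    intro y hy
    obtain ⟨c, hc, hyc⟩ := exists_meet hH hr.1 hv (line_subset hy.1)
    refine ⟨c, ⟨hc, fun e => hKr y hy ?_⟩, hyc⟩
    rw [Set.mem_singleton_iff] at e
    exact e ▸ hyc.symm
  choose! φ hφ hφc using hex
  have hφu : ∀ y ∈ K, ∀ c ∈ J, Commute y c → c = φ y := by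
    intro y hy c hc hyc
    refine meet_unique hH hr.1 hv (line_subset hy.1) hrJ (fun h => hKr y hy h.symm) hc.1
      (hφ y hy).1 hyc (hφc y hy)
  have hφi : ∀ y ∈ K, ∀ z ∈ K, φ y = φ z → y = z := by
    intro y hy z hz e
    exact meet_unique hH hp hu (line_subset (hφ y hy).1) hpK (fun h => hJp _ (hφ y hy) h.symm) hy.1 hz.1 (hφc y hy).symm
      (e ▸ (hφc z hz).symm)
  have key : ∀ y ∈ K, ∀ z ∈ K, y ≠ z → act (φ y * φ z) p = act (y * z) r := by
    intro y hy z hz hyz
    set y' := φ y with hy'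
    set z' := φ z with hz'
    have hy'J := hφ y hy
    have hz'J := hφ z hz
    have c1 : Commute y z := line_clique hy.1 hz.1
    have c2 : Commute y' z' := line_clique hy'J.1 hz'J.1
    have c3 : Commute y y' := hφc y hy
    have c4 : Commute z z' := hφc z hz
    have hyz' : y' ≠ z' := fun e => hyz (hφi y hy z hz e)
    have n1 : ¬ Commute y z' := fun hc => hyz' (hφu y hy z' hz'J hc).symm
    have n2 : ¬ Commute z y' := fun hc => hyz' (hφu z hz y' hy'J hc)
    set a := y * z with hadef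
    set b := y' * z' with hbdef
    have ha : a * a = 1 := by
      rw [hadef, c1.eq, mul_assoc z y, ← c1.eq, ← mul_assoc y y, ts_mul_self hT (line_subset hy.1), one_mul,
        ts_mul_self hT (line_subset hz.1)]
    have hb : b * b = 1 := by
      rw [hbdef, c2.eq, mul_assoc z' y', ← c2.eq, ← mul_assoc y' y', ts_mul_self hT (line_subset hy'J.1),
        one_mul, ts_mul_self hT (line_subset hz'J.1)]
    have hab : (a * b) ^ 3 = 1 := by
      have e1 : a * b = (y * z') * (z * y') := by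
        rw [hadef, hbdef, mul_assoc y z, ← mul_assoc z y' z', (c4.symm.mul_right c2.symm).symm.eq, mul_assoc y]
      have hcm : Commute (y * z') (z * y') :=
        (c1.mul_right c3).mul_left (c4.symm.mul_right c2.symm)
      rw [e1, hcm.mul_pow, ts_cube hT (line_subset hy.1) (line_subset hz'J.1) n1,
        ts_cube hT (line_subset hz.1) (line_subset hy'J.1) n2, one_mul]
    have hbr := braid_of_cube ha hb hab
    set q := act b p with hq
    obtain ⟨hqL, hqp⟩ := act_line hH hr.1 hpr hv hvne hpL hy'J hz'J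
    rw [hL] at hqL
    have hqne : q ∈ line D p r \ {p} := ⟨hqL.1, hqp hyz'⟩
    have haq := (act_line hH hp hr hu hune hqne hy hz).1
    have hfix : act b (act a q) = act a q := by
      have h1 : act (b * a * b) q = q := by
        rw [hq, act_act, mul_assoc (b * a) b b, hb, mul_one, ← act_act,
          act_fix ((line_clique hy.1 hpK).mul_left (line_clique hz.1 hpK))]
      rw [← hbr, ← act_act, ← act_act] at h1
      have h2 := congrArg (act a) h1
      rwa [act_act a a, ha, show ∀ v : G, act (1 : G) v = v from fun v => by simp [act]] at h2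
    have har : act a q = r := by
      by_contra hne
      exact (act_line hH hr.1 hpr hv hvne (w := act a q) ⟨hL ▸ haq.1, hne⟩ hy'J hz'J).2 hyz' hfix
    show act b p = act a r
    rw [← har, act_act, ha]
    simp [act, hq]
  -- normalise
  obtain ⟨z₁, hz₁, e₁⟩ := tr_exists hH hp hr hu hune hrL (w' := w) (by
    obtain ⟨y, hy, z, hz, rfl⟩ := hg
    exact hgw ▸ (act_line hH hp hr hu hune hrL hy hz).1)
  obtain ⟨z₂, hz₂, e₂⟩ := tr_exists hH hp hr hu hune hrL (w' := w') ⟨hw', hp'⟩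
  have huK : u ∈ K := ⟨right_mem_line hu, hu.2.1⟩
  have hu1 : u ≠ z₁ := fun e => hwr (by
    rw [← e₁, ← e, ts_mul_self hT (line_subset huK.1)]; simp [act])
  have hu2 : u ≠ z₂ := fun e => hr' (by
    rw [← e₂, ← e, ts_mul_self hT (line_subset huK.1)]; simp [act])
  have h12 : z₁ ≠ z₂ := fun e => hww (by rw [← e₁, ← e₂, e])
  have hgg : act g w' = act (u * z₁) w' :=
    tr_agree hH hp hr hu hune (fun m hm => trs_commute hH hg hm) ⟨u, huK, z₁, hz₁, rfl⟩ hrL ⟨hw', hp'⟩
      (hgw.trans e₁.symm)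
  have hhh : act h w' = act (φ u * φ z₁) w' :=
    tr_agree hH hr.1 hpr hv hvne (fun m hm => trs_commute hH hh hm)
      ⟨_, hφ u huK, _, hφ z₁ hz₁, rfl⟩ hpL ⟨hL ▸ hw', hr'⟩
      (hhw.trans ((key u huK z₁ hz₁ hu1).trans e₁).symm)
  rw [hgg, hhh, ← e₂, act_act (u * z₁) (u * z₂)]
  have hcancel : ∀ {u z z' : G}, u * u = 1 → Commute u z → u * z * (u * z') = z * z' := by
    intro u z z' h1 h2
    rw [h2.eq, mul_assoc z u, ← mul_assoc u u, h1, one_mul]
  rw [hcancel (ts_mul_self hT (line_subset huK.1)) (line_clique huK.1 hz₁.1), ← key z₁ hz₁ z₂ hz₂ h12]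
  rw [← key u huK z₂ hz₂ hu2, act_act, hcancel (ts_mul_self hT (line_subset (hφ u huK).1))
    (line_clique (hφ u huK).1 (hφ z₁ hz₁).1)]

/-- A line has at most five members. -/
theorem line_le_five [Finite G] {a b : G} (ha : a ∈ D) (hb : b ∈ nb D a) : (line D a b).ncard ≤ 5 := by
  classical
  by_contra h5
  push Not at h5
  set L := line D a b with hLdef
  have hnbL : ∀ p ∈ L, ∀ q ∈ L, p ≠ q → q ∈ nb D p ∧ line D p q = L := fun p hp q hq hpq =>
    ⟨line_pair hH ha hb hp hq hpq, (line_eq hH ha hb hp hq hpq).2⟩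
  have hout : ∀ p ∈ L, ∃ u ∈ nb D p, ∀ q ∈ L, q ≠ p → ¬ Commute q u := by
    intro p hp
    obtain ⟨q, hq, hqp⟩ := Set.exists_ne_of_one_lt_ncard (show 1 < L.ncard by omega) p
    obtain ⟨hqnb, hLq⟩ := hnbL p hp q hq hqp.symm
    obtain ⟨u, hu, hn⟩ := pair hH (line_subset hp) hqnb
    exact ⟨u, hu, fun w hw hwp h =>
      hn (((commute_line hH (line_subset hp) hqnb (hLq ▸ hw) hwp hu).1 h.symm).symm)⟩
  choose! u hu huL using hout
  have htr : ∀ p ∈ L, ∀ w ∈ L, ∀ w' ∈ L, w ≠ p → w' ≠ p → ∃ g ∈ trs D p (u p), act g w = w' := by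
    intro p hp w hw w' hw' hwp hwp'
    obtain ⟨hnw, hLw⟩ := hnbL p hp w hw hwp.symm
    obtain ⟨z, hz, e⟩ := tr_exists hH (line_subset hp) hnw (hu p hp) (huL p hp w hw hwp) (w := w) (w' := w')
      ⟨hLw ▸ hw, hwp⟩ ⟨hLw ▸ hw', hwp'⟩
    exact ⟨_, ⟨_, ⟨right_mem_line (hu p hp), (hu p hp).2.1⟩, z, hz, rfl⟩, e⟩
  have hmap : ∀ p ∈ L, ∀ g ∈ trs D p (u p), ∀ w ∈ L, w ≠ p → act g w ∈ L ∧ act g w ≠ p := by
    intro p hp g hg w hw hwp
    obtain ⟨hnw, hLw⟩ := hnbL p hp w hw hwp.symm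
    obtain ⟨y, hy, z, hz, rfl⟩ := hg
    have h1 := (act_line hH (line_subset hp) hnw (hu p hp) (huL p hp w hw hwp) ⟨hLw ▸ hw, hwp⟩ hy hz).1
    exact ⟨hLw ▸ h1.1, h1.2⟩
  have hinv : ∀ p ∈ L, ∀ g ∈ trs D p (u p), g * g = 1 := by
    rintro p hp g ⟨y, hy, z, hz, rfl⟩
    have c1 : Commute y z := line_clique hy.1 hz.1
    rw [c1.eq, mul_assoc z y, ← c1.eq, ← mul_assoc y y, ts_mul_self hH.cls.ts (line_subset hy.1), one_mul,
      ts_mul_self hH.cls.ts (line_subset hz.1)]
  have hQ : ∀ p ∈ L, ∀ r ∈ L, p ≠ r → ∀ g ∈ trs D p (u p), ∀ h ∈ trs D r (u r), ∀ w w', act g r = w →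
      act h p = w → w ≠ r → w' ∈ L → w' ≠ p → w' ≠ r → w' ≠ w → act h w' = act g w' := by
    intro p hp r hr hpr g hg h hh w w' e1 e2 h1 h2 h3 h4 h5'
    obtain ⟨hnr, hLr⟩ := hnbL p hp r hr hpr
    exact quad hH (line_subset hp) hnr (hu p hp) (huL p hp r hr hpr.symm) (hu r hr) (huL r hr p hp hpr) hg hh e1 e2 h1
      (hLr ▸ h2) h3 h4 h5'
  have hA : ∀ p ∈ L, ∀ g ∈ trs D p (u p), ∀ h ∈ trs D p (u p), ∀ k ∈ trs D p (u p), ∀ w ∈ L, ∀ w' ∈ L,
      w ≠ p → w' ≠ p → act g (act h w) = act k w → act g (act h w') = act k w' := by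
    intro p hp g hg h hh k hk w hw w' hw' hwp hwp' e
    obtain ⟨hnw, hLw⟩ := hnbL p hp w hw hwp.symm
    rw [act_act] at e ⊢
    exact tr_agree hH (line_subset hp) hnw (hu p hp) (huL p hp w hw hwp)
      (fun m hm => (trs_commute hH hg hm).mul_left (trs_commute hH hh hm)) hk ⟨hLw ▸ hw, hwp⟩
      ⟨hLw ▸ hw', hwp'⟩ e
  obtain ⟨p, hp⟩ := Set.nonempty_of_ncard_ne_zero (show L.ncard ≠ 0 by omega)
  obtain ⟨r, hr, hrp⟩ := Set.exists_ne_of_one_lt_ncard (show 1 < L.ncard by omega) p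
  have h3 : ∀ S : Finset G, S.card < L.ncard → ∃ v ∈ L, v ∉ S := by
    intro S hS
    by_contra h
    push Not at h
    have hle := Set.ncard_le_ncard (show L ⊆ (↑S : Set G) from fun v hv => h v hv) (Finset.finite_toSet S)
    rw [Set.ncard_coe_finset] at hle
    omega
  obtain ⟨c, hc, hc'⟩ := h3 {p, r} (lt_of_le_of_lt Finset.card_le_two (by omega))
  simp only [Finset.mem_insert, Finset.mem_singleton, not_or] at hc'
  obtain ⟨hcp, hcr⟩ := hc'
  obtain ⟨w, hw, hw'⟩ := h3 {p, r, c} (lt_of_le_of_lt Finset.card_le_three (by omega))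
  simp only [Finset.mem_insert, Finset.mem_singleton, not_or] at hw'
  obtain ⟨hwp, hwr, hwc⟩ := hw'
  -- translations fixing `p`
  obtain ⟨τc, hτc, eτc⟩ := htr p hp r hr c hc hrp hcp
  obtain ⟨τw, hτw, eτw⟩ := htr p hp r hr w hw hrp hwp
  obtain ⟨hτcw, hτcwp⟩ := hmap p hp τc hτc w hw hwp
  obtain ⟨z, hz, hz'⟩ := h3 {p, r, c, w, act τc w} (lt_of_le_of_lt Finset.card_le_five (by omega))
  simp only [Finset.mem_insert, Finset.mem_singleton, not_or] at hz'
  obtain ⟨hzp, hzr, hzc, hzw, hzcw⟩ := hz'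
  set z₁ := act τc z with hz₁
  obtain ⟨hz₁L, hz₁p⟩ := hmap p hp τc hτc z hz hzp
  have einv : ∀ v, act τc (act τc v) = v := fun v => by rw [act_act, hinv p hp τc hτc]; simp [act]
  have hτcc : act τc c = r := by rw [← eτc, einv]
  have hz₁r : z₁ ≠ r := fun e => hzc (act_inj (e.trans hτcc.symm))
  have hz₁c : z₁ ≠ c := fun e => hzr (act_inj (e.trans eτc.symm))
  have hz₁w : z₁ ≠ w := fun e => hzcw (by rw [← e, hz₁, einv])
  -- translations fixing `r`
  obtain ⟨gc, hgc, egc⟩ := htr r hr p hp c hc hrp.symm hcr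
  obtain ⟨gw, hgw, egw⟩ := htr r hr p hp w hw hrp.symm hwr
  obtain ⟨gcw, hgcw, egcw⟩ := htr r hr c hc w hw hcr hwr
  have q1 : act gc z = z₁ := hQ p hp r hr hrp.symm τc hτc gc hgc c z eτc egc hcr hz hzp hzr hzc
  have q2 : act gw z₁ = act τw z₁ :=
    hQ p hp r hr hrp.symm τw hτw gw hgw w z₁ eτw egw hwr hz₁L hz₁p hz₁r hz₁w
  have egc' : act gc c = p := by rw [← egc, act_act, hinv r hr gc hgc]; simp [act]
  have e1 : act gw (act gc z) = act gcw z :=
    hA r hr gw hgw gc hgc gcw hgcw c hc z hz hcr hzr (by rw [egc', egw, egcw])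
  -- translations fixing `c`
  obtain ⟨krw, hkrw, ekrw⟩ := htr c hc r hr w hw (Ne.symm hcr) hwc
  obtain ⟨krp, hkrp, ekrp⟩ := htr c hc r hr p hp (Ne.symm hcr) (Ne.symm hcp)
  obtain ⟨kpw, hkpw, ekpw⟩ := htr c hc p hp w hw (Ne.symm hcp) hwc
  have q3 : act gcw z = act krw z :=
    hQ c hc r hr hcr krw hkrw gcw hgcw w z ekrw egcw hwr hz hzc hzr hzw
  have e2 : act kpw (act krp z) = act krw z :=
    hA c hc kpw hkpw krp hkrp krw hkrw r hr z hz (Ne.symm hcr) hzc (by rw [ekrp, ekpw, ekrw])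
  obtain ⟨gcp, hgcp, egcp⟩ := htr r hr c hc p hp hcr hrp.symm
  have q4 : act gcp z = act krp z :=
    hQ c hc r hr hcr krp hkrp gcp hgcp p z ekrp egcp hrp.symm hz hzc hzr hzp
  have e3 : act gcp z = act gc z := by
    obtain ⟨hnc, hLc⟩ := hnbL r hr c hc (Ne.symm hcr)
    exact tr_agree hH (line_subset hr) hnc (hu r hr) (huL r hr c hc hcr) (fun m hm => trs_commute hH hgcp hm) hgc
      ⟨hLc ▸ hc, hcr⟩ ⟨hLc ▸ hz, hzr⟩ (egcp.trans egc'.symm)
  obtain ⟨τcw, hτcw', eτcw⟩ := htr p hp c hc w hw hcp hwp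
  have q5 : act kpw z₁ = act τcw z₁ :=
    hQ p hp c hc (Ne.symm hcp) τcw hτcw' kpw hkpw w z₁ eτcw ekpw hwc hz₁L hz₁p hz₁c hz₁w
  have e4 : act τw (act τc z₁) = act τcw z₁ :=
    hA p hp τw hτw τc hτc τcw hτcw' c hc z₁ hz₁L hcp hz₁p (by rw [hτcc, eτw, eτcw])
  have h1 : act τw z₁ = act τw z := by
    have hkz : act krp z = z₁ := by rw [← q4, e3, q1]
    rw [← q2, ← q1, e1, q3, ← e2, hkz, q5, ← e4, hz₁, einv]
  have h2 : z₁ = z := act_inj h1
  obtain ⟨y, hy, y', hy', e⟩ := hτc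
  obtain ⟨hnr, hLr⟩ := hnbL p hp r hr hrp.symm
  have hy0 : y ≠ y' := by
    rintro rfl
    rw [e, ts_mul_self hH.cls.ts (line_subset hy.1)] at eτc
    exact hcr (eτc.symm.trans (by simp [act]))
  refine (act_line hH (line_subset hp) hnr (hu p hp) (huL p hp r hr hrp) ⟨hLr ▸ hz, hzp⟩ hy hy').2 hy0 ?_
  rw [← e]
  exact h2

end CfsgLib.ThreeTransp.Polar
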