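import Cfsg.Agent.Lib.ThreeTransp.Polar.Five
import Cfsg.Agent.Lib.ThreeTransp.Polar.Parity
import Cfsg.Agent.Lib.ThreeTransp.TwoP.Swap

/-!
Lines of five members: the group of translations at a member acts regularly on the members not commuting with it.
-/

set_option autoImplicit false
set_option linter.unusedSectionVars false
set_option linter.style.haveILetI false

namespace CfsgLib.ThreeTransp.Polar

open Cfsg CfsgLib.Involutions CfsgLib.ThreeTransp
open CfsgLib.ThreeTransp.SolvLocal (perp2 line left_mem_line right_mem_line line_clique line_subset line_comm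
  left_mem_perp2 nb_symm' act act_act act_inj act_fix trs)

universe u

variable {G : Type u} [Group G] {D : Set G}

/-- Lines of five members and a non-commuting pair. -/
structure Base (D : Set G) (x v₀ : G) : Prop where
  hyp : Hyp D
  five : ∀ a ∈ D, ∀ b ∈ nb D a, (line D a b).ncard = 5
  hx : x ∈ D
  hv : v₀ ∈ D
  hxv : ¬ Commute x v₀

/-- The members of the line through `x` and `s` other than these two. -/
def rest (D : Set G) (x s : G) : Set G := line D x s \ {x, s}

/-- The translations of a line: products of two of the other three members. -/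
def TS (D : Set G) (x s : G) : Set G := {g | ∃ y ∈ rest D x s, ∃ z ∈ rest D x s, y ≠ z ∧ g = y * z}

/-- All translations. -/
def TT (D : Set G) (x v₀ : G) : Set G := {g | ∃ s ∈ both D x v₀, g ∈ TS D x s}

/-- The group of translations. -/
def PP (D : Set G) (x v₀ : G) : Subgroup G := Subgroup.closure (insert x (TT D x v₀))

variable {x v₀ : G} (hB : Base D x v₀)
include hB

theorem Base.sNb {s : G} (hs : s ∈ both D x v₀) : s ∈ nb D x ∧ v₀ ∈ nb D s ∧ x ∈ nb D s :=
  have h1 : s ≠ x := fun e => hB.hxv (e ▸ hs.2.2.symm)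
  have h2 : v₀ ≠ s := fun e => hB.hxv (e ▸ hs.2.1)
  ⟨⟨hs.1, h1, hs.2.1⟩, ⟨hB.hv, h2, hs.2.2.symm⟩, ⟨hB.hx, h1.symm, hs.2.1.symm⟩⟩

theorem Base.restFacts [Finite G] {s y : G} (hs : s ∈ both D x v₀) (hy : y ∈ rest D x s) :
    y ∈ nb D x ∧ y ∈ line D x s ∧ y ≠ s ∧ y ≠ x ∧ ¬ Commute v₀ y := by
  have h2 := hy.2
  simp only [Set.mem_insert_iff, Set.mem_singleton_iff, not_or] at h2
  obtain ⟨hsn, -, -⟩ := hB.sNb hs
  refine ⟨line_pair hB.hyp hB.hx hsn (left_mem_line hB.hx hsn) hy.1 (Ne.symm h2.1), hy.1, h2.2, h2.1, fun hc => ?_⟩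
  exact h2.2 (meet_unique hB.hyp hB.hx hsn hB.hv (left_mem_line hB.hx hsn) (fun h => hB.hxv h.symm) hy.1
    (right_mem_line hsn) hc hs.2.2)

theorem Base.rest_three [Finite G] {s : G} (hs : s ∈ both D x v₀) {y z : G} (hy : y ∈ rest D x s)
    (hz : z ∈ rest D x s) (hyz : y ≠ z) :
    ∃ w ∈ rest D x s, w ≠ y ∧ w ≠ z ∧ (∀ t ∈ rest D x s, t = y ∨ t = z ∨ t = w) ∧ x * s * y * z * w = 1 := by
  classical
  obtain ⟨hsn, -, -⟩ := hB.sNb hs
  have h3 : (rest D x s).ncard = 3 := by
    rw [rest, Set.ncard_sdiff (by rintro t (rfl | rfl); exacts [left_mem_line hB.hx hsn, right_mem_line hsn]),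
      hB.five x hB.hx s hsn, Set.ncard_pair hsn.2.1.symm]
  obtain ⟨w, hw, hwne⟩ := Set.exists_mem_notMem_of_ncard_lt_ncard
    (show ({y, z} : Set G).ncard < (rest D x s).ncard by rw [Set.ncard_pair hyz, h3]; norm_num)
  simp only [Set.mem_insert_iff, Set.mem_singleton_iff, not_or] at hwne
  have hset : rest D x s = {y, z, w} := by
    refine (Set.eq_of_subset_of_ncard_le ?_ ?_ (Set.toFinite _)).symm
    · rintro t (rfl | rfl | rfl)
      exacts [hy, hz, hw]
    · rw [h3, Set.ncard_eq_three.2 ⟨y, z, w, hyz, Ne.symm hwne.1, Ne.symm hwne.2, rfl⟩]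
  obtain ⟨-, hyl, hys, hyx, -⟩ := hB.restFacts hs hy
  obtain ⟨-, hzl, hzs, hzx, -⟩ := hB.restFacts hs hz
  obtain ⟨-, hwl, hws, hwx, -⟩ := hB.restFacts hs hw
  refine ⟨w, hw, hwne.1, hwne.2, fun t ht => by simpa [hset] using ht, ?_⟩
  refine line_product hB.hyp hB.hx hsn (hB.five x hB.hx s hsn) ?_ hys.symm hzs.symm hws.symm hyz (Ne.symm hwne.1)
    (Ne.symm hwne.2) hsn.2.1.symm hyx.symm hzx.symm hwx.symm
  ext t
  constructor
  · intro ht
    by_cases h1 : t = x
    · simp [h1]
    by_cases h2 : t = s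
    · simp [h2]
    have : t ∈ rest D x s := ⟨ht, by simp [h1, h2]⟩
    rw [hset] at this
    simp only [Set.mem_insert_iff, Set.mem_singleton_iff] at this ⊢
    tauto
  · rintro (rfl | rfl | rfl | rfl | rfl)
    exacts [left_mem_line hB.hx hsn, right_mem_line hsn, hyl, hzl, hwl]

theorem Base.TS_facts [Finite G] {s a : G} (hs : s ∈ both D x v₀) (ha : a ∈ TS D x s) :
    Commute a x ∧ Commute a s ∧ a * a = 1 ∧ a ∈ core D x ∧ a ∈ core D s ∧ (∀ t ∈ line D x s, Commute a t) ∧
      act a v₀ ∈ line D s v₀ ∧ act a v₀ ≠ v₀ ∧ act a v₀ ≠ s := by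
  obtain ⟨y, hy, z, hz, hyz, rfl⟩ := ha
  obtain ⟨hsn, hvs, hxs⟩ := hB.sNb hs
  obtain ⟨-, hyl, hys, hyx, hvy⟩ := hB.restFacts hs hy
  obtain ⟨-, hzl, hzs, hzx, hvz⟩ := hB.restFacts hs hz
  have hT := hB.hyp.cls.ts
  have hc : Commute y z := line_clique hyl hzl
  have hall : ∀ t ∈ line D x s, Commute (y * z) t := fun t ht => (line_clique hyl ht).mul_left (line_clique hzl ht)
  have hcs : y * z ∈ core D s := by
    rw [line_comm] at hyl hzl
    exact pair_mem_core hB.hyp hs.1 hxs hyl hys hzl hzs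
  refine ⟨hall x (left_mem_line hB.hx hsn), hall s (right_mem_line hsn), ?_,
    pair_mem_core hB.hyp hB.hx hsn hyl hyx hzl hzx, hcs, hall, core_moves hB.hyp hvs hcs,
    (pair_move hB.hyp (line_subset hyl) (line_subset hzl) hB.hv hc hyz hvy hvz).2.2, fun e => ?_⟩
  · rw [hc.eq, mul_assoc z y, ← hc.eq, ← mul_assoc y y, ts_mul_self hT (line_subset hyl), one_mul,
      ts_mul_self hT (line_subset hzl)]
  · exact hvs.2.1 (act_inj (e.trans (act_fix (hall s (right_mem_line hsn))).symm))

theorem Base.act_commute [Finite G] {s a : G} (hs : s ∈ both D x v₀) (ha : a ∈ TS D x s) :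
    Commute v₀ (act a v₀) := by
  obtain ⟨-, -, -, -, -, -, h, -, -⟩ := hB.TS_facts hs ha
  exact line_clique (right_mem_line (hB.sNb hs).2.1) h

theorem Base.act_far [Finite G] {s a : G} (hs : s ∈ both D x v₀) (ha : a ∈ TS D x s) :
    ¬ Commute x (act a v₀) := by
  intro h
  obtain ⟨hax, -⟩ := hB.TS_facts hs ha
  exact hB.hxv ((commute_conj_iff a).1 (show Commute (a * x * a⁻¹) (a * v₀ * a⁻¹) by
    rw [hax.eq, mul_inv_cancel_right]; exact h))

/-- Translations are determined by the images of `v₀`. -/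
theorem Base.TS_inj [Finite G] {s a a' : G} (hs : s ∈ both D x v₀) (ha : a ∈ TS D x s) (ha' : a' ∈ TS D x s)
    (e : act a v₀ = act a' v₀) : a = a' := by
  have hT := hB.hyp.cls.ts
  have haux : ∀ {y z z' : G}, y ∈ rest D x s → z ∈ rest D x s → z' ∈ rest D x s →
      act (y * z) v₀ = act (y * z') v₀ → z = z' := by
    intro y z z' hy hz hz' e
    rw [← act_act, ← act_act] at e
    have e2 := act_inj e
    obtain ⟨-, hzl, -, -, hvz⟩ := hB.restFacts hs hz
    obtain ⟨-, hzl', -, -, hvz'⟩ := hB.restFacts hs hz'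
    simp only [act, ts_inv hT (line_subset hzl), ts_inv hT (line_subset hzl')] at e2
    rw [ts_braid hT (line_subset hzl) hB.hv (fun h => hvz h.symm),
      ts_braid hT (line_subset hzl') hB.hv (fun h => hvz' h.symm)] at e2
    exact mul_left_cancel (mul_right_cancel e2)
  obtain ⟨y, hy, z, hz, hyz, rfl⟩ := ha
  obtain ⟨y', hy', z', hz', hyz', rfl⟩ := ha'
  obtain ⟨w, -, -, -, hall, -⟩ := hB.rest_three hs hy hz hyz
  have hc : ∀ {p q : G}, p ∈ rest D x s → q ∈ rest D x s → p * q = q * p := fun hp hq =>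
    (line_clique hp.1 hq.1).eq
  rcases hall y' hy' with h | h | h
  · subst h; rw [haux hy hz hz' e]
  · subst h
    rw [hc hy hz] at e ⊢
    rw [haux hz hy hz' e]
  · have hzy : z' = y ∨ z' = z := by
      rcases hall z' hz' with h' | h' | h'
      exacts [Or.inl h', Or.inr h', absurd (h.trans h'.symm) hyz']
    rcases hzy with h' | h'
    · subst h'; rw [hc hy' hz'] at e ⊢; rw [haux hy hz hy' e]
    · subst h'; rw [hc hy' hz', hc hy hz] at e; rw [hc hy' hz', hc hy hz, haux hz hy hy' e]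

theorem Base.TS_mul [Finite G] {s a a' : G} (hs : s ∈ both D x v₀) (ha : a ∈ TS D x s) (ha' : a' ∈ TS D x s)
    (hne : a ≠ a') : a * a' ∈ TS D x s := by
  have hT := hB.hyp.cls.ts
  obtain ⟨y, hy, z, hz, hyz, rfl⟩ := ha
  obtain ⟨y', hy', z', hz', hyz', rfl⟩ := ha'
  have hc : ∀ {p q : G}, p ∈ rest D x s → q ∈ rest D x s → p * q = q * p := fun hp hq =>
    (line_clique hp.1 hq.1).eq
  obtain ⟨w, hw, hwy, hwz, hall, -⟩ := hB.rest_three hs hy hz hyz
  have hmul : ∀ {p q r : G}, p ∈ rest D x s → q ∈ rest D x s → r ∈ rest D x s → p * q * (q * r) = p * r :=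
    fun {p q r} hp hq hr => by rw [mul_assoc p q, ← mul_assoc q q, ts_mul_self hT (line_subset hq.1), one_mul]
  have key : y' * z' = y * w ∨ y' * z' = z * w := by
    rcases hall y' hy' with rfl | rfl | rfl <;> rcases hall z' hz' with rfl | rfl | rfl
    · exact absurd rfl hyz'
    · exact absurd rfl hne
    · exact Or.inl rfl
    · exact absurd (hc hz' hy') hne
    · exact absurd rfl hyz'
    · exact Or.inr rfl
    · exact Or.inl (hc hy' hz')
    · exact Or.inr (hc hy' hz')
    · exact absurd rfl hyz'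
  rcases key with h | h
  · exact ⟨z, hz, w, hw, hwz.symm, by rw [h, hc hy hz, hmul hz hy hw]⟩
  · exact ⟨y, hy, w, hw, hwy.symm, by rw [h, hmul hy hz hw]⟩

theorem Base.TS_nonempty [Finite G] {s : G} (hs : s ∈ both D x v₀) : (TS D x s).Nonempty := by
  classical
  obtain ⟨hsn, -, -⟩ := hB.sNb hs
  have h3 : (rest D x s).ncard = 3 := by
    rw [rest, Set.ncard_sdiff (by rintro t (rfl | rfl); exacts [left_mem_line hB.hx hsn, right_mem_line hsn]),
      hB.five x hB.hx s hsn, Set.ncard_pair hsn.2.1.symm]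
  obtain ⟨y, z, w, hyz, -, -, e⟩ := Set.ncard_eq_three.1 h3
  exact ⟨y * z, y, by rw [e]; simp, z, by rw [e]; simp, hyz, rfl⟩

/-- A line at `v₀` through one of the common neighbours. -/
theorem Base.line_v [Finite G] {s v : G} (hs : s ∈ both D x v₀) (hv : v ∈ line D s v₀) (hvs : v ≠ s) :
    v = v₀ ∨ ∃ a ∈ TS D x s, act a v₀ = v := by
  classical
  obtain ⟨hsn, hvn, -⟩ := hB.sNb hs
  obtain ⟨a, ha⟩ := hB.TS_nonempty hs
  obtain ⟨y, hy, z, hz, hyz, rfl⟩ := id ha
  obtain ⟨w, hw, hwy, hwz, -, -⟩ := hB.rest_three hs hy hz hyz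
  have m1 : y * z ∈ TS D x s := ⟨y, hy, z, hz, hyz, rfl⟩
  have m2 : y * w ∈ TS D x s := ⟨y, hy, w, hw, hwy.symm, rfl⟩
  have m3 : z * w ∈ TS D x s := ⟨z, hz, w, hw, hwz.symm, rfl⟩
  have f := fun {a} (h : a ∈ TS D x s) => (hB.TS_facts hs h).2.2.2.2.2.2
  have n12 : act (y * z) v₀ ≠ act (y * w) v₀ := fun e =>
    hwz (mul_left_cancel (hB.TS_inj hs m1 m2 e)).symm
  have n13 : act (y * z) v₀ ≠ act (z * w) v₀ := fun e => hwy (by
    have h := hB.TS_inj hs m1 m3 e
    rw [(line_clique hy.1 hz.1).eq] at h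
    exact (mul_left_cancel h).symm)
  have n23 : act (y * w) v₀ ≠ act (z * w) v₀ := fun e =>
    hyz (mul_right_cancel (hB.TS_inj hs m2 m3 e))
  have hset : ({s, v₀, act (y * z) v₀, act (y * w) v₀, act (z * w) v₀} : Set G) = line D s v₀ := by
    refine Set.eq_of_subset_of_ncard_le ?_ (le_of_eq ?_) (Set.toFinite _)
    · rintro t (rfl | rfl | rfl | rfl | rfl)
      exacts [left_mem_line hs.1 hvn, right_mem_line hvn, (f m1).1, (f m2).1, (f m3).1]
    · rw [hB.five s hs.1 v₀ hvn]
      have k1 : act (y * w) v₀ ∉ ({act (z * w) v₀} : Set G) := n23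
      have k2 : act (y * z) v₀ ∉ ({act (y * w) v₀, act (z * w) v₀} : Set G) := by
        rintro (h | h); exacts [n12 h, n13 h]
      have k3 : v₀ ∉ ({act (y * z) v₀, act (y * w) v₀, act (z * w) v₀} : Set G) := by
        rintro (h | h | h); exacts [(f m1).2.1 h.symm, (f m2).2.1 h.symm, (f m3).2.1 h.symm]
      have k4 : s ∉ ({v₀, act (y * z) v₀, act (y * w) v₀, act (z * w) v₀} : Set G) := by
        rintro (h | h | h | h); exacts [hvn.2.1 h.symm, (f m1).2.2 h.symm, (f m2).2.2 h.symm, (f m3).2.2 h.symm]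
      rw [Set.ncard_insert_of_notMem k4, Set.ncard_insert_of_notMem k3, Set.ncard_insert_of_notMem k2,
        Set.ncard_insert_of_notMem k1, Set.ncard_singleton]
  rw [← hset] at hv
  rcases hv with h | h | h | h | h
  exacts [absurd h hvs, Or.inl h, Or.inr ⟨_, m1, h.symm⟩, Or.inr ⟨_, m2, h.symm⟩, Or.inr ⟨_, m3, h.symm⟩]

theorem Base.trans_v [Finite G] {v : G} (hv : v ∈ D) (hxv : ¬ Commute x v) (hc : Commute v₀ v) (hne : v ≠ v₀) :
    ∃ a ∈ TT D x v₀, act a v₀ = v := by
  have hvn : v ∈ nb D v₀ := ⟨hv, hne, hc⟩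
  obtain ⟨s, hs, hxs⟩ := exists_meet hB.hyp hB.hv hvn hB.hx
  have hsv : s ≠ v₀ := fun e => hB.hxv (e ▸ hxs)
  have hsR : s ∈ both D x v₀ := ⟨line_subset hs, hxs, line_clique (left_mem_line hB.hv hvn) hs⟩
  have hmem : v ∈ line D s v₀ := by
    rw [(line_eq hB.hyp hB.hv hvn hs (left_mem_line hB.hv hvn) hsv).2]
    exact right_mem_line hvn
  rcases hB.line_v hsR hmem (fun e => hxv (e ▸ hxs)) with h | ⟨a, ha, h⟩
  · exact absurd h hne
  · exact ⟨a, ⟨s, hsR, ha⟩, h⟩

theorem Base.TS_unique [Finite G] {s r a : G} (hs : s ∈ both D x v₀) (hr : r ∈ both D x v₀) (ha : a ∈ TS D x s)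
    (ha' : a ∈ TS D x r) : s = r := by
  obtain ⟨-, -, -, -, -, -, h1, h1', h1''⟩ := hB.TS_facts hs ha
  obtain ⟨-, -, -, -, -, -, h2, -, h2''⟩ := hB.TS_facts hr ha'
  obtain ⟨hsn, hvs, -⟩ := hB.sNb hs
  obtain ⟨-, hvr, -⟩ := hB.sNb hr
  have e1 := (line_eq hB.hyp hs.1 hvs (right_mem_line hvs) h1 h1'.symm).2
  have e2 := (line_eq hB.hyp hr.1 hvr (right_mem_line hvr) h2 h1'.symm).2
  have hsl : s ∈ line D r v₀ := e2 ▸ e1.symm ▸ left_mem_line hs.1 hvs
  exact meet_unique hB.hyp hr.1 hvr hB.hx (right_mem_line hvr) hB.hxv hsl (left_mem_line hr.1 hvr) hs.2.1 hr.2.1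

/-- The other lift of a translation is not one. -/
theorem Base.not_TT [Finite G] {a : G} (ha : a ∈ TT D x v₀) : x * a ∉ TT D x v₀ := by
  rintro ⟨r, hr, h2⟩
  obtain ⟨s, hs, h1⟩ := ha
  have hT := hB.hyp.cls.ts
  obtain ⟨hax, -⟩ := hB.TS_facts hs h1
  have c1 := hB.act_commute hs h1
  have c2 := hB.act_commute hr h2
  rw [← act_act] at c2
  set v := act a v₀
  have hfar : ¬ Commute x v := hB.act_far hs h1
  have c3 : Commute (act x v₀) v := by
    have h := (commute_conj_iff x).2 c2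
    rw [show x * act x v * x⁻¹ = v by rw [act, ts_inv hT hB.hx, show x * (x * v * x) * x = x * x * v * (x * x) by group, ts_mul_self hT hB.hx, one_mul, mul_one]] at h
    exact h
  apply hfar
  have e : x = v₀ * act x v₀ * v₀ := by
    rw [act, ts_inv hT hB.hx, ts_braid hT hB.hx hB.hv hB.hxv]
    simp only [mul_assoc, ts_mul_self hT hB.hv, mul_one]
    rw [← mul_assoc v₀ v₀, ts_mul_self hT hB.hv, one_mul]
  rw [e]
  exact (c1.mul_left c3).mul_left c1

theorem Base.conj_gen [Finite G] {s r a c : G} (hs : s ∈ both D x v₀) (hr : r ∈ both D x v₀) (ha : a ∈ TS D x s)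
    (hc : c ∈ TS D x r) : (Commute s r → Commute c a) ∧ (c * a * c⁻¹ = a ∨ c * a * c⁻¹ = x * a) := by
  have hT := hB.hyp.cls.ts
  obtain ⟨y, hy, z, hz, hyz, rfl⟩ := ha
  obtain ⟨y', hy', z', hz', hyz', rfl⟩ := hc
  obtain ⟨hsn, -, -⟩ := hB.sNb hs
  obtain ⟨hrn, -, -⟩ := hB.sNb hr
  obtain ⟨hyn, hyl, hys, hyx, -⟩ := hB.restFacts hs hy
  obtain ⟨hzn, hzl, hzs, hzx, -⟩ := hB.restFacts hs hz
  obtain ⟨-, hyl', -, hyx', -⟩ := hB.restFacts hr hy'
  obtain ⟨-, hzl', -, hzx', -⟩ := hB.restFacts hr hz'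
  have hcomm : Commute s r → ∀ p, p ∈ line D x s → p ≠ x → p ∈ nb D x → Commute (y' * z') p := by
    intro hsr p hp hpx hpn
    have h1 : Commute r p := ((commute_line hB.hyp hB.hx hsn hp hpx hrn).2 hsr.symm)
    exact ((commute_line hB.hyp hB.hx hrn hyl' hyx' hpn).2 h1.symm).symm.mul_left
      ((commute_line hB.hyp hB.hx hrn hzl' hzx' hpn).2 h1.symm).symm
  refine ⟨fun h => (hcomm h y hyl hyx hyn).mul_right (hcomm h z hzl hzx hzn), ?_⟩
  obtain ⟨w, hw, hwy, hwz, hall, hprod⟩ := hB.rest_three hs hy hz hyz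
  obtain ⟨hwn, hwl, hws, hwx, -⟩ := hB.restFacts hs hw
  by_cases hsr : Commute s r
  · left
    rw [((hcomm hsr y hyl hyx hyn).mul_right (hcomm hsr z hzl hzx hzn)).eq, mul_inv_cancel_right]
  set c := y' * z' with hcdef
  have hnc : ∀ p ∈ line D x s, p ≠ x → p ∈ nb D x → ∀ q ∈ line D x r, q ≠ x → ¬ Commute p q := by
    intro p hp hpx hpn q hq hqx h
    exact hsr (((commute_line hB.hyp hB.hx hsn hp hpx hrn).1
      (((commute_line hB.hyp hB.hx hrn hq hqx hpn).1 h).symm)).symm)
  have hcfix : act c x = x := by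
    refine act_fix ?_
    exact (line_clique hyl' (left_mem_line hB.hx hrn)).mul_left (line_clique hzl' (left_mem_line hB.hx hrn))
  have hmap : ∀ p ∈ line D x s, p ≠ x → p ∈ nb D x →
      act c p ∈ line D x s ∧ act c p ≠ x ∧ act c p ≠ p := by
    intro p hp hpx hpn
    refine ⟨?_, fun e => hpx (act_inj (e.trans hcfix.symm)),
      (pair_move hB.hyp (line_subset hyl') (line_subset hzl') (line_subset hp) (line_clique hyl' hzl') hyz'
        (hnc p hp hpx hpn _ hyl' hyx') (hnc p hp hpx hpn _ hzl' hzx')).2.2⟩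
    rw [← (line_eq hB.hyp hB.hx hsn (left_mem_line hB.hx hsn) hp hpx.symm).2]
    exact core_moves hB.hyp hpn (pair_mem_core hB.hyp hB.hx hrn hyl' hyx' hzl' hzx')
  have hfour : ∀ p ∈ line D x s, p ≠ x → p = s ∨ p = y ∨ p = z ∨ p = w := by
    intro p hp hpx
    by_cases hps : p = s
    · exact Or.inl hps
    · exact Or.inr (hall p ⟨hp, by simp [hpx, hps]⟩)
  have hinv : act c (act c y) = y := by
    obtain ⟨-, -, hcc, -⟩ := hB.TS_facts hr (show c ∈ TS D x r from ⟨y', hy', z', hz', hyz', rfl⟩)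
    rw [act_act, hcc]; simp [act]
  have e : c * (y * z) * c⁻¹ = act c y * act c z := by unfold act; group
  rw [e]
  obtain ⟨a1, a2, a3⟩ := hmap y hyl hyx hyn
  obtain ⟨b1, b2, b3⟩ := hmap z hzl hzx hzn
  by_cases hcy : act c y = z
  · left
    rw [hcy, show act c z = y by rw [← hcy, hinv]]
    exact (line_clique hzl hyl).eq
  · right
    have hcz : act c z ≠ y := fun e' => hcy (by
      have h := congrArg (act c) e'
      obtain ⟨-, -, hcc, -⟩ := hB.TS_facts hr (show c ∈ TS D x r from ⟨y', hy', z', hz', hyz', rfl⟩)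
      rw [act_act, hcc] at h
      rw [← h]; simp [act])
    have hxa : x * (y * z) = s * w := by
      have cxs : Commute x s := line_clique (left_mem_line hB.hx hsn) (right_mem_line hsn)
      have h5 : x * (y * z) * (s * w) = 1 := by
        calc x * (y * z) * (s * w) = x * (y * z * s) * w := by group
          _ = x * (s * (y * z)) * w := by
              rw [((line_clique hyl (right_mem_line hsn)).mul_left (line_clique hzl (right_mem_line hsn))).eq]
          _ = x * s * y * z * w := by group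
          _ = 1 := hprod
      rw [eq_inv_of_mul_eq_one_left h5, mul_inv_rev, ts_inv hT hs.1, ts_inv hT (line_subset hwl)]
      exact (line_clique hwl (right_mem_line hsn)).eq
    rw [hxa]
    have hne : act c y ≠ act c z := fun e' => hyz (act_inj e')
    rcases hfour _ a1 a2 with h1 | h1 | h1 | h1
    · rcases hfour _ b1 b2 with h2 | h2 | h2 | h2
      · exact absurd (h1.trans h2.symm) hne
      · exact absurd h2 hcz
      · exact absurd h2 b3
      · rw [h1, h2]
    · exact absurd h1 a3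
    · exact absurd h1 hcy
    · rcases hfour _ b1 b2 with h2 | h2 | h2 | h2
      · rw [h1, h2]; exact (line_clique hwl (right_mem_line hsn)).eq
      · exact absurd h2 hcz
      · exact absurd h2 b3
      · exact absurd (h1.trans h2.symm) hne

theorem Base.TT_mem {a : G} (ha : a ∈ TT D x v₀) : a ∈ PP D x v₀ := Subgroup.subset_closure (Or.inr ha)

theorem Base.x_mem : x ∈ PP D x v₀ := Subgroup.subset_closure (Or.inl rfl)

theorem Base.PP_x [Finite G] {p : G} (hp : p ∈ PP D x v₀) : Commute p x := by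
  induction hp using Subgroup.closure_induction with
  | mem g hg =>
    rcases hg with rfl | ⟨s, hs, hg⟩
    · exact Commute.refl _
    · exact (hB.TS_facts hs hg).1
  | one => exact Commute.one_left _
  | mul g h _ _ i j => exact i.mul_left j
  | inv g _ i => exact i.inv_left

theorem Base.PP_conj [Finite G] {p q : G} (hp : p ∈ PP D x v₀) (hq : q ∈ PP D x v₀) :
    p * q * p⁻¹ = q ∨ p * q * p⁻¹ = x * q := by
  have hxx := ts_mul_self hB.hyp.cls.ts hB.hx
  have hxinv := ts_inv hB.hyp.cls.ts hB.hx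
  -- a generator moved by a generator
  have h1 : ∀ c ∈ insert x (TT D x v₀), ∀ a ∈ insert x (TT D x v₀), c * a * c⁻¹ = a ∨ c * a * c⁻¹ = x * a := by
    intro c hc a ha
    rcases hc with rfl | ⟨r, hr, hc⟩
    · left; rw [((hB.PP_x (Subgroup.subset_closure ha)).symm).eq, mul_inv_cancel_right]
    rcases ha with rfl | ⟨s, hs, ha⟩
    · left; rw [(hB.TS_facts hr hc).1.eq, mul_inv_cancel_right]
    exact (hB.conj_gen hs hr ha hc).2
  have h2 : ∀ c ∈ insert x (TT D x v₀), ∀ q ∈ PP D x v₀, c * q * c⁻¹ = q ∨ c * q * c⁻¹ = x * q := by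
    intro c hc q hq
    induction hq using Subgroup.closure_induction with
    | mem a ha => exact h1 c hc a ha
    | one => left; group
    | mul g h hg _ i j =>
      have hgx : Commute g x := hB.PP_x hg
      have e : c * (g * h) * c⁻¹ = (c * g * c⁻¹) * (c * h * c⁻¹) := by group
      rw [e]
      rcases i with i | i <;> rcases j with j | j <;> rw [i, j]
      · exact Or.inl rfl
      · right; rw [← mul_assoc, hgx.eq, mul_assoc]
      · right; rw [mul_assoc]
      · left; rw [mul_assoc x g, ← mul_assoc g x, hgx.eq, mul_assoc x g, ← mul_assoc x x, hxx, one_mul]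
    | inv g hg i =>
      have e : c * g⁻¹ * c⁻¹ = (c * g * c⁻¹)⁻¹ := by group
      rw [e]
      rcases i with i | i <;> rw [i]
      · exact Or.inl rfl
      · right; rw [mul_inv_rev, hxinv, (hB.PP_x hg).inv_left.eq]
  induction hp using Subgroup.closure_induction generalizing q with
  | mem c hc => exact h2 c hc q hq
  | one => left; group
  | mul g h hg hh i j =>
    have e : g * h * q * (g * h)⁻¹ = g * (h * q * h⁻¹) * g⁻¹ := by group
    rw [e]
    rcases j hq with j | j <;> rw [j]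
    · exact i hq
    · have e2 : g * (x * q) * g⁻¹ = x * (g * q * g⁻¹) := by
        rw [← mul_assoc g x, (hB.PP_x hg).eq]; group
      rw [e2]
      rcases i hq with i | i <;> rw [i]
      · exact Or.inr rfl
      · left; rw [← mul_assoc, hxx, one_mul]
  | inv g hg i =>
    rcases i hq with i | i
    · left; conv_lhs => rw [← i]
      group
    · right
      have e : g⁻¹ * q * g⁻¹⁻¹ = x * q := by
        have hgx : Commute g⁻¹ x := (hB.PP_x hg).inv_left
        calc g⁻¹ * q * g⁻¹⁻¹ = g⁻¹ * (x * (g * q * g⁻¹)) * g := by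
              rw [i, ← mul_assoc x x, hxx, one_mul, inv_inv]
          _ = x * q := by rw [← mul_assoc g⁻¹ x, hgx.eq]; group
      exact e

theorem Base.PP_sq [Finite G] {p : G} (hp : p ∈ PP D x v₀) : p * p = 1 ∨ p * p = x := by
  have hxx := ts_mul_self hB.hyp.cls.ts hB.hx
  induction hp using Subgroup.closure_induction with
  | mem g hg =>
    rcases hg with rfl | ⟨s, hs, hg⟩
    · exact Or.inl hxx
    · exact Or.inl (hB.TS_facts hs hg).2.2.1
  | one => left; simp
  | mul g h hg hh i j =>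
    have hx' : ∀ {k : G}, k ∈ PP D x v₀ → k * x = x * k := fun hk => (hB.PP_x hk).eq
    have e : g * h * (g * h) = g * g * (g⁻¹ * h * g⁻¹⁻¹ * h) := by group
    rw [e]
    rcases hB.PP_conj (inv_mem hg) hh with k | k <;> rw [k] <;> rcases i with i | i <;> rw [i] <;>
      rcases j with j | j
    all_goals first
      | (left; simp [mul_assoc, j, hxx]; done)
      | (right; simp [mul_assoc, j, hxx])
  | inv g hg i =>
    rcases i with i | i
    · left; rw [← mul_inv_rev, i, inv_one]
    · right; rw [← mul_inv_rev, i, ts_inv hB.hyp.cls.ts hB.hx]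

/-- An element of the group keeps every line at `x`. -/
theorem Base.PP_line [Finite G] {p t : G} (hp : p ∈ PP D x v₀) (ht : t ∈ nb D x) : act p t ∈ line D x t := by
  induction hp using Subgroup.closure_induction generalizing t with
  | mem g hg =>
    rcases hg with rfl | ⟨s, hs, hg⟩
    · rw [act_fix ht.2.2]; exact right_mem_line ht
    · exact core_moves hB.hyp ht (hB.TS_facts hs hg).2.2.2.1
  | one => simpa [act] using right_mem_line ht
  | mul g h hg hh i j =>
    have h1 := j ht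
    have hne : act h t ≠ x := fun e => ht.2.1 (act_inj (e.trans (act_fix (hB.PP_x hh)).symm))
    have h1n : act h t ∈ nb D x := line_pair hB.hyp hB.hx ht (left_mem_line hB.hx ht) h1 hne.symm
    have h2 := i h1n
    rw [(line_eq hB.hyp hB.hx ht (left_mem_line hB.hx ht) h1 hne.symm).2, act_act] at h2
    exact h2
  | inv g hg i =>
    have hgn : act g⁻¹ t ∈ nb D x := nb_conj_mem hB.hyp (hB.PP_x hg).inv_left ht
    have h := i hgn
    rw [act_act, mul_inv_cancel] at h
    have e : act (1 : G) t = t := by simp [act]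
    rw [e] at h
    have h2 := (line_eq hB.hyp hB.hx hgn (left_mem_line hB.hx hgn) h ht.2.1.symm).2
    rw [h2]; exact right_mem_line hgn

omit hB in
theorem act_mem (hconj : ∀ g : G, ∀ d ∈ D, g * d * g⁻¹ ∈ D) (g : G) {d : G} (hd : d ∈ D) : act g d ∈ D :=
  hconj g d hd

/-- Lines at `x` meet the common neighbours once. -/
theorem Base.exists_rep [Finite G] {t : G} (ht : t ∈ nb D x) :
    ∃ s ∈ both D x v₀, t ∈ line D x s ∧ ∀ s' ∈ both D x v₀, t ∈ line D x s' → s' = s := by
  obtain ⟨s, hs, hvs⟩ := exists_meet hB.hyp hB.hx ht hB.hv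
  have hsx : s ≠ x := fun e => hB.hxv (e ▸ hvs.symm)
  have hsR : s ∈ both D x v₀ := ⟨line_subset hs, line_clique (left_mem_line hB.hx ht) hs, hvs⟩
  have hl := (line_eq hB.hyp hB.hx ht (left_mem_line hB.hx ht) hs hsx.symm).2
  refine ⟨s, hsR, by rw [hl]; exact right_mem_line ht, fun s' hs' h => ?_⟩
  have hn := (hB.sNb hs').1
  have hl' := (line_eq hB.hyp hB.hx hn (left_mem_line hB.hx hn) h ht.2.1.symm).2
  exact meet_unique hB.hyp hB.hx ht hB.hv (left_mem_line hB.hx ht) (fun e => hB.hxv e.symm)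
    (hl' ▸ right_mem_line hn) hs hs'.2.2 hvs

/-- Fixing a common neighbour is centralising the translations of its line, and fixing the line. -/
theorem Base.fix_iff [Finite G] {p s : G} (hp : p ∈ PP D x v₀) (hs : s ∈ both D x v₀) :
    (Commute p s ↔ ∀ a ∈ TS D x s, Commute p a) ∧ (Commute p s → ∀ t ∈ line D x s, Commute p t) := by
  have hT := hB.hyp.cls.ts
  obtain ⟨hsn, -, -⟩ := hB.sNb hs
  have hline : ∀ t ∈ line D x s, t ≠ x → act p t ∈ line D x s ∧ act p t ≠ x := by
    intro t ht htx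
    have htn := line_pair hB.hyp hB.hx hsn (left_mem_line hB.hx hsn) ht htx.symm
    refine ⟨?_, fun e => htx (act_inj (e.trans (act_fix (hB.PP_x hp)).symm))⟩
    rw [← (line_eq hB.hyp hB.hx hsn (left_mem_line hB.hx hsn) ht htx.symm).2]
    exact hB.PP_line hp htn
  have hfwd : Commute p s → ∀ a ∈ TS D x s, Commute p a := by
    intro hps a ha
    obtain ⟨y, hy, z, hz, hyz, rfl⟩ := id ha
    have hrest : ∀ t ∈ rest D x s, act p t ∈ rest D x s := by
      intro t ht
      obtain ⟨-, htl, hts, htx, -⟩ := hB.restFacts hs ht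
      obtain ⟨h1, h2⟩ := hline t htl htx
      exact ⟨h1, by
        rintro (e | e)
        · exact h2 e
        · exact hts (act_inj (e.trans (act_fix hps).symm))⟩
    have hm : p * (y * z) * p⁻¹ ∈ TS D x s :=
      ⟨_, hrest y hy, _, hrest z hz, fun e => hyz (act_inj e), by unfold act; group⟩
    rcases hB.PP_conj hp (hB.TT_mem ⟨s, hs, ha⟩) with h | h
    · show p * (y * z) = y * z * p
      conv_rhs => rw [← h]
      group
    · exact absurd ⟨s, hs, h ▸ hm⟩ (hB.not_TT ⟨s, hs, ha⟩)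
  have hback : (∀ a ∈ TS D x s, Commute p a) → ∀ t ∈ line D x s, Commute p t := by
    intro h
    -- a rest member is fixed
    have key : ∀ y ∈ rest D x s, ∀ z ∈ rest D x s, y ≠ z → act p y = y ∨ act p y = z := by
      intro y hy z hz hyz
      obtain ⟨w, hw, hwy, hwz, hall, hprod⟩ := hB.rest_three hs hy hz hyz
      obtain ⟨-, hyl, hys, hyx, hvy⟩ := hB.restFacts hs hy
      obtain ⟨-, hzl, hzs, hzx, hvz⟩ := hB.restFacts hs hz
      have e : act p y * act p z = y * z := by
        have h1 := (h (y * z) ⟨y, hy, z, hz, hyz, rfl⟩).eq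
        unfold act
        calc p * y * p⁻¹ * (p * z * p⁻¹) = p * (y * z) * p⁻¹ := by group
          _ = y * z := by rw [h1, mul_inv_cancel_right]
      obtain ⟨a1, a2⟩ := hline y hyl hyx
      obtain ⟨b1, b2⟩ := hline z hzl hzx
      have hne : act p y ≠ act p z := fun e' => hyz (act_inj e')
      by_contra hcon
      push Not at hcon
      have hsw : act p y = s ∨ act p y = w := by
        by_cases h1 : act p y = s
        · exact Or.inl h1
        · exact Or.inr (((hall _ ⟨a1, by simp [a2, h1]⟩).resolve_left hcon.1).resolve_left hcon.2)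
      have hcl := @line_clique _ _ D x s
      -- products with `s` are the other lifts
      have hbad : ∀ q ∈ rest D x s, ¬ s * q = y * z := by
        intro q hq e'
        obtain ⟨-, hql, hqs, -, hvq⟩ := hB.restFacts hs hq
        have h1 := hB.act_commute hs (show y * z ∈ TS D x s from ⟨y, hy, z, hz, hyz, rfl⟩)
        rw [← e', ← act_act] at h1
        have h2 := (commute_conj_iff s).2 h1
        rw [show s * act s (act q v₀) * s⁻¹ = act q v₀ by
          rw [act, ts_inv hT hs.1, show s * (s * act q v₀ * s) * s = s * s * act q v₀ * (s * s) by group,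
            ts_mul_self hT hs.1, one_mul, mul_one],
          show s * v₀ * s⁻¹ = v₀ by rw [hs.2.2.symm.eq, mul_inv_cancel_right]] at h2
        apply hvq
        have hq' : q = v₀ * act q v₀ * v₀ := by
          rw [act, ts_inv hT (line_subset hql), ts_braid hT (line_subset hql) hB.hv (fun e => hvq e.symm)]
          simp only [mul_assoc, ts_mul_self hT hB.hv, mul_one]
          rw [← mul_assoc v₀ v₀, ts_mul_self hT hB.hv, one_mul]
        rw [hq']
        exact ((Commute.refl v₀).mul_right h2).mul_right (Commute.refl v₀)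
      rcases hsw with h1 | h1
      · rw [h1] at e hne
        refine hbad (act p z) ⟨b1, by simp [b2, hne.symm]⟩ e
      · by_cases h2 : act p z = s
        · rw [h1, h2, (hcl (hB.restFacts hs hw).2.1 (right_mem_line hsn)).eq] at e
          exact hbad w hw e
        · rw [h1] at e hne
          rcases hall _ ⟨b1, by simp [b2, h2]⟩ with h3 | h3 | h3
          · rw [h3, (hcl (hB.restFacts hs hw).2.1 hyl).eq] at e
            exact hwz (mul_left_cancel e)
          · rw [h3] at e
            exact hwy (mul_right_cancel e)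
          · exact hne h3.symm
    have hrest : ∀ y ∈ rest D x s, Commute p y := by
      intro y hy
      obtain ⟨-, hyl, -, -, -⟩ := hB.restFacts hs hy
      obtain ⟨y', hy', hyy'⟩ : ∃ z ∈ rest D x s, z ≠ y := by
        obtain ⟨a, a1, ha, z, hz, hne, -⟩ := hB.TS_nonempty hs
        by_cases h : a1 = y
        exacts [⟨z, hz, fun e => hne (h.trans e.symm)⟩, ⟨a1, ha, h⟩]
      obtain ⟨w, hw, hwy, hwy', -, -⟩ := hB.rest_three hs hy hy' hyy'.symm
      have e : act p y = y := by
        rcases key y hy y' hy' hyy'.symm with e1 | e1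
        · exact e1
        rcases key y hy w hw hwy.symm with e2 | e2
        · exact e2
        · exact absurd (e1.symm.trans e2) hwy'.symm
      unfold act at e
      show p * y = y * p
      conv_rhs => rw [← e]
      group
    intro t ht
    by_cases htx : t = x
    · rw [htx]; exact hB.PP_x hp
    by_cases hts : t = s
    · subst hts
      obtain ⟨a, y, hy, z, hz, hyz, -⟩ := hB.TS_nonempty hs
      obtain ⟨w, hw, -, -, -, hprod⟩ := hB.rest_three hs hy hz hyz
      have e : t = (w * z * y * x)⁻¹⁻¹⁻¹⁻¹ := by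
        have h1 : x * (t * (y * z * w)) = 1 := by rw [← hprod]; group
        have h2 : t * (y * z * w) = x := by rw [eq_inv_of_mul_eq_one_right h1, ts_inv hT hB.hx]
        have h3 : t = x * (y * z * w)⁻¹ := by rw [← h2]; group
        rw [h3, mul_inv_rev, mul_inv_rev, ts_inv hT (line_subset hy.1), ts_inv hT (line_subset hz.1),
          ts_inv hT (line_subset hw.1), inv_inv, inv_inv]
        have cx : Commute x (w * (z * y)) :=
          ((line_clique (left_mem_line hB.hx hsn) hw.1).mul_right ((line_clique (left_mem_line hB.hx hsn) hz.1).mul_right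
            (line_clique (left_mem_line hB.hx hsn) hy.1)))
        rw [cx.eq]; group
      rw [e, inv_inv, inv_inv]
      exact (((hrest w hw).mul_right (hrest z hz)).mul_right (hrest y hy)).mul_right (hB.PP_x hp)
    · exact hrest t ⟨ht, by simp [htx, hts]⟩
  exact ⟨⟨hfwd, fun h => hback h s (right_mem_line hsn)⟩, fun h => hback (hfwd h)⟩

/-- An element fixing `v₀` is trivial. -/
theorem Base.PP_free [Finite G] {p : G} (hp : p ∈ PP D x v₀) (hpv : Commute p v₀) : p = 1 := by
  have hfixR : ∀ s ∈ both D x v₀, Commute p s := by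
    intro s hs
    obtain ⟨hsn, -, -⟩ := hB.sNb hs
    have h1 := hB.PP_line hp hsn
    have h2 : Commute (act p s) v₀ := by
      have h := (commute_conj_iff p).2 hs.2.2.symm
      rw [show p * v₀ * p⁻¹ = v₀ by rw [hpv.eq, mul_inv_cancel_right]] at h
      exact h
    have e := meet_unique hB.hyp hB.hx hsn hB.hv (left_mem_line hB.hx hsn) (fun e => hB.hxv e.symm) h1
      (right_mem_line hsn) h2.symm hs.2.2
    unfold act at e
    show p * s = s * p
    conv_rhs => rw [← e]
    group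
  have hall : ∀ t ∈ D, Commute x t → Commute p t := by
    intro t ht hxt
    by_cases htx : t = x
    · rw [htx]; exact hB.PP_x hp
    obtain ⟨s, hs, hts, -⟩ := hB.exists_rep ⟨ht, htx, hxt⟩
    exact (hB.fix_iff hp hs).2 (hfixR s hs) t hts
  set U : Set G := {z | z ∈ D ∧ Commute x z} ∪ {v₀} with hU
  have hUD : U ⊆ D := fun z hz => hz.elim (fun h => h.1) fun h => h ▸ hB.hv
  have hDsub : IsDSubgroup D (Subgroup.closure U) :=
    le_antisymm ((Subgroup.closure_le _).2 fun z hz => hz.2)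
      (Subgroup.closure_mono fun z hz => ⟨hUD hz, Subgroup.subset_closure hz⟩)
  obtain ⟨c, hc⟩ := hB.hyp.edges x hB.hx
  rcases (hB.hyp.cls.maximal_commuting hB.hyp.prim ⟨x, hB.hx, c, hc.1, hc.2.1.symm, hc.2.2⟩ hB.hx).2 _ hDsub
    (Subgroup.closure_mono Set.subset_union_left) with e | e
  · exfalso
    have hm : v₀ ∈ Subgroup.closure {z | z ∈ D ∧ Commute x z} := e ▸ Subgroup.subset_closure (Or.inr rfl)
    have hle : Subgroup.closure {z | z ∈ D ∧ Commute x z} ≤ Subgroup.centralizer ({x} : Set G) :=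
      (Subgroup.closure_le _).2 fun z hz => Subgroup.mem_centralizer_singleton_iff.2 hz.2.eq.symm
    exact hB.hxv (Subgroup.mem_centralizer_singleton_iff.1 (hle hm)).symm
  · rw [← Subgroup.mem_bot, ← hB.hyp.centre]
    refine Subgroup.mem_center_iff.2 fun k => ?_
    have hle : Subgroup.closure U ≤ Subgroup.centralizer ({p} : Set G) := by
      refine (Subgroup.closure_le _).2 ?_
      rintro z (⟨hz, hxz⟩ | hz)
      · exact Subgroup.mem_centralizer_singleton_iff.2 (hall z hz hxz).eq.symm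
      · rw [Set.mem_singleton_iff] at hz
        rw [hz]; exact Subgroup.mem_centralizer_singleton_iff.2 hpv.eq.symm
    exact Subgroup.mem_centralizer_singleton_iff.1 (hle (e ▸ Subgroup.mem_top k))

theorem Base.PP_inj [Finite G] {p q : G} (hp : p ∈ PP D x v₀) (hq : q ∈ PP D x v₀) (e : act p v₀ = act q v₀) :
    p = q := by
  have h : act (q⁻¹ * p) v₀ = v₀ := by rw [← act_act, e, act_act, inv_mul_cancel]; simp [act]
  have hc : Commute (q⁻¹ * p) v₀ := by
    unfold act at h
    show q⁻¹ * p * v₀ = v₀ * (q⁻¹ * p)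
    conv_rhs => rw [← h]
    group
  exact (inv_mul_eq_one.1 (hB.PP_free (mul_mem (inv_mem hq) hp) hc)).symm

omit hB in
theorem closed_both {a b : G} (ha : a ∈ D) (hconj : ∀ g : G, ∀ d ∈ D, g * d * g⁻¹ ∈ D)
    (hT : IsThreeTranspositionSet D) {R : Set G} (hA : ∀ s ∈ R, Commute a s) (hb : b ∈ D) (hBR : ∀ s ∈ R, Commute b s) :
    a * b * a ∈ D ∧ ∀ s ∈ R, Commute (a * b * a) s :=
  ⟨by simpa [ts_inv hT ha] using hconj a b hb, fun s hs => ((hA s hs).mul_left (hBR s hs)).mul_left (hA s hs)⟩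

/-- The members commuting with all common neighbours pairwise do not commute. -/
theorem Base.hyp_pair_nc [Finite G] {a b : G} (ha : a ∈ D) (hb : b ∈ D) (hA : ∀ s ∈ both D x v₀, Commute a s)
    (hBR : ∀ s ∈ both D x v₀, Commute b s) (hab : a ≠ b) : ¬ Commute a b := by
  by_cases hax : a = x
  · subst hax
    exact fun h => hyp_line_nc hB.hyp hB.hx hB.hv hB.hxv hb hBR hab.symm h.symm
  have hnax := hyp_line_nc hB.hyp hB.hx hB.hv hB.hxv ha hA hax
  have hRa : both D x v₀ = both D a x :=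
    both_eq hB.hyp hB.hx hB.hv hB.hxv ha hB.hx hnax fun s hs => ⟨hs.1, hA s hs, hs.2.1⟩
  exact fun h => hyp_line_nc hB.hyp ha hB.hx hnax hb (fun s hs => hBR s (hRa ▸ hs : s ∈ both D x v₀)) hab.symm h.symm

/-- The group is transitive on the members not commuting with `x`. -/
theorem Base.PP_trans [Finite G] {v : G} (hv : v ∈ D) (hxv : ¬ Commute x v) :
    ∃ p ∈ PP D x v₀, act p v₀ = v := by
  classical
  have hstep : ∀ {u w : G}, (∃ p ∈ PP D x v₀, act p v₀ = u) → w ∈ D → ¬ Commute x w → Commute u w →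
      ∃ p ∈ PP D x v₀, act p v₀ = w := by
    rintro u w ⟨p, hp, rfl⟩ hw hxw hc
    by_cases e : w = act p v₀
    · exact ⟨p, hp, e.symm⟩
    set w' := act p⁻¹ w
    have e1 : act p w' = w := by rw [act_act, mul_inv_cancel]; simp [act]
    have h2 : Commute v₀ w' := by
      refine (commute_conj_iff p).1 ?_
      show Commute (act p v₀) (act p w')
      rw [e1]; exact hc
    have h3 : ¬ Commute x w' := fun h => hxw (by
      have h' := (commute_conj_iff p).2 h
      rwa [show p * w' * p⁻¹ = w from e1, (hB.PP_x hp).eq, mul_inv_cancel_right] at h')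
    obtain ⟨a, ha, ha'⟩ := hB.trans_v (act_mem hB.hyp.cls.conj _ hw) h3 h2 (fun h => e (e1.symm.trans (congrArg (act p) h)))
    exact ⟨p * a, mul_mem hp (hB.TT_mem ha), by rw [← act_act, ha', e1]⟩
  have hone : ∃ p ∈ PP D x v₀, act p v₀ = v₀ := ⟨1, one_mem _, by simp [act]⟩
  by_cases hc : Commute v₀ v
  · exact hstep hone hv hxv hc
  by_cases hall : ∀ u ∈ both D v₀ v, Commute x u
  swap
  · push Not at hall
    obtain ⟨u, hu, hxu⟩ := hall
    exact hstep (hstep hone hu.1 hxu hu.2.1) hv hxv hu.2.2.symm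
  -- the common neighbours are those of `x` and `v₀`
  have hR : both D v₀ v = both D x v₀ :=
    both_eq hB.hyp hB.hv hv hc hB.hx hB.hv hB.hxv fun u hu => ⟨hu.1, hall u hu, hu.2.1⟩
  obtain ⟨c, hc'⟩ : (both D x v₀).Nonempty := hB.hyp.join x hB.hx v₀ hB.hv hB.hxv
  obtain ⟨a, ha⟩ := hB.TS_nonempty hc'
  obtain ⟨hax, -, -, -, -, -, -, hne, -⟩ := hB.TS_facts hc' ha
  set v₁ := act a v₀
  have hv₁ : v₁ ∈ D := act_mem hB.hyp.cls.conj _ hB.hv
  have hxv₁ : ¬ Commute x v₁ := hB.act_far hc' ha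
  have h1 := hstep hone hv₁ hxv₁ (hB.act_commute hc' ha)
  by_cases hcv : Commute v₁ v
  · exact hstep h1 hv hxv hcv
  by_cases hall₁ : ∀ u ∈ both D v₁ v, Commute x u
  swap
  · push Not at hall₁
    obtain ⟨u, hu, hxu⟩ := hall₁
    exact hstep (hstep h1 hu.1 hxu hu.2.1) hv hxv hu.2.2.symm
  exfalso
  have hR1 : both D v₁ v = both D x v :=
    both_eq hB.hyp hv₁ hv hcv hB.hx hv hxv fun u hu => ⟨hu.1, hall₁ u hu, hu.2.2⟩
  have hR2 : both D x v₀ = both D x v :=
    both_eq hB.hyp hB.hx hB.hv hB.hxv hB.hx hv hxv fun u hu => ⟨hu.1, hu.2.1, (hR.symm ▸ hu : u ∈ both D v₀ v).2.2⟩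
  have hv₁R : ∀ s ∈ both D x v₀, Commute v₁ s := fun s hs => by
    rw [hR2, ← hR1] at hs
    exact hs.2.1
  exact hB.hyp_pair_nc hB.hv hv₁ (fun s hs => hs.2.2) hv₁R hne.symm (hB.act_commute hc' ha)

/-- Only `1` and `x` commute with the whole group. -/
theorem Base.PP_centre [Finite G] {p : G} (hp : p ∈ PP D x v₀) (hc : ∀ a ∈ TT D x v₀, Commute p a) :
    p = 1 ∨ p = x := by
  classical
  have hT := hB.hyp.cls.ts
  have hconj := hB.hyp.cls.conj
  have hxx := ts_mul_self hT hB.hx
  set K := {q | q ∈ PP D x v₀ ∧ ∀ a ∈ TT D x v₀, Commute q a}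
  set M := {u | u ∈ D ∧ ∀ s ∈ both D x v₀, Commute u s}
  have hKfix : ∀ q ∈ K, ∀ s ∈ both D x v₀, Commute q s := fun q hq s hs =>
    (hB.fix_iff hq.1 hs).1.2 fun a ha => hq.2 a ⟨s, hs, ha⟩
  have hKM : ∀ q ∈ K, act q v₀ ∈ M := fun q hq => ⟨act_mem hconj _ hB.hv, fun s hs => by
    have h := (commute_conj_iff q).2 hs.2.2
    rwa [(hKfix q hq s hs).eq, mul_inv_cancel_right] at h⟩
  have hMx : ∀ u ∈ M, u ≠ x → ¬ Commute x u := fun u hu hne => hB.hyp_pair_nc hB.hx hu.1 (fun s hs => hs.2.1) hu.2 hne.symm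
  have hMK : ∀ u ∈ M, u ≠ x → ∃ q ∈ K, act q v₀ = u := by
    intro u hu hne
    obtain ⟨q, hq, e⟩ := hB.PP_trans hu.1 (hMx u hu hne)
    refine ⟨q, ⟨hq, ?_⟩, e⟩
    rintro a ⟨s, hs, ha⟩
    refine (hB.fix_iff hq hs).1.1 ?_ a ha
    obtain ⟨hsn, -, -⟩ := hB.sNb hs
    have h1 := hB.PP_line hq hsn
    have h2 : Commute u (act q s) := by
      rw [← e]; exact (commute_conj_iff q).2 hs.2.2
    have e' := meet_unique hB.hyp hB.hx hsn hu.1 (left_mem_line hB.hx hsn)
      (fun h => hMx u hu hne h.symm) h1 (right_mem_line hsn) h2 (hu.2 s hs)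
    unfold act at e'
    show q * s = s * q
    conv_rhs => rw [← e']
    group
  -- an involution of the kernel is `x`
  have hinv : ∀ q ∈ K, q * q = 1 → q = 1 ∨ q = x := by
    intro q hq hqq
    by_contra hne
    push Not at hne
    set v := act q v₀
    have hvv : act q v = v₀ := by rw [act_act, hqq]; simp [act]
    have hne' : v₀ ≠ v := fun e => hne.1 (hB.PP_inj hq.1 (one_mem _) (e.symm.trans (by simp [act])))
    have hnc := hB.hyp_pair_nc hB.hv (hKM q hq).1 (fun s hs => hs.2.2) (hKM q hq).2 hne'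
    set w := v₀ * v * v₀
    have hwM : w ∈ M := closed_both hB.hv hconj hT (fun s hs => hs.2.2) (hKM q hq).1 (hKM q hq).2
    have hqw : act q w = w := by
      calc act q w = act q v₀ * act q v * act q v₀ := by unfold act w; group
        _ = v * v₀ * v := by rw [hvv]
        _ = w := (ts_braid hT hB.hv (hKM q hq).1 hnc).symm
    by_cases hwx : w = x
    · refine hne.2 (hB.PP_inj hq.1 hB.x_mem ?_)
      show v = act x v₀
      rw [act, ts_inv hT hB.hx, ts_braid hT hB.hx hB.hv hB.hxv, ← hwx]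
      show v = v₀ * (v₀ * v * v₀) * v₀
      simp only [mul_assoc, ts_mul_self hT hB.hv, mul_one]
      rw [← mul_assoc, ts_mul_self hT hB.hv, one_mul]
    · obtain ⟨k, hk, e⟩ := hMK w hwM hwx
      have h := hB.PP_inj (mul_mem hq.1 hk.1) hk.1 (by rw [← act_act, e, hqw])
      exact hne.1 (mul_eq_right.1 h)
  have hKmul : ∀ q ∈ K, ∀ r ∈ K, q * r ∈ K := fun q hq r hr =>
    ⟨mul_mem hq.1 hr.1, fun a ha => (hq.2 a ha).mul_left (hr.2 a ha)⟩
  have hKcom : ∀ q ∈ K, ∀ r ∈ K, Commute q r := by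
    intro q hq r hr
    have h := hr.1
    clear hr
    induction h using Subgroup.closure_induction with
    | mem g hg =>
      rcases hg with rfl | hg
      exacts [hB.PP_x hq.1, hq.2 g hg]
    | one => exact Commute.one_right _
    | mul g g' _ _ i j => exact i.mul_right j
    | inv g _ i => exact i.inv_right
  have hxK : x ∈ K := ⟨hB.x_mem, fun a ha => (hB.PP_x (hB.TT_mem ha)).symm⟩
  by_contra hne
  push Not at hne
  have hor : ∀ q ∈ K, q = 1 ∨ q = x ∨ q = p ∨ q = x * p := by
    intro q hq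
    rcases hB.PP_sq hq.1 with hqq | hqq
    · rcases hinv q hq hqq with h | h
      exacts [Or.inl h, Or.inr (Or.inl h)]
    rcases hB.PP_sq hp with hpp | hpp
    · rcases hinv p ⟨hp, hc⟩ hpp with h | h
      exacts [absurd h hne.1, absurd h hne.2]
    · rcases hinv (q * p⁻¹) (hKmul q hq p⁻¹ ⟨inv_mem hp, fun a ha => (hc a ha).inv_left⟩) (by
          have hcom : Commute q p⁻¹ := hKcom q hq p⁻¹ ⟨inv_mem hp, fun a ha => (hc a ha).inv_left⟩
          calc q * p⁻¹ * (q * p⁻¹) = q * q * (p⁻¹ * p⁻¹) := by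
                rw [mul_assoc q, ← mul_assoc p⁻¹ q, ← hcom.eq, mul_assoc q p⁻¹, ← mul_assoc]
            _ = 1 := by rw [hqq, ← mul_inv_rev, hpp, mul_inv_cancel]) with h | h
      · exact Or.inr (Or.inr (Or.inl (mul_inv_eq_one.1 h)))
      · exact Or.inr (Or.inr (Or.inr (mul_inv_eq_iff_eq_mul.1 h)))
  have hMset : M = {x, v₀, act x v₀, act p v₀, act (x * p) v₀} := by
    ext u
    constructor
    · intro hu
      by_cases hux : u = x
      · simp [hux]
      obtain ⟨q, hq, e⟩ := hMK u hu hux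
      rcases hor q hq with rfl | rfl | rfl | rfl
      · simp [← e, act]
      all_goals simp [← e]
    · rintro (rfl | rfl | rfl | rfl | rfl)
      exacts [⟨hB.hx, fun s hs => hs.2.1⟩, ⟨hB.hv, fun s hs => hs.2.2⟩, hKM x hxK, hKM p ⟨hp, hc⟩,
        hKM _ (hKmul x hxK p ⟨hp, hc⟩)]
  have hfar : ∀ q ∈ PP D x v₀, x ≠ act q v₀ := fun q hq e => hB.hxv (by
    have e' : v₀ = x := act_inj (e.symm.trans (act_fix (hB.PP_x hq)).symm)
    rw [e'])
  have hinj' : ∀ {q r : G}, q ∈ PP D x v₀ → r ∈ PP D x v₀ → q ≠ r → act q v₀ ≠ act r v₀ :=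
    fun hq hr h e => h (hB.PP_inj hq hr e)
  have hx1 : x ≠ (1 : G) := fun e => hB.hxv (e ▸ Commute.one_left _)
  have h1v : act (1 : G) v₀ = v₀ := by simp [act]
  have hxp := mul_mem (hB.x_mem) hp
  have hcard : M.ncard = 5 := by
    have k1 : act p v₀ ∉ ({act (x * p) v₀} : Set G) :=
      hinj' hp hxp fun e => hx1 (mul_eq_right.1 e.symm)
    have k2 : act x v₀ ∉ ({act p v₀, act (x * p) v₀} : Set G) := by
      rintro (e | e)
      · exact hinj' hB.x_mem hp (Ne.symm hne.2) e
      · exact hinj' hB.x_mem hxp (fun e' => hne.1 (mul_eq_left.1 e'.symm)) e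
    have k3 : v₀ ∉ ({act x v₀, act p v₀, act (x * p) v₀} : Set G) := by
      rintro (e | e | e)
      · exact hinj' (one_mem _) hB.x_mem hx1.symm (h1v.trans e)
      · exact hinj' (one_mem _) hp (Ne.symm hne.1) (h1v.trans e)
      · exact hinj' (one_mem _) hxp (fun e' => hne.2 (by
          rw [eq_inv_of_mul_eq_one_right e'.symm, ts_inv hT hB.hx])) (h1v.trans e)
    have k4 : x ∉ ({v₀, act x v₀, act p v₀, act (x * p) v₀} : Set G) := by
      rintro (e | e | e | e)
      exacts [hfar 1 (one_mem _) (e.trans h1v.symm), hfar x hB.x_mem e, hfar p hp e, hfar _ hxp e]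
    rw [hMset, Set.ncard_insert_of_notMem k4, Set.ncard_insert_of_notMem k3, Set.ncard_insert_of_notMem k2,
      Set.ncard_insert_of_notMem k1, Set.ncard_singleton]
  have hSys : CfsgLib.ThreeTransp.TwoP.Sys 3 D := ⟨Nat.prime_three, by norm_num, hT.1, hconj,
    fun d hd e he => (em (Commute d e)).imp_right fun h => ts_cube hT hd he h⟩
  obtain ⟨i, hi⟩ := hSys.closed_card (S := M) (fun a ha => ha.1) ⟨x, hB.hx, fun s hs => hs.2.1⟩
    (fun a ha b hb hab => hB.hyp_pair_nc ha.1 hb.1 ha.2 hb.2 hab) fun a ha b hb => closed_both ha.1 hconj hT ha.2 hb.1 hb.2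
  rw [hcard] at hi
  rcases i with _ | _ | i
  · norm_num at hi
  · norm_num at hi
  · rw [pow_succ, pow_succ] at hi; omega

/-- Every involution of the group is a translation or `x` times one. -/
theorem Base.PP_singular [Finite G] {p : G} (hp : p ∈ PP D x v₀) (hpp : p * p = 1) (h1 : p ≠ 1) (hpx : p ≠ x) :
    p ∈ TT D x v₀ ∨ x * p ∈ TT D x v₀ := by
  have hT := hB.hyp.cls.ts
  have hxx := ts_mul_self hT hB.hx
  have hkey : ∀ q ∈ PP D x v₀, q ≠ 1 → Commute v₀ (act q v₀) → q ∈ TT D x v₀ := by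
    intro q hq hq1 hc
    have hne : act q v₀ ≠ v₀ := fun e => hq1 (hB.PP_inj hq (one_mem _) (e.trans (by simp [act])))
    have hfar : ¬ Commute x (act q v₀) := fun h => hB.hxv ((commute_conj_iff q).1 (by
      rw [(hB.PP_x hq).eq, mul_inv_cancel_right]; exact h))
    obtain ⟨a, ha, e⟩ := hB.trans_v (act_mem hB.hyp.cls.conj _ hB.hv) hfar hc hne
    exact hB.PP_inj hq (hB.TT_mem ha) e.symm ▸ ha
  set v := act p v₀
  by_cases hc : Commute v₀ v
  · exact Or.inl (hkey p hp h1 hc)
  right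
  refine hkey _ (mul_mem hB.x_mem hp) (fun e => hpx (by rw [eq_inv_of_mul_eq_one_right e, ts_inv hT hB.hx])) ?_
  set w := v₀ * v * v₀
  have hv' : v ∈ D := act_mem hB.hyp.cls.conj _ hB.hv
  have hwD : w ∈ D := by simpa [w, ts_inv hT hB.hv] using hB.hyp.cls.conj v₀ v hv'
  have hvv : act p v = v₀ := by rw [act_act, hpp]; simp [act]
  have hpw : act p w = w := by
    calc act p w = act p v₀ * act p v * act p v₀ := by unfold act w; group
      _ = v * v₀ * v := by rw [hvv]
      _ = w := (ts_braid hT hB.hv hv' hc).symm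
  have hxw : Commute x w := by
    by_contra h
    obtain ⟨k, hk, e⟩ := hB.PP_trans hwD h
    exact h1 (mul_eq_right.1 (hB.PP_inj (mul_mem hp hk) hk (by rw [← act_act, e, hpw])))
  have hxv' : ¬ Commute x v := fun h => hB.hxv ((commute_conj_iff p).1 (by
    rw [(hB.PP_x hp).eq, mul_inv_cancel_right]; exact h))
  rw [← act_act, show act x v = v * x * v by rw [act, ts_inv hT hB.hx, ts_braid hT hB.hx hv' hxv']]
  refine (commute_conj_iff v).1 ?_
  rw [ts_inv hT hv']
  have e2 : v * (v * x * v) * v = x := by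
    simp only [mul_assoc, ts_mul_self hT hv', mul_one]
    rw [← mul_assoc, ts_mul_self hT hv', one_mul]
  rw [e2, show v * v₀ * v = w from (ts_braid hT hB.hv hv' hc).symm]
  exact hxw.symm

/-- Two members off `x` commute exactly when the difference is a translation. -/
theorem Base.far_iff [Finite G] {p q : G} (hp : p ∈ PP D x v₀) (hq : q ∈ PP D x v₀) :
    Commute (act p v₀) (act q v₀) ↔ p = q ∨ p⁻¹ * q ∈ TT D x v₀ := by
  have e : Commute (act p v₀) (act q v₀) ↔ Commute v₀ (act (p⁻¹ * q) v₀) := by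
    conv_lhs => rw [show act q v₀ = act p (act (p⁻¹ * q) v₀) by rw [act_act, mul_inv_cancel_left]]
    exact commute_conj_iff p
  rw [e]
  constructor
  · intro hc
    by_cases h1 : act (p⁻¹ * q) v₀ = v₀
    · left
      exact inv_mul_eq_one.1 (hB.PP_inj (mul_mem (inv_mem hp) hq) (one_mem _) (h1.trans (by simp [act])))
    right
    have hfar : ¬ Commute x (act (p⁻¹ * q) v₀) := fun h => hB.hxv ((commute_conj_iff (p⁻¹ * q)).1 (by
      rw [(hB.PP_x (mul_mem (inv_mem hp) hq)).eq, mul_inv_cancel_right]; exact h))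
    obtain ⟨a, ha, ha'⟩ := hB.trans_v (act_mem hB.hyp.cls.conj _ hB.hv) hfar hc h1
    exact hB.PP_inj (mul_mem (inv_mem hp) hq) (hB.TT_mem ha) ha'.symm ▸ ha
  · rintro (rfl | ⟨s, hs, h⟩)
    · simp [act]
    · exact hB.act_commute hs h

end CfsgLib.ThreeTransp.Polar
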